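/-
Standard automorphisms of PSL_n: conjugation by GL, field automorphisms, inverse transpose.
-/
import Mathlib
import Cfsg.Prelude.Def_LieTypeDatum

set_option autoImplicit false

namespace CfsgLib.PSLAut

open Matrix
open scoped LinearAlgebra.Projectivization

/-- Automorphisms of a group act on the quotient by its centre. -/
def descend (G : Type*) [Group G] : MulAut G →* MulAut (G ⧸ Subgroup.center G) where
  toFun e := QuotientGroup.congr _ _ e (Subgroup.characteristic_iff_map_eq.1 inferInstance e)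
  map_one' := MulEquiv.ext fun x => QuotientGroup.induction_on x fun _ => rfl
  map_mul' _ _ := MulEquiv.ext fun x => QuotientGroup.induction_on x fun _ => rfl

@[simp] lemma descend_mk {G : Type*} [Group G] (e : MulAut G) (x : G) :
    descend G e (QuotientGroup.mk x) = QuotientGroup.mk (e x) :=
  rfl

variable {F : Type*} [Field F] {n : ℕ}

local notation "SLn" => Matrix.SpecialLinearGroup (Fin n) F
local notation "PSLn" => Matrix.ProjectiveSpecialLinearGroup (Fin n) F

/-- Conjugation by an invertible matrix on `SL`. -/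
def conjSL : GL (Fin n) F →* MulAut SLn where
  toFun g :=
    { toFun := fun s => ⟨(g : Matrix (Fin n) (Fin n) F) * s * (g⁻¹ : GL (Fin n) F),
        by rw [det_units_conj]; exact s.2⟩
      invFun := fun s => ⟨(g⁻¹ : GL (Fin n) F) * (s : Matrix (Fin n) (Fin n) F) * (g : Matrix (Fin n) (Fin n) F),
        by rw [det_units_conj']; exact s.2⟩
      left_inv := fun s => Subtype.ext (by simp [Matrix.mul_assoc])
      right_inv := fun s => Subtype.ext (by simp [Matrix.mul_assoc])
      map_mul' := fun s t => Subtype.ext (by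
        show (g : Matrix (Fin n) (Fin n) F) * (s.1 * t.1) * ((g⁻¹ : GL (Fin n) F) : Matrix (Fin n) (Fin n) F) =
          (g : Matrix (Fin n) (Fin n) F) * s.1 * ((g⁻¹ : GL (Fin n) F) : Matrix (Fin n) (Fin n) F) * ((g : Matrix (Fin n) (Fin n) F) * t.1 * ((g⁻¹ : GL (Fin n) F) : Matrix (Fin n) (Fin n) F))
        simp [Matrix.mul_assoc]) }
  map_one' := MulEquiv.ext fun s => Subtype.ext (by
    show (((1 : GL (Fin n) F) : Matrix (Fin n) (Fin n) F) * s.1 * ((1⁻¹ : GL (Fin n) F) : Matrix (Fin n) (Fin n) F)) = s.1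
    simp)
  map_mul' g h := MulEquiv.ext fun s => Subtype.ext (by
    show ((g * h : GL (Fin n) F) : Matrix (Fin n) (Fin n) F) * s.1 * (((g * h)⁻¹ : GL (Fin n) F) : Matrix (Fin n) (Fin n) F) =
      (g : Matrix (Fin n) (Fin n) F) * ((h : Matrix (Fin n) (Fin n) F) * s.1 * ((h⁻¹ : GL (Fin n) F) : Matrix (Fin n) (Fin n) F)) * ((g⁻¹ : GL (Fin n) F) : Matrix (Fin n) (Fin n) F)
    rw [_root_.mul_inv_rev, Units.val_mul, Units.val_mul]
    simp only [Matrix.mul_assoc])

lemma conjSL_coe (g : GL (Fin n) F) (s : SLn) :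
    ((conjSL g s : SLn) : Matrix (Fin n) (Fin n) F) =
      (g : Matrix (Fin n) (Fin n) F) * s * (g⁻¹ : GL (Fin n) F) := rfl

/-- A field automorphism applied to the entries. -/
def fieldSL : (F ≃+* F) →* MulAut SLn where
  toFun σ :=
    { toFun := Matrix.SpecialLinearGroup.map σ.toRingHom
      invFun := Matrix.SpecialLinearGroup.map σ.symm.toRingHom
      left_inv := fun s => by ext i j; simp
      right_inv := fun s => by ext i j; simp
      map_mul' := map_mul _ }
  map_one' := by ext s i j; rfl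
  map_mul' σ τ := by ext s i j; rfl

lemma fieldSL_coe (σ : F ≃+* F) (s : SLn) :
    ((fieldSL σ s : SLn) : Matrix (Fin n) (Fin n) F) = (s : Matrix (Fin n) (Fin n) F).map σ := rfl

/-- The inverse-transpose automorphism of `SL`. -/
def iotaSL : MulAut SLn where
  toFun s := Matrix.SpecialLinearGroup.transpose s⁻¹
  invFun s := Matrix.SpecialLinearGroup.transpose s⁻¹
  left_inv s := Subtype.ext (by
    simp only [Matrix.SpecialLinearGroup.coe_transpose, Matrix.SpecialLinearGroup.coe_inv, Matrix.adjugate_transpose,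
      Matrix.transpose_transpose]
    exact congrArg Subtype.val (inv_inv s))
  right_inv s := Subtype.ext (by
    simp only [Matrix.SpecialLinearGroup.coe_transpose, Matrix.SpecialLinearGroup.coe_inv, Matrix.adjugate_transpose,
      Matrix.transpose_transpose]
    exact congrArg Subtype.val (inv_inv s))
  map_mul' s t := Subtype.ext (by simp [Matrix.adjugate_mul_distrib, Matrix.SpecialLinearGroup.coe_transpose,
    Matrix.SpecialLinearGroup.coe_inv])

lemma iotaSL_apply (s : SLn) : iotaSL s = Matrix.SpecialLinearGroup.transpose s⁻¹ := rfl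

lemma iotaSL_coe (s : SLn) : ((iotaSL s : SLn) : Matrix (Fin n) (Fin n) F) =
    ((s⁻¹ : SLn) : Matrix (Fin n) (Fin n) F)ᵀ := rfl

/-- The inverse transpose of an invertible matrix. -/
def iotaGL : GL (Fin n) F →* GL (Fin n) F where
  toFun g := ⟨((g⁻¹ : GL (Fin n) F) : Matrix (Fin n) (Fin n) F)ᵀ, (g : Matrix (Fin n) (Fin n) F)ᵀ,
    by rw [← transpose_mul, ← Units.val_mul, mul_inv_cancel, Units.val_one, transpose_one],
    by rw [← transpose_mul, ← Units.val_mul, inv_mul_cancel, Units.val_one, transpose_one]⟩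
  map_one' := Units.ext (by simp)
  map_mul' g h := Units.ext (by simp)

/-- A field automorphism applied to an invertible matrix. -/
abbrev fieldGL (σ : F ≃+* F) : GL (Fin n) F →* GL (Fin n) F :=
  Units.map σ.toRingHom.mapMatrix.toMonoidHom

/-- The automorphism of `PSL` induced by an invertible matrix. -/
def conjAut : GL (Fin n) F →* MulAut PSLn := (descend SLn).comp conjSL

/-- The standard field automorphism of `PSL`. -/
def fieldAut : (F ≃+* F) →* MulAut PSLn := (descend SLn).comp fieldSL

/-- The inverse-transpose automorphism of `PSL`. -/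
def iotaAut : MulAut PSLn := descend SLn iotaSL

@[simp] lemma conjAut_mk (g : GL (Fin n) F) (s : SLn) :
    conjAut g (QuotientGroup.mk s : PSLn) = QuotientGroup.mk (conjSL g s) := descend_mk _ _

@[simp] lemma fieldAut_mk (σ : F ≃+* F) (s : SLn) :
    fieldAut σ (QuotientGroup.mk s : PSLn) = QuotientGroup.mk (fieldSL σ s) := descend_mk _ _

@[simp] lemma iotaAut_mk (s : SLn) :
    iotaAut (QuotientGroup.mk s : PSLn) = QuotientGroup.mk (iotaSL s) := descend_mk _ _

lemma iotaAut_mul_self : (iotaAut : MulAut PSLn) * iotaAut = 1 := by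
  rw [iotaAut, ← map_mul, ← map_one (descend SLn)]
  congr 1
  ext s i j
  exact congrFun (congrFun (congrArg Subtype.val (iotaSL.left_inv s)) i) j

lemma iotaAut_inv : (iotaAut : MulAut PSLn)⁻¹ = iotaAut := inv_eq_of_mul_eq_one_right iotaAut_mul_self

lemma fieldSL_mul_conjSL (σ : F ≃+* F) (g : GL (Fin n) F) :
    (fieldSL σ : MulAut SLn) * conjSL g = conjSL (fieldGL σ g) * fieldSL σ := by
  refine MulEquiv.ext fun s => Subtype.ext ?_
  simp only [MulAut.mul_apply, conjSL_coe, fieldSL_coe, Matrix.map_mul, ← map_inv]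
  rfl

lemma fieldAut_mul_conjAut (σ : F ≃+* F) (g : GL (Fin n) F) :
    (fieldAut σ : MulAut PSLn) * conjAut g = conjAut (fieldGL σ g) * fieldAut σ := by
  simp only [fieldAut, conjAut, MonoidHom.comp_apply, ← map_mul, fieldSL_mul_conjSL]

lemma iotaSL_mul_conjSL (g : GL (Fin n) F) :
    (iotaSL : MulAut SLn) * conjSL g = conjSL (iotaGL g) * iotaSL := by
  refine MulEquiv.ext fun s => Subtype.ext ?_
  simp only [MulAut.mul_apply, conjSL_coe, iotaSL_coe, ← map_inv (conjSL g), ← map_inv]
  simp [iotaGL, Matrix.mul_assoc]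

lemma iotaAut_mul_conjAut (g : GL (Fin n) F) :
    (iotaAut : MulAut PSLn) * conjAut g = conjAut (iotaGL g) * iotaAut := by
  simp only [iotaAut, conjAut, MonoidHom.comp_apply, ← map_mul, iotaSL_mul_conjSL]

lemma iotaAut_mul_fieldAut (σ : F ≃+* F) :
    (iotaAut : MulAut PSLn) * fieldAut σ = fieldAut σ * iotaAut := by
  rw [iotaAut, fieldAut, MonoidHom.comp_apply, ← map_mul, ← map_mul]
  congr 1
  refine MulEquiv.ext fun s => Subtype.ext ?_
  simp only [MulAut.mul_apply, iotaSL_coe, fieldSL_coe, ← map_inv (fieldSL σ), Matrix.transpose_map]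

lemma conj_eq_conjAut (s : SLn) :
    MulAut.conj (QuotientGroup.mk s : PSLn) = conjAut (Matrix.SpecialLinearGroup.toGL s) := by
  ext x
  induction x using QuotientGroup.induction_on with | _ t => ?_
  rw [conjAut_mk, MulAut.conj_apply, ← QuotientGroup.mk_inv, ← QuotientGroup.mk_mul, ← QuotientGroup.mk_mul]
  congr 1

lemma eq_of_mk {β γ : PSLn ≃* PSLn} (h : ∀ s : SLn, β (QuotientGroup.mk s) = γ (QuotientGroup.mk s)) :
    β = γ := MulEquiv.ext fun x => QuotientGroup.induction_on x h

/-- The inner-diagonal automorphisms are the `conjAut g`. -/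
lemma isInnerDiagonalAutPSL_iff (β : MulAut PSLn) :
    Cfsg.IsInnerDiagonalAutPSL β ↔ ∃ g, β = conjAut g := by
  constructor
  · rintro ⟨g, hg⟩
    exact ⟨g, eq_of_mk fun s => by rw [conjAut_mk]; exact hg s _ rfl⟩
  · rintro ⟨g, rfl⟩
    exact ⟨g, fun s s' h => by
      rw [conjAut_mk]; exact congrArg _ (Subtype.ext h.symm)⟩

lemma isStdFieldAutPSL_iff (σ : F ≃+* F) (β : MulAut PSLn) :
    Cfsg.IsStdFieldAutPSL σ β ↔ β = fieldAut σ := by
  constructor
  · exact fun h => eq_of_mk fun s => by rw [fieldAut_mk]; exact h s _ rfl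
  · rintro rfl s s' h
    rw [fieldAut_mk]
    exact congrArg _ (Subtype.ext h.symm)

lemma isInverseTransposeAutPSL_iff (β : MulAut PSLn) :
    Cfsg.IsInverseTransposeAutPSL β ↔ β = iotaAut := by
  constructor
  · exact fun h => eq_of_mk fun s => by rw [iotaAut_mk]; exact h s _ rfl
  · rintro rfl s s' h
    rw [iotaAut_mk]
    exact congrArg _ (Subtype.ext h.symm)

lemma isInducedBySemilinearPSL_iff (g : GL (Fin n) F) (σ : F ≃+* F) (β : MulAut PSLn) :
    Cfsg.IsInducedBySemilinearPSL g σ β ↔ β = conjAut g * fieldAut σ := by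
  constructor
  · exact fun h => eq_of_mk fun s => by
      rw [MulAut.mul_apply, fieldAut_mk, conjAut_mk]; exact h s _ rfl
  · rintro rfl s s' h
    rw [MulAut.mul_apply, fieldAut_mk, conjAut_mk]
    exact congrArg _ (Subtype.ext h.symm)

lemma inndiagPSL_eq : Cfsg.inndiagPSL n F = (conjAut : GL (Fin n) F →* MulAut PSLn).range := by
  rw [Cfsg.inndiagPSL, Cfsg.autSubgroupOf]
  simp_rw [isInnerDiagonalAutPSL_iff]
  rw [show {β : MulAut PSLn | ∃ g, β = conjAut g} = ((conjAut : GL (Fin n) F →* MulAut PSLn).range : Set (MulAut PSLn)) by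
    ext β; simp [eq_comm]]
  exact Subgroup.closure_eq _

end CfsgLib.PSLAut
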