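/-
Hilbert 90 for GL_n over a finite field with a field automorphism: norm-one elements are twisted coboundaries.
-/
import Cfsg.Agent.Lib.KnownSimple.PSLAut.Basic
import Cfsg.Agent.S0755

set_option autoImplicit false

namespace CfsgLib.PSLAut

open Matrix

variable {F : Type*} [Field F] {n : ℕ}

/-- The twisted norm `g σ(g) ⋯ σ^(k-1)(g)`. -/
def twNorm (σ : F ≃+* F) : ℕ → GL (Fin n) F → GL (Fin n) F
  | 0, _ => 1
  | k + 1, g => g * fieldGL σ (twNorm σ k g)

@[simp] lemma fieldGL_val (σ : F ≃+* F) (g : GL (Fin n) F) :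
    (fieldGL σ g : Matrix (Fin n) (Fin n) F) = (g : Matrix (Fin n) (Fin n) F).map σ := rfl

lemma fieldGL_one (g : GL (Fin n) F) : fieldGL (1 : F ≃+* F) g = g :=
  Units.ext (Matrix.ext fun _ _ => rfl)

lemma fieldGL_mul (σ τ : F ≃+* F) (g : GL (Fin n) F) : fieldGL (σ * τ) g = fieldGL σ (fieldGL τ g) :=
  Units.ext (Matrix.ext fun _ _ => rfl)

lemma fieldGL_scalar (σ : F ≃+* F) (c : Fˣ) :
    fieldGL (n := n) σ (GeneralLinearGroup.scalar (Fin n) c) = GeneralLinearGroup.scalar (Fin n) (Units.map σ.toRingHom.toMonoidHom c) := by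
  refine Units.ext (Matrix.ext fun i j => ?_)
  rcases eq_or_ne i j with rfl | h <;> simp [*]

lemma map_mulVec_comp (σ : F ≃+* F) (M : Matrix (Fin n) (Fin n) F) (v : Fin n → F) :
    σ ∘ (M *ᵥ v) = (M.map σ) *ᵥ (σ ∘ v) := by
  funext i
  simp [mulVec, dotProduct, map_sum]

/-- The twisted powers of the semilinear map. -/
lemma conjAut_mul_fieldAut_pow (σ : F ≃+* F) (g : GL (Fin n) F) : ∀ k : ℕ,
    (conjAut g * fieldAut σ : MulAut (Matrix.ProjectiveSpecialLinearGroup (Fin n) F)) ^ k =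
      conjAut (twNorm σ k g) * fieldAut (σ ^ k)
  | 0 => by simp [twNorm]
  | k + 1 => by
    rw [pow_succ', conjAut_mul_fieldAut_pow σ g k, twNorm, map_mul, pow_succ', map_mul fieldAut, mul_assoc,
      ← mul_assoc (fieldAut σ), fieldAut_mul_conjAut]
    simp only [mul_assoc]

variable [Fintype F]

omit [Fintype F] in
lemma finite_ringAut [Finite F] : Finite (F ≃+* F) :=
  Finite.of_injective (fun σ : F ≃+* F => ⇑σ) DFunLike.coe_injective

/-- Hilbert 90 for `GL_n`. -/
theorem exists_eq_mul_inv_fieldGL {σ : F ≃+* F} {r : ℕ} (hσ : orderOf σ = r) {g : GL (Fin n) F}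
    (hg : twNorm σ r g = 1) : ∃ h : GL (Fin n) F, g = h * (fieldGL σ h)⁻¹ := by
  classical
  let T : (Fin n → F) → (Fin n → F) := fun v => (g : Matrix (Fin n) (Fin n) F) *ᵥ (σ ∘ v)
  have hTk : ∀ (k : ℕ) (v : Fin n → F), T^[k] v =
      (twNorm σ k g : Matrix (Fin n) (Fin n) F) *ᵥ (⇑(σ ^ k) ∘ v) := by
    intro k
    induction k with
    | zero => intro v; simp [twNorm]
    | succ k ih =>
      intro v
      rw [Function.iterate_succ_apply', ih]
      show (g : Matrix (Fin n) (Fin n) F) *ᵥ (σ ∘ _) = _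
      rw [map_mulVec_comp, mulVec_mulVec, twNorm, Units.val_mul, fieldGL_val, pow_succ']
      rfl
  have hTr : ∀ v, T^[r] v = v := fun v => by
    rw [hTk, hg, ← hσ, pow_orderOf_eq_one, Units.val_one, one_mulVec]
    rfl
  have hTadd : ∀ u v, T (u + v) = T u + T v := fun u v => by
    show (g : Matrix (Fin n) (Fin n) F) *ᵥ (σ ∘ (u + v)) = _
    rw [← mulVec_add]
    congr 1
    funext i
    simp
  let Tm : (Fin n → F) →+ (Fin n → F) := AddMonoidHom.mk' T hTadd
  have hTsmul : ∀ (a : F) (v : Fin n → F), T (a • v) = σ a • T v := fun a v => by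
    show (g : Matrix (Fin n) (Fin n) F) *ᵥ (σ ∘ (a • v)) = _
    rw [← mulVec_smul]
    congr 1
    funext i
    simp
  haveI := finite_ringAut (F := F)
  have hrpos : 0 < r := hσ ▸ orderOf_pos σ
  have hfix : Submodule.span F {w : Fin n → F | T w = w} = ⊤ := by
    by_contra hne
    obtain ⟨φ, hφ0, hφ⟩ := Submodule.exists_le_ker_of_lt_top _ (lt_of_le_of_ne le_top hne)
    apply hφ0
    refine LinearMap.ext fun v => ?_
    have hrel : ∀ a : F, ∑ i ∈ Finset.range r, (σ ^ i) a * φ (T^[i] v) = 0 := by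
      intro a
      have hw : T (∑ i ∈ Finset.range r, (σ ^ i) a • T^[i] v) = ∑ i ∈ Finset.range r, (σ ^ i) a • T^[i] v := by
        show Tm _ = _
        rw [map_sum]
        show ∑ i ∈ Finset.range r, T ((σ ^ i) a • T^[i] v) = _
        simp only [hTsmul, ← RingAut.mul_apply, ← pow_succ', ← Function.iterate_succ_apply' T]
        have h0 := Finset.sum_range_succ' (fun i => (σ ^ i) a • T^[i] v) r
        have h1 := Finset.sum_range_succ (fun i => (σ ^ i) a • T^[i] v) r
        have hr1 : (σ ^ r) a • T^[r] v = (σ ^ 0) a • T^[0] v := by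
          rw [hTr, ← hσ, pow_orderOf_eq_one, pow_zero]
          rfl
        rw [h1, hr1] at h0
        exact (add_right_cancel h0).symm
      have := hφ (Submodule.subset_span hw)
      rw [LinearMap.mem_ker, map_sum] at this
      simpa [map_smul] using this
    let χ : Fin r → (F →* F) := fun i => ((σ ^ (i : ℕ) : F ≃+* F) : F →+* F).toMonoidHom
    have hχ : Function.Injective χ := by
      intro i j hij
      refine Fin.ext (pow_injOn_Iio_orderOf (x := σ) (by rw [Set.mem_Iio, hσ]; exact i.2)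
        (by rw [Set.mem_Iio, hσ]; exact j.2) (RingEquiv.ext fun x => ?_))
      exact DFunLike.congr_fun hij x
    have hli := Fintype.linearIndependent_iff.1 ((linearIndependent_monoidHom F F).comp χ hχ)
      (fun i => φ (T^[(i : ℕ)] v)) (by
        funext a
        have h := hrel a
        rw [← Fin.sum_univ_eq_sum_range (fun i => (σ ^ i) a * φ (T^[i] v))] at h
        simpa [χ, Finset.sum_apply, mul_comm] using h) ⟨0, hrpos⟩
    simpa using hli
  obtain ⟨t, ht, htspan, hli⟩ := exists_linearIndependent F {w : Fin n → F | T w = w}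
  rw [hfix] at htspan
  let b0 : Module.Basis t F (Fin n → F) := Module.Basis.mk hli (by rw [Subtype.range_coe]; exact htspan.ge)
  haveI : Fintype t := Fintype.ofFinite _
  let b := b0.reindex (Fintype.equivFinOfCardEq
    (show Fintype.card t = n by rw [← Module.finrank_eq_card_basis b0, Module.finrank_fin_fun]))
  have hb : ∀ i, T (b i) = b i := fun i => ht (show b i ∈ t by simp [b, b0])
  obtain ⟨h, hh⟩ := Matrix.linearIndependent_cols_iff_isUnit.1
    (show LinearIndependent F (Matrix.of fun i j => b j i : Matrix (Fin n) (Fin n) F).col from b.linearIndependent)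
  refine ⟨h, ?_⟩
  rw [eq_mul_inv_iff_mul_eq]
  refine Units.ext (Matrix.ext fun i j => ?_)
  have := congrFun (hb j) i
  rw [Units.val_mul, fieldGL_val, hh]
  simpa [T, mulVec, dotProduct, Matrix.mul_apply] using this

/-- The fixed field. -/
abbrev fixedField (σ : F ≃+* F) : Subfield F := RingHom.eqLocusField (σ : F →+* F) (RingHom.id F)

omit [Fintype F] in
lemma mem_fixedField {σ : F ≃+* F} {x : F} : x ∈ fixedField σ ↔ σ x = x := Iff.rfl

lemma card_fixedField (σ : F ≃+* F) :
    Fintype.card F = Nat.card (fixedField σ) ^ orderOf σ := by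
  classical
  let G : Subgroup (F ≃+* F) := Subgroup.zpowers σ
  haveI : FaithfulSMul G F := ⟨fun {a b} h => Subtype.ext (RingEquiv.ext h)⟩
  haveI := finite_ringAut (F := F)
  letI : Fintype G := Fintype.ofFinite G
  have h := Module.natCard_eq_pow_finrank (K := FixedPoints.subfield G F) (V := F)
  rw [FixedPoints.finrank_eq_card, ← Nat.card_eq_fintype_card (α := G), Nat.card_zpowers, Nat.card_eq_fintype_card (α := F)] at h
  rw [h]
  congr 1
  refine Nat.card_congr (Equiv.subtypeEquivRight fun x => ?_)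
  constructor
  · exact fun hx => hx ⟨σ, Subgroup.mem_zpowers σ⟩
  · rintro hx ⟨τ, hτ⟩
    obtain ⟨k, rfl⟩ := (mem_powers_iff_mem_zpowers (x := σ)).2 hτ
    show (σ ^ k) x = x
    induction k with
    | zero => rfl
    | succ k ih => rw [pow_succ, RingAut.mul_apply, show σ x = x from hx, ih (Subgroup.pow_mem _ (Subgroup.mem_zpowers σ) k)]

/-- The units of the fixed field. -/
def fixedUnits (σ : F ≃+* F) : Subgroup Fˣ where
  carrier := {x | σ (x : F) = x}
  one_mem' := map_one σ
  mul_mem' := fun {a b} ha hb => by simpa using congrArg₂ (· * ·) ha hb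
  inv_mem' := fun {a} ha => by
    show σ ((a⁻¹ : Fˣ) : F) = ((a⁻¹ : Fˣ) : F)
    rw [Units.val_inv_eq_inv_val, map_inv₀, show σ (a : F) = a from ha]

lemma card_fixedUnits (σ : F ≃+* F) : Nat.card (fixedUnits σ) = Nat.card (fixedField σ) - 1 := by
  rw [← Nat.card_units (fixedField σ)]
  exact Nat.card_congr
    { toFun := fun x => Units.mk0 ⟨((x : Fˣ) : F), x.2⟩ (fun h => (x : Fˣ).ne_zero (congrArg Subtype.val h))
      invFun := fun y => ⟨Units.mk0 ((y : fixedField σ) : F) (fun h => y.ne_zero (Subtype.ext h)), (y : fixedField σ).2⟩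
      left_inv := fun x => Subtype.ext (Units.ext rfl)
      right_inv := fun y => Units.ext rfl }

/-- `y ↦ y / σ(y)`. -/
def nuHom (σ : F ≃+* F) : Fˣ →* Fˣ := MonoidHom.id Fˣ / Units.map σ.toRingHom.toMonoidHom

lemma nuHom_apply (σ : F ≃+* F) (y : Fˣ) : nuHom σ y = y / Units.map σ.toRingHom.toMonoidHom y := rfl

lemma ker_nuHom (σ : F ≃+* F) : (nuHom σ).ker = fixedUnits σ := by
  ext x
  rw [MonoidHom.mem_ker, nuHom_apply, div_eq_one]
  exact ⟨fun h => (congrArg Units.val h).symm, fun h => Units.ext h.symm⟩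

/-- The norm to the fixed field. -/
def normHom (σ : F ≃+* F) : ℕ → (Fˣ →* Fˣ)
  | 0 => 1
  | k + 1 => MonoidHom.id Fˣ * (Units.map σ.toRingHom.toMonoidHom).comp (normHom σ k)

lemma twNorm_scalar (σ : F ≃+* F) (c : Fˣ) : ∀ k,
    twNorm (n := n) σ k (GeneralLinearGroup.scalar (Fin n) c) = GeneralLinearGroup.scalar (Fin n) (normHom σ k c)
  | 0 => by simp [twNorm, normHom]
  | k + 1 => by
    rw [twNorm, twNorm_scalar σ c k, fieldGL_scalar, ← map_mul]
    rfl

lemma twNorm_mul_scalar (σ : F ≃+* F) (c : Fˣ) (g : GL (Fin n) F) : ∀ k,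
    twNorm σ k (GeneralLinearGroup.scalar (Fin n) c * g) =
      GeneralLinearGroup.scalar (Fin n) (normHom σ k c) * twNorm σ k g
  | 0 => by simp [twNorm, normHom]
  | k + 1 => by
    rw [twNorm, twNorm_mul_scalar σ c g k, map_mul, fieldGL_scalar, twNorm]
    have hc : ∀ (d : Fˣ) (M : GL (Fin n) F), M * GeneralLinearGroup.scalar (Fin n) d =
        GeneralLinearGroup.scalar (Fin n) d * M := fun d M => Units.ext (by ext i j; simp [mul_comm])
    rw [show normHom σ (k + 1) c = c * Units.map σ.toRingHom.toMonoidHom (normHom σ k c) from rfl, map_mul]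
    simp only [mul_assoc]
    rw [← mul_assoc g, hc, mul_assoc]

lemma normHom_ker {σ : F ≃+* F} {r : ℕ} (hσ : orderOf σ = r) :
    (normHom σ r).ker ≤ (nuHom σ).range := by
  intro c hc
  obtain ⟨h, hh⟩ := exists_eq_mul_inv_fieldGL (n := 1) hσ (g := GeneralLinearGroup.scalar (Fin 1) c)
    (by rw [twNorm_scalar, MonoidHom.mem_ker.1 hc, map_one])
  refine ⟨GeneralLinearGroup.det h, ?_⟩
  have h2 := congrArg GeneralLinearGroup.det hh
  rw [map_mul, map_inv] at h2
  have h3 : GeneralLinearGroup.det (fieldGL σ h) = Units.map σ.toRingHom.toMonoidHom (GeneralLinearGroup.det h) := by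
    refine Units.ext ?_
    simp [det_fin_one]
  have h4 : GeneralLinearGroup.det (GeneralLinearGroup.scalar (Fin 1) c) = c := Units.ext (by simp)
  rw [h4, h3] at h2
  rw [nuHom_apply, div_eq_mul_inv, ← h2]

lemma normHom_fixed {σ : F ≃+* F} {r : ℕ} (hσ : orderOf σ = r) (c : Fˣ) :
    normHom σ r c ∈ fixedUnits σ := by
  have hk : ∀ k, normHom σ (k + 1) c = normHom σ k c * Units.map (σ ^ k : F ≃+* F).toRingHom.toMonoidHom c := by
    intro k
    induction k with
    | zero => exact Units.ext (by simp [normHom])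
    | succ k ih =>
      show c * Units.map σ.toRingHom.toMonoidHom (normHom σ (k + 1) c) = _
      rw [ih, map_mul, ← mul_assoc]
      congr 1
      exact Units.ext (by rw [pow_succ']; rfl)
  show σ ((normHom σ r c : Fˣ) : F) = _
  have h1 := congrArg Units.val (hk r)
  rw [← hσ, pow_orderOf_eq_one] at h1
  rw [hσ] at h1
  have h1' : (c : F) * σ (normHom σ r c : Fˣ) = (normHom σ r c : Fˣ) * (c : F) := h1
  exact mul_left_cancel₀ c.ne_zero (h1'.trans (mul_comm _ _))

/-- The norm is onto the fixed units. -/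
lemma range_normHom {σ : F ≃+* F} {r : ℕ} (hσ : orderOf σ = r) : (normHom σ r).range = fixedUnits σ := by
  refine Subgroup.eq_of_le_of_card_ge ?_ ?_
  · rintro _ ⟨c, rfl⟩; exact normHom_fixed hσ c
  · have h1 := Subgroup.index_mul_card (normHom σ r).ker
    have h2 := Subgroup.index_mul_card (nuHom σ).ker
    rw [Subgroup.index_ker] at h1 h2
    rw [ker_nuHom] at h2
    have h3 := Subgroup.card_le_of_le (normHom_ker hσ)
    have h4 : 0 < Nat.card (nuHom σ).range := Nat.card_pos
    nlinarith [Nat.zero_le (Nat.card (normHom σ r).range)]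

/-- An element whose twisted norm is scalar is a twisted coboundary up to scalars. -/
theorem exists_coboundary_of_scalar {σ : F ≃+* F} {r : ℕ} (hσ : orderOf σ = r) {g : GL (Fin n) F} {c : Fˣ}
    (hg : twNorm σ r g = GeneralLinearGroup.scalar (Fin n) c) (hn : 1 ≤ n) :
    ∃ (h : GL (Fin n) F) (d : Fˣ), g = GeneralLinearGroup.scalar (Fin n) d * (h * (fieldGL σ h)⁻¹) := by
  have hk : ∀ k, twNorm σ (k + 1) g = twNorm σ k g * fieldGL (σ ^ k) g := by
    intro k
    induction k with
    | zero => simp [twNorm, fieldGL_one]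
    | succ k ih =>
      show g * fieldGL σ (twNorm σ (k + 1) g) = _
      rw [ih, map_mul, ← mul_assoc, ← fieldGL_mul, ← pow_succ', ← ih]
      rfl
  have hcfix : c ∈ fixedUnits σ := by
    have h1 := hk r
    rw [show σ ^ r = 1 by rw [← hσ, pow_orderOf_eq_one], fieldGL_one] at h1
    have h1' : g * fieldGL σ (twNorm σ r g) = twNorm σ r g * g := h1
    rw [hg, fieldGL_scalar] at h1'
    have h2 : GeneralLinearGroup.scalar (Fin n) (Units.map σ.toRingHom.toMonoidHom c) =
        GeneralLinearGroup.scalar (Fin n) c := mul_left_cancel (a := g) (h1'.trans (Units.ext (by ext i j; simp [mul_comm])))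
    have h3 := congrArg (fun M : GL (Fin n) F => (M : Matrix (Fin n) (Fin n) F) ⟨0, hn⟩ ⟨0, hn⟩) h2
    show σ (c : F) = c
    simpa using h3
  obtain ⟨d, hd⟩ : c ∈ (normHom σ r).range := range_normHom hσ ▸ hcfix
  obtain ⟨h, hh⟩ := exists_eq_mul_inv_fieldGL hσ (g := GeneralLinearGroup.scalar (Fin n) d⁻¹ * g)
    (by rw [twNorm_mul_scalar, hg, map_inv, hd, ← map_mul, inv_mul_cancel, map_one])
  refine ⟨h, d, ?_⟩
  rw [← hh, ← mul_assoc, ← map_mul, mul_inv_cancel, map_one, one_mul]

/-- An invertible Hermitian matrix has the form `h σ(h)ᵀ`. -/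
theorem exists_hermitian_factor {σ : F ≃+* F} (hne : σ ≠ RingEquiv.refl F) (hinv : ∀ a, σ (σ a) = a)
    {g : GL (Fin n) F} (hg : ((g : Matrix (Fin n) (Fin n) F).map σ)ᵀ = g) :
    ∃ h : GL (Fin n) F, (g : Matrix (Fin n) (Fin n) F) = (h : Matrix (Fin n) (Fin n) F) * ((h : Matrix (Fin n) (Fin n) F).map σ)ᵀ := by
  classical
  set M : Matrix (Fin n) (Fin n) F := (g : Matrix (Fin n) (Fin n) F) with hM
  let B : (Fin n → F) →ₛₗ[(σ : F →+* F)] (Fin n → F) →ₗ[F] F :=
    LinearMap.mk₂'ₛₗ (σ : F →+* F) (RingHom.id F) (fun u v => (σ ∘ u) ⬝ᵥ (M *ᵥ v))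
      (fun u u' v => by
        rw [show σ ∘ (u + u') = σ ∘ u + σ ∘ u' from funext fun i => map_add σ _ _, add_dotProduct])
      (fun a u v => by
        rw [show σ ∘ (a • u) = σ a • (σ ∘ u) from funext fun i => map_mul σ a (u i), smul_dotProduct]; rfl)
      (fun u v v' => by rw [mulVec_add, dotProduct_add])
      (fun a u v => by rw [mulVec_smul, dotProduct_smul]; rfl)
  have hB : ∀ u v, B u v = (σ ∘ u) ⬝ᵥ (M *ᵥ v) := fun u v => rfl
  have hsym : ∀ u v, σ (B u v) = B v u := by
    intro u v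
    rw [hB, hB]
    have e : σ ((σ ∘ u) ⬝ᵥ (M *ᵥ v)) = u ⬝ᵥ ((M.map σ) *ᵥ (σ ∘ v)) := by
      rw [← map_mulVec_comp]
      simp [dotProduct, map_sum, hinv]
    rw [e, dotProduct_mulVec, ← mulVec_transpose, hg, dotProduct_comm]
  have hleft : B.SeparatingLeft := fun u hu => by
    have h0 : (σ ∘ u) ᵥ* M = 0 := by
      funext i
      have := hu (Pi.single i 1)
      rw [hB, dotProduct_mulVec] at this
      simpa using this
    have h1 := congrArg (fun x => x ᵥ* ((g⁻¹ : GL (Fin n) F) : Matrix (Fin n) (Fin n) F)) h0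
    rw [vecMul_vecMul, hM, Units.mul_inv, vecMul_one, zero_vecMul] at h1
    funext i
    exact σ.injective (by simpa using congrFun h1 i)
  have hnd : B.Nondegenerate := ⟨hleft, fun v hv => hleft v fun w => by
    rw [← hsym w v, hv w, map_zero]⟩
  obtain ⟨b, hb⟩ := Cfsg.Agent.S0755.result (σ : F →+* F)
    (fun h => hne (RingEquiv.ext fun x => DFunLike.congr_fun h x)) hinv B ⟨fun u v => hsym u v⟩ hnd
  let b' := b.reindex (finCongr (Module.finrank_fin_fun F (n := n)))
  have hb' : ∀ i j, B (b' i) (b' j) = if i = j then 1 else 0 := fun i j => by simp [b', hb]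
  obtain ⟨P, hP⟩ := Matrix.linearIndependent_cols_iff_isUnit.1
    (show LinearIndependent F (Matrix.of fun i j => b' j i : Matrix (Fin n) (Fin n) F).col from b'.linearIndependent)
  have hPMP : ((P : Matrix (Fin n) (Fin n) F).map σ)ᵀ * M * (P : Matrix (Fin n) (Fin n) F) = 1 := by
    ext i j
    rw [Matrix.one_apply, ← hb' i j, hB, hP, dotProduct_mulVec]
    simp [Matrix.mul_apply, vecMul, dotProduct, Finset.sum_mul]
  refine ⟨iotaGL (fieldGL σ P), ?_⟩
  have h1 : ((iotaGL (fieldGL σ P) : GL (Fin n) F) : Matrix (Fin n) (Fin n) F) * ((P : Matrix (Fin n) (Fin n) F).map σ)ᵀ = 1 := by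
    show ((fieldGL σ P)⁻¹ : GL (Fin n) F).1ᵀ * (fieldGL σ P).1ᵀ = 1
    rw [← transpose_mul, Units.mul_inv, transpose_one]
  have h2 : (P : Matrix (Fin n) (Fin n) F) * (((iotaGL (fieldGL σ P) : GL (Fin n) F) : Matrix (Fin n) (Fin n) F).map σ)ᵀ = 1 := by
    have : (((iotaGL (fieldGL σ P) : GL (Fin n) F) : Matrix (Fin n) (Fin n) F).map σ)ᵀ = ((P⁻¹ : GL (Fin n) F) : Matrix (Fin n) (Fin n) F) := by
      show ((((fieldGL σ P)⁻¹ : GL (Fin n) F) : Matrix (Fin n) (Fin n) F)ᵀ.map σ)ᵀ = _
      rw [← map_inv, fieldGL_val, transpose_map, transpose_transpose, Matrix.map_map]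
      ext i j
      simp [hinv]
    rw [this, Units.mul_inv]
  set H : Matrix (Fin n) (Fin n) F := ((iotaGL (fieldGL σ P) : GL (Fin n) F) : Matrix (Fin n) (Fin n) F) with hH
  calc M = (H * ((P : Matrix (Fin n) (Fin n) F).map σ)ᵀ) * M * ((P : Matrix (Fin n) (Fin n) F) * (H.map σ)ᵀ) := by
        rw [h1, h2, one_mul, mul_one]
    _ = H * (((P : Matrix (Fin n) (Fin n) F).map σ)ᵀ * M * (P : Matrix (Fin n) (Fin n) F)) * (H.map σ)ᵀ := by
        simp only [Matrix.mul_assoc]
    _ = H * (H.map σ)ᵀ := by rw [hPMP, mul_one]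

end CfsgLib.PSLAut
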