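/-
Automorphisms of a finite field fixing the fixed field of `σ` are powers of `σ`.
-/
import Cfsg.Agent.Lib.KnownSimple.PSLAut.Descent

set_option autoImplicit false

namespace CfsgLib.PSLAut

variable {F : Type*} [Field F] [Fintype F]

lemma mem_zpowers_of_fixes {σ τ : F ≃+* F} (h : ∀ x : F, σ x = x → τ x = x) : τ ∈ Subgroup.zpowers σ := by
  classical
  let G : Subgroup (F ≃+* F) := Subgroup.zpowers σ
  haveI : FaithfulSMul G F := ⟨fun {a b} h => Subtype.ext (RingEquiv.ext h)⟩
  haveI := finite_ringAut (F := F)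
  let f : F →ₐ[FixedPoints.subfield G F] F :=
    { (τ : F →+* F) with commutes' := fun x => h x.1 (x.2 ⟨σ, Subgroup.mem_zpowers σ⟩) }
  obtain ⟨g, hg⟩ := (FixedPoints.toAlgHom_bijective G F).2 f
  have : (g : F ≃+* F) = τ := RingEquiv.ext fun x => AlgHom.congr_fun hg x
  rw [← this]; exact g.2

end CfsgLib.PSLAut
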