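/-
Semilinear maps of projective space, and the fundamental theorem of projective geometry over a field.
-/
import Mathlib

set_option autoImplicit false

namespace CfsgLib.PSLAut

open Matrix
open scoped LinearAlgebra.Projectivization

variable {F : Type*} [Field F] {n : ℕ}

local notation "Pn" => ℙ F (Fin n → F)

/-- A permutation of points that maps the line of two points into the line of their images. -/
def PreservesLines (π : Pn ≃ Pn) : Prop :=
  ∀ p q r : Pn, r.submodule ≤ p.submodule ⊔ q.submodule → (π r).submodule ≤ (π p).submodule ⊔ (π q).submodule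

/-- `π` is induced by the semilinear map `v ↦ g σ(v)`. -/
def InducedBy (π : Pn → Pn) (g : GL (Fin n) F) (σ : F ≃+* F) : Prop :=
  ∀ (v : Fin n → F) (hv : v ≠ 0), (π (Projectivization.mk F v hv)).submodule =
    Submodule.span F {(g : Matrix (Fin n) (Fin n) F) *ᵥ (σ ∘ v)}

lemma sigma_comp_ne_zero (σ : F ≃+* F) {v : Fin n → F} (hv : v ≠ 0) : σ ∘ v ≠ 0 := fun h =>
  hv (funext fun i => σ.injective (by simpa using congrFun h i))

lemma gl_mulVec_ne_zero (g : GL (Fin n) F) {v : Fin n → F} (hv : v ≠ 0) :
    (g : Matrix (Fin n) (Fin n) F) *ᵥ v ≠ 0 := fun h =>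
  hv (by simpa [mulVec_mulVec] using congrArg (fun x => ((g⁻¹ : GL (Fin n) F) : Matrix (Fin n) (Fin n) F) *ᵥ x) h)

/-- The point transformation of a semilinear map. -/
noncomputable def semiPt (g : GL (Fin n) F) (σ : F ≃+* F) (p : Pn) : Pn :=
  Projectivization.mk F ((g : Matrix (Fin n) (Fin n) F) *ᵥ (σ ∘ p.rep))
    (gl_mulVec_ne_zero g (sigma_comp_ne_zero σ p.rep_nonzero))

lemma inducedBy_semiPt (g : GL (Fin n) F) (σ : F ≃+* F) : InducedBy (semiPt g σ) g σ := by
  intro v hv
  rw [semiPt, Projectivization.submodule_mk]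
  obtain ⟨a, ha⟩ := Projectivization.exists_smul_eq_mk_rep F v hv
  rw [← ha, show σ ∘ (a • v) = σ (a : F) • (σ ∘ v) by funext i; simp [Units.smul_def],
    mulVec_smul, Submodule.span_singleton_smul_eq (IsUnit.mk0 _ (by simp))]

lemma InducedBy.eq_semiPt {π : Pn → Pn} {g : GL (Fin n) F} {σ : F ≃+* F} (h : InducedBy π g σ) :
    π = semiPt g σ := by
  funext p
  induction p using Projectivization.ind with | _ v hv => ?_
  exact Projectivization.submodule_injective ((h v hv).trans (inducedBy_semiPt g σ v hv).symm)

lemma rep_mem (p : Pn) : p.rep ∈ p.submodule := by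
  rw [p.submodule_eq]; exact Submodule.mem_span_singleton_self _

/-- A vector spanned by some vectors goes to a point spanned by their images. -/
lemma PreservesLines.mem_sup {π : Pn ≃ Pn} (hπ : PreservesLines π) {ι : Type*} [DecidableEq ι] (c : ι → Pn)
    (s : Finset ι) : ∀ p : Pn, p.submodule ≤ ⨆ i ∈ s, (c i).submodule →
      (π p).submodule ≤ ⨆ i ∈ s, (π (c i)).submodule := by
  induction s using Finset.induction_on with
  | empty =>
    intro p hp
    simp at hp
    have hm : p.rep ∈ (⊥ : Submodule F (Fin n → F)) := hp ▸ rep_mem p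
    exact absurd ((Submodule.mem_bot F).1 hm) p.rep_nonzero
  | @insert k s hk ih =>
    intro p hp
    rw [Finset.iSup_insert] at hp ⊢
    induction p using Projectivization.ind with | _ v hv => ?_
    rw [Projectivization.submodule_mk, Submodule.span_singleton_le_iff_mem] at hp
    obtain ⟨x, hx, y, hy, hxy⟩ := Submodule.mem_sup.1 hp
    by_cases hy0 : y = 0
    · refine le_trans ((hπ (c k) (c k) _ ?_).trans (by rw [sup_idem])) le_sup_left
      rw [Projectivization.submodule_mk, Submodule.span_singleton_le_iff_mem, sup_idem, ← hxy, hy0, add_zero]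
      exact hx
    have h1 := ih (Projectivization.mk F y hy0)
      (by rw [Projectivization.submodule_mk, Submodule.span_singleton_le_iff_mem]; exact hy)
    refine (hπ (c k) (Projectivization.mk F y hy0) _ ?_).trans (sup_le_sup_left h1 _)
    rw [Projectivization.submodule_mk, Submodule.span_singleton_le_iff_mem, ← hxy, Projectivization.submodule_mk]
    exact Submodule.add_mem_sup hx (Submodule.mem_span_singleton_self y)

lemma exists_smul_of_submodule_eq {p : Pn} {v : Fin n → F} (h : p.submodule = Submodule.span F {v})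
    {w : Fin n → F} (hw : w ∈ p.submodule) : ∃ c : F, w = c • v := by
  rw [h, Submodule.mem_span_singleton] at hw
  obtain ⟨c, hc⟩ := hw
  exact ⟨c, hc.symm⟩

lemma submodule_eq_span_of_mem {p : Pn} {v : Fin n → F} (hv : v ≠ 0) (h : v ∈ p.submodule) :
    p.submodule = Submodule.span F {v} :=
  (Submodule.eq_of_le_of_finrank_eq ((Submodule.span_singleton_le_iff_mem _ _).2 h)
    (by rw [finrank_span_singleton hv, p.finrank_submodule])).symm

/-- The normalised case: the standard frame is fixed. -/
lemma exists_inducedBy_one {m : ℕ} {π : ℙ F (Fin (m + 3) → F) ≃ ℙ F (Fin (m + 3) → F)} (hπ : PreservesLines π)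
    (h0 : ∀ i (h : (Pi.single i 1 : Fin (m + 3) → F) ≠ 0),
      (π (Projectivization.mk F (Pi.single i 1) h)).submodule = Submodule.span F {(Pi.single i 1 : Fin (m + 3) → F)})
    (h1 : ∀ i, i ≠ 0 → ∀ (h : (Pi.single 0 1 + Pi.single i 1 : Fin (m + 3) → F) ≠ 0),
      (π (Projectivization.mk F _ h)).submodule =
        Submodule.span F {(Pi.single 0 1 + Pi.single i 1 : Fin (m + 3) → F)}) :
    ∃ σ : F ≃+* F, InducedBy π 1 σ := by
  classical
  -- `I v w`: the image of the point of `v` is the point of `w`
  let I : (Fin (m + 3) → F) → (Fin (m + 3) → F) → Prop := fun v w =>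
    ∀ h : v ≠ 0, (π (Projectivization.mk F v h)).submodule = Submodule.span F {w}
  have he : ∀ i, (Pi.single i 1 : Fin (m + 3) → F) ≠ 0 := fun i => by simp
  -- a point on the line of two known points
  have line : ∀ {a b a' b' v : Fin (m + 3) → F}, I a a' → I b b' → a ≠ 0 → b ≠ 0 → ∀ (hv : v ≠ 0),
      v ∈ Submodule.span F {a} ⊔ Submodule.span F {b} →
      ∃ s t : F, s • a' + t • b' ≠ 0 ∧
        (π (Projectivization.mk F v hv)).submodule = Submodule.span F {s • a' + t • b'} := by
    intro a b a' b' v ha hb ha0 hb0 hv hmem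
    have h := hπ (Projectivization.mk F a ha0) (Projectivization.mk F b hb0) (Projectivization.mk F v hv)
      (by rw [Projectivization.submodule_mk, Projectivization.submodule_mk, Projectivization.submodule_mk,
        Submodule.span_singleton_le_iff_mem]; exact hmem)
    rw [ha, hb] at h
    obtain ⟨x, hx, y, hy, hxy⟩ := Submodule.mem_sup.1 (h (rep_mem _))
    obtain ⟨s, rfl⟩ := Submodule.mem_span_singleton.1 hx
    obtain ⟨t, rfl⟩ := Submodule.mem_span_singleton.1 hy
    refine ⟨s, t, ?_, ?_⟩ <;> rw [hxy]
    · exact Projectivization.rep_nonzero _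
    · exact Projectivization.submodule_eq _
  have inj : ∀ {a b a' : Fin (m + 3) → F}, I a a' → I b a' → ∀ (ha : a ≠ 0) (hb : b ≠ 0), ∃ c : F, a = c • b := by
    intro a b a' ha hb ha0 hb0
    have h := π.injective (Projectivization.submodule_injective ((ha ha0).trans (hb hb0).symm))
    obtain ⟨c, hc⟩ := (Projectivization.mk_eq_mk_iff' F a b ha0 hb0).1 h
    exact ⟨c, hc.symm⟩
  have hE : ∀ i, I (Pi.single i 1) (Pi.single i 1) := h0
  have hne : ∀ (i : Fin (m + 3)), i ≠ 0 → ∀ x : F, (Pi.single 0 1 + x • Pi.single i 1 : Fin (m + 3) → F) ≠ 0 :=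
    fun i hi x h => by simpa [hi] using congrFun h 0
  -- the coordinate maps
  have hf : ∀ (i : Fin (m + 3)) (x : F), ∃ y : F, i ≠ 0 →
      I (Pi.single 0 1 + x • Pi.single i 1) (Pi.single 0 1 + y • Pi.single i 1) := by
    intro i x
    by_cases hi : i = 0
    · exact ⟨0, fun h => absurd hi h⟩
    obtain ⟨s, t, hst, he'⟩ := line (hE 0) (hE i) (he 0) (he i) (hne i hi x)
      (Submodule.add_mem_sup (Submodule.mem_span_singleton_self _)
        (Submodule.smul_mem _ x (Submodule.mem_span_singleton_self _)))
    have hs : s ≠ 0 := by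
      rintro rfl
      have ht : t ≠ 0 := fun h => hst (by simp [h])
      rw [zero_smul, zero_add, Submodule.span_singleton_smul_eq (IsUnit.mk0 t ht)] at he'
      obtain ⟨c, hc⟩ := inj (a := Pi.single 0 1 + x • Pi.single i 1) (fun _ => he') (hE i) (hne i hi x) (he i)
      simpa [hi] using congrFun hc 0
    refine ⟨t / s, fun _ _ => ?_⟩
    rw [he']
    conv_rhs => rw [← Submodule.span_singleton_smul_eq (IsUnit.mk0 s hs), smul_add, smul_smul, mul_div_cancel₀ _ hs]
  choose f hf using hf
  have funiq : ∀ (i : Fin (m + 3)) (x y : F), i ≠ 0 →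
      I (Pi.single 0 1 + x • Pi.single i 1) (Pi.single 0 1 + y • Pi.single i 1) → f i x = y := by
    intro i x y hi h
    obtain ⟨c, hc⟩ := Submodule.mem_span_singleton.1
      ((h (hne i hi x)).symm.trans (hf i x hi (hne i hi x)) ▸ Submodule.mem_span_singleton_self _ :
        (Pi.single 0 1 + y • Pi.single i 1 : Fin (m + 3) → F) ∈ Submodule.span F {Pi.single 0 1 + f i x • Pi.single i 1})
    have h0' := congrFun hc 0
    have hi' := congrFun hc i
    simp [hi, Ne.symm hi] at h0' hi'
    rw [h0', one_mul] at hi'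
    exact hi'
  have f0 : ∀ i, i ≠ 0 → f i 0 = 0 := fun i hi => funiq i 0 0 hi (by simpa using hE 0)
  have f1 : ∀ i, i ≠ 0 → f i 1 = 1 := fun i hi => funiq i 1 1 hi (by simpa using h1 i hi)
  -- the differences of basis vectors are fixed
  have hD : ∀ i j, i ≠ 0 → j ≠ 0 → i ≠ j → I (Pi.single i 1 - Pi.single j 1) (Pi.single i 1 - Pi.single j 1) := by
    intro i j hi hj hij hv
    obtain ⟨s, t, hst, he'⟩ := line (h1 i hi) (h1 j hj) (by simpa using hne i hi 1) (by simpa using hne j hj 1) hv
      (by rw [show (Pi.single i 1 - Pi.single j 1 : Fin (m + 3) → F) =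
          (Pi.single 0 1 + Pi.single i 1) + (-1 : F) • (Pi.single 0 1 + Pi.single j 1) by module]
          exact Submodule.add_mem_sup (Submodule.mem_span_singleton_self _)
            (Submodule.smul_mem _ _ (Submodule.mem_span_singleton_self _)))
    obtain ⟨a, b, -, he''⟩ := line (hE i) (hE j) (he i) (he j) hv
      (by rw [sub_eq_add_neg, ← neg_one_smul F (Pi.single j 1 : Fin (m + 3) → F)]
          exact Submodule.add_mem_sup (Submodule.mem_span_singleton_self _)
            (Submodule.smul_mem _ _ (Submodule.mem_span_singleton_self _)))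
    obtain ⟨c, hc⟩ := Submodule.mem_span_singleton.1 (he'.symm.trans he'' ▸ Submodule.mem_span_singleton_self _ :
      s • (Pi.single 0 1 + Pi.single i 1) + t • (Pi.single 0 1 + Pi.single j 1) ∈
        Submodule.span F {a • (Pi.single i 1 : Fin (m + 3) → F) + b • Pi.single j 1})
    have h0' := congrFun hc 0
    simp [hi, hj] at h0'
    have ht : t = -s := by linear_combination -h0'
    have hs : s ≠ 0 := fun h => hst (by simp [h, ht])
    rw [he', ht, show s • (Pi.single 0 1 + Pi.single i 1) + -s • (Pi.single 0 1 + Pi.single j 1) =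
      s • (Pi.single i 1 - Pi.single j 1 : Fin (m + 3) → F) by module,
      Submodule.span_singleton_smul_eq (IsUnit.mk0 s hs)]
  have hffi : ∀ i j x, i ≠ 0 → j ≠ 0 → f i x = f j x := by
    intro i j x hi hj
    rcases eq_or_ne i j with rfl | hij
    · rfl
    obtain ⟨s, t, hst, he'⟩ := line (hf i x hi) (hD i j hi hj hij) (hne i hi x)
      (fun h => by simpa [hij] using congrFun h i) (hne j hj x)
      (by rw [show (Pi.single 0 1 + x • Pi.single j 1 : Fin (m + 3) → F) =
          (Pi.single 0 1 + x • Pi.single i 1) + (-x) • (Pi.single i 1 - Pi.single j 1) by module]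
          exact Submodule.add_mem_sup (Submodule.mem_span_singleton_self _)
            (Submodule.smul_mem _ _ (Submodule.mem_span_singleton_self _)))
    obtain ⟨c, hc⟩ := Submodule.mem_span_singleton.1 ((hf j x hj _).symm.trans he' ▸
      Submodule.mem_span_singleton_self _ : (Pi.single 0 1 + f j x • Pi.single j 1 : Fin (m + 3) → F) ∈
        Submodule.span F {s • (Pi.single 0 1 + f i x • Pi.single i 1) + t • (Pi.single i 1 - Pi.single j 1)})
    have h0' := congrFun hc 0
    have hi' := congrFun hc i
    have hj' := congrFun hc j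
    simp [hi, hj, Ne.symm hi, Ne.symm hj, hij, Ne.symm hij] at h0' hi' hj'
    rcases hi' with h | h
    · simp [h] at h0'
    linear_combination -(f i x) * h0' + c * h + hj'
  set g : F → F := f 1 with hg
  have h10 : (1 : Fin (m + 3)) ≠ 0 := by simp
  have hF : ∀ i x, i ≠ 0 → I (Pi.single 0 1 + x • Pi.single i 1) (Pi.single 0 1 + g x • Pi.single i 1) :=
    fun i x hi => by rw [hg, ← hffi i 1 x hi h10]; exact hf i x hi
  -- vectors with first coordinate 0, and vectors with first coordinate 1
  have hg0 : g 0 = 0 := f0 1 h10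
  have hg1 : g 1 = 1 := f1 1 h10
  have hginj : Function.Injective g := fun x y h => by
    obtain ⟨c, hc⟩ := inj (hF 1 x h10) (h ▸ hF 1 y h10) (hne 1 h10 x) (hne 1 h10 y)
    have h0' := congrFun hc 0
    have hi' := congrFun hc 1
    simp at h0' hi'
    rw [← h0', one_mul] at hi'
    exact hi'
  have hgne : ∀ {x : F}, x ≠ 0 → g x ≠ 0 := fun hx h => hx (hginj (h.trans hg0.symm))
  have comp0 : ∀ v : Fin (m + 3) → F, v ≠ 0 → g ∘ v ≠ 0 := fun v hv h =>
    hv (funext fun i => hginj ((congrFun h i).trans hg0.symm))
  have key : ∀ (s : Finset (Fin (m + 3))), (0 : Fin (m + 3)) ∉ s → ∀ y : Fin (m + 3) → F, (∀ i ∉ s, y i = 0) →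
      I (Pi.single 0 1 + y) (Pi.single 0 1 + g ∘ y) ∧ I y (g ∘ y) := by
    intro s
    induction s using Finset.induction_on with
    | empty =>
      intro _ y hy
      have hy0 : y = 0 := funext fun i => hy i (by simp)
      subst hy0
      have : g ∘ (0 : Fin (m + 3) → F) = 0 := funext fun i => hg0
      rw [this, add_zero]
      exact ⟨hE 0, fun h => absurd rfl h⟩
    | @insert k s hk ih =>
      intro h0s y hy
      rw [Finset.mem_insert, not_or] at h0s
      set z : Fin (m + 3) → F := Function.update y k 0 with hz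
      have hzs : ∀ i ∉ s, z i = 0 := by
        intro i hi
        rcases eq_or_ne i k with rfl | hik
        · simp [hz]
        · rw [hz, Function.update_of_ne hik]; exact hy i (by simp [hik, hi])
      obtain ⟨ih1, ih2⟩ := ih h0s.2 z hzs
      obtain ⟨t, ht⟩ : ∃ t, y k = t := ⟨_, rfl⟩
      have hyz : y = z + t • Pi.single k 1 := by
        funext i
        rcases eq_or_ne i k with rfl | hik <;> simp [hz, *]
      have hgyz : g ∘ y = g ∘ z + g t • Pi.single k 1 := by
        funext i
        rcases eq_or_ne i k with rfl | hik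
        · simp [hz, hg0, ht]
        · simp [hz, hik]
      have hy0 : y 0 = 0 := hy 0 (by rw [Finset.mem_insert]; exact fun h => h.elim h0s.1 h0s.2)
      have first : I (Pi.single 0 1 + y) (Pi.single 0 1 + g ∘ y) := by
        by_cases hz0 : z = 0
        · have hgz : g ∘ z = 0 := by rw [hz0]; exact funext fun i => hg0
          rw [hgyz, hgz, zero_add, hyz, hz0, zero_add]
          exact hF k _ (Ne.symm h0s.1)
        by_cases hk0 : t = 0
        · rw [hgyz, hyz, hk0, hg0, zero_smul, add_zero, add_zero]; exact ih1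
        intro hv
        have hne1 : (Pi.single 0 1 + z : Fin (m + 3) → F) ≠ 0 := fun h => by
          simpa [hzs 0 h0s.2] using congrFun h 0
        obtain ⟨a, b, hab, e1⟩ := line ih1 (hE k) hne1 (he k) hv
          (by rw [hyz, ← add_assoc]
              exact Submodule.add_mem_sup (Submodule.mem_span_singleton_self _)
                (Submodule.smul_mem _ _ (Submodule.mem_span_singleton_self _)))
        obtain ⟨c, d, -, e2⟩ := line (hF k t (Ne.symm h0s.1)) ih2 (hne k (Ne.symm h0s.1) _) hz0 hv
          (by rw [hyz, add_comm z, ← add_assoc]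
              exact Submodule.add_mem_sup (Submodule.mem_span_singleton_self _) (Submodule.mem_span_singleton_self _))
        obtain ⟨r, hr⟩ := Submodule.mem_span_singleton.1 (e1.symm.trans e2 ▸ Submodule.mem_span_singleton_self _ :
          a • (Pi.single 0 1 + g ∘ z) + b • Pi.single k 1 ∈
            Submodule.span F {c • (Pi.single 0 1 + g t • Pi.single k 1) + d • (g ∘ z)})
        obtain ⟨j, hj⟩ := Function.ne_iff.1 hz0
        have hjs : j ∈ s := by by_contra hjs; exact hj (hzs j hjs)
        have hjk : j ≠ k := fun h => hk (h ▸ hjs)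
        have hj0 : j ≠ 0 := fun h => h0s.2 (h ▸ hjs)
        have r0 := congrFun hr 0
        have rk := congrFun hr k
        have rj := congrFun hr j
        simp [h0s.1, Ne.symm h0s.1, hzs 0 h0s.2, hzs k hk, hg0, hjk, hj0, Ne.symm hjk, Ne.symm hj0] at r0 rk rj
        have hb : b = a * g t := by linear_combination -rk + g t * r0
        have ha : a ≠ 0 := fun h => hab (by simp [h, hb])
        rw [e1, hgyz, hb, ← smul_smul, ← smul_add, add_assoc,
          Submodule.span_singleton_smul_eq (IsUnit.mk0 a ha)]
      refine ⟨first, fun hv => ?_⟩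
      have hne2 : (Pi.single 0 1 + y : Fin (m + 3) → F) ≠ 0 := fun h => by simpa [hy0] using congrFun h 0
      obtain ⟨a, b, hab, e1⟩ := line (hE 0) first (he 0) hne2 hv
        (by
            convert Submodule.add_mem_sup (Submodule.smul_mem _ (-1 : F) (Submodule.mem_span_singleton_self _))
              (Submodule.mem_span_singleton_self _) using 1
            module)
      have h2 := hπ.mem_sup (fun i => Projectivization.mk F (Pi.single i 1) (he i)) (insert k s)
        (Projectivization.mk F y hv) (by
          rw [Projectivization.submodule_mk, Submodule.span_singleton_le_iff_mem, pi_eq_sum_univ' y]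
          refine Submodule.sum_mem _ fun i _ => ?_
          by_cases hi : i ∈ insert k s
          · refine Submodule.smul_mem _ _ (Submodule.mem_iSup_of_mem i (Submodule.mem_iSup_of_mem hi ?_))
            rw [Projectivization.submodule_mk]
            exact Submodule.mem_span_singleton_self _
          · rw [hy i hi, zero_smul]; exact zero_mem _)
      have h3 : (⨆ i ∈ insert k s, (π (Projectivization.mk F (Pi.single i 1) (he i))).submodule) ≤
          LinearMap.ker (LinearMap.proj (R := F) (φ := fun _ : Fin (m + 3) => F) 0) := by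
        refine iSup₂_le fun i hi => ?_
        rw [hE i (he i), Submodule.span_singleton_le_iff_mem]
        have : (0 : Fin (m + 3)) ≠ i := fun h => by
          rw [← h, Finset.mem_insert] at hi; exact hi.elim h0s.1 h0s.2
        simp [this]
      have h4 := (e1 ▸ h2.trans h3) (Submodule.mem_span_singleton_self _)
      simp [hy0, hg0] at h4
      have ha : a = -b := by linear_combination h4
      have hb : b ≠ 0 := fun h => hab (by simp [ha, h])
      rw [e1, ha, show -b • Pi.single 0 1 + b • (Pi.single 0 1 + g ∘ y) = b • (g ∘ y) by module,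
        Submodule.span_singleton_smul_eq (IsUnit.mk0 b hb)]
  have hfirst : ∀ y : Fin (m + 3) → F, y 0 = 0 → I (Pi.single 0 1 + y) (Pi.single 0 1 + g ∘ y) ∧ I y (g ∘ y) :=
    fun y hy => key (Finset.univ.erase 0) (by simp) y (fun i hi => by
      simp at hi; rw [hi, hy])
  have h20 : (2 : Fin (m + 3)) ≠ 0 := by simp [Fin.ext_iff, Fin.val_two, Nat.mod_eq_of_lt (show 2 < m + 3 by omega)]
  have h21 : (2 : Fin (m + 3)) ≠ 1 := by simp [Fin.ext_iff, Fin.val_two, Nat.mod_eq_of_lt (show 2 < m + 3 by omega)]
  have hadd : ∀ x y, g (x + y) = g x + g y := by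
    intro x y
    let u : Fin (m + 3) → F := y • Pi.single 1 1 + Pi.single 2 1
    have hgu : g ∘ u = g y • Pi.single 1 1 + Pi.single 2 1 := by
      funext i
      rcases eq_or_ne i 1 with rfl | hi1
      · simp [u, Ne.symm h21]
      rcases eq_or_ne i 2 with rfl | hi2 <;> simp [u, hg0, hg1, *]
    let w : Fin (m + 3) → F := (x + y) • Pi.single 1 1 + Pi.single 2 1
    have hgw : g ∘ w = g (x + y) • Pi.single 1 1 + Pi.single 2 1 := by
      funext i
      rcases eq_or_ne i 1 with rfl | hi1
      · simp [w, Ne.symm h21]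
      rcases eq_or_ne i 2 with rfl | hi2 <;> simp [w, hg0, hg1, *]
    have hw0 : (Pi.single 0 1 + w : Fin (m + 3) → F) ≠ 0 := fun h => by
      simpa [w, Ne.symm h20, Ne.symm h10] using congrFun h 0
    have hu0 : u ≠ 0 := fun h => by simpa [u, h21] using congrFun h 2
    obtain ⟨a, b, -, e1⟩ := line (hF 1 x h10) (hfirst u (by simp [u, Ne.symm h20, Ne.symm h10])).2
      (hne 1 h10 x) hu0 hw0
      (by rw [show (Pi.single 0 1 + w : Fin (m + 3) → F) = (Pi.single 0 1 + x • Pi.single 1 1) + u by
            simp only [w, u]; module]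
          exact Submodule.add_mem_sup (Submodule.mem_span_singleton_self _) (Submodule.mem_span_singleton_self _))
    obtain ⟨r, hr⟩ := Submodule.mem_span_singleton.1
      ((((hfirst w (by simp [w, Ne.symm h20, Ne.symm h10])).1 hw0).symm.trans e1) ▸ Submodule.mem_span_singleton_self _ :
      Pi.single 0 1 + g ∘ w ∈ Submodule.span F {a • (Pi.single 0 1 + g x • Pi.single 1 1) + b • (g ∘ u)})
    have r0 := congrFun hr 0
    have r1 := congrFun hr 1
    have r2 := congrFun hr 2
    simp [hgw, hgu, h10, h20, h21, Ne.symm h10, Ne.symm h20, Ne.symm h21] at r0 r1 r2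
    linear_combination -r1 + g x * r0 + g y * r2
  have hmul : ∀ x y, g (x * y) = g x * g y := by
    intro x y
    by_cases hy : y = 0
    · rw [hy, mul_zero, hg0, mul_zero]
    let u : Fin (m + 3) → F := x • Pi.single 1 1 + Pi.single 2 1
    let w : Fin (m + 3) → F := (x * y) • Pi.single 1 1 + y • Pi.single 2 1
    have hu0 : u ≠ 0 := fun h => by simpa [u, h21] using congrFun h 2
    have hw0 : w ≠ 0 := fun h => by simpa [w, h21, hy] using congrFun h 2
    have hgu : g ∘ u = g x • Pi.single 1 1 + Pi.single 2 1 := by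
      funext i
      rcases eq_or_ne i 1 with rfl | hi1
      · simp [u, Ne.symm h21]
      rcases eq_or_ne i 2 with rfl | hi2 <;> simp [u, hg0, hg1, *]
    have hgw : g ∘ w = g (x * y) • Pi.single 1 1 + g y • Pi.single 2 1 := by
      funext i
      rcases eq_or_ne i 1 with rfl | hi1
      · simp [w, Ne.symm h21]
      rcases eq_or_ne i 2 with rfl | hi2 <;> simp [w, hg0, hg1, *]
    have heq : Projectivization.mk F u hu0 = Projectivization.mk F w hw0 := by
      rw [Projectivization.mk_eq_mk_iff']
      refine ⟨y⁻¹, ?_⟩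
      simp only [u, w, smul_add, smul_smul, inv_mul_cancel₀ hy, one_smul]
      rw [mul_comm x y, ← mul_assoc, inv_mul_cancel₀ hy, one_mul]
    have e1 := (hfirst u (by simp [u, Ne.symm h20, Ne.symm h10])).2 hu0
    have e2 := (hfirst w (by simp [w, Ne.symm h20, Ne.symm h10])).2 hw0
    rw [heq, e2] at e1
    obtain ⟨r, hr⟩ := Submodule.mem_span_singleton.1 (e1 ▸ Submodule.mem_span_singleton_self _ :
      g ∘ w ∈ Submodule.span F {g ∘ u})
    rw [hgw, hgu] at hr
    have r1 := congrFun hr 1
    have r2 := congrFun hr 2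
    simp [h21, Ne.symm h21] at r1 r2
    rw [← r1, r2, mul_comm]
  have hsurj : Function.Surjective g := by
    intro y
    obtain ⟨p, hp⟩ := π.surjective (Projectivization.mk F _ (hne 1 h10 y))
    induction p using Projectivization.ind with | _ v hv => ?_
    have hv' : (π (Projectivization.mk F v hv)).submodule = Submodule.span F {Pi.single 0 1 + y • Pi.single 1 1} := by
      rw [hp, Projectivization.submodule_mk]
    by_cases h0v : v 0 = 0
    · obtain ⟨r, hr⟩ := Submodule.mem_span_singleton.1 ((hv'.symm.trans ((hfirst v h0v).2 hv)) ▸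
        Submodule.mem_span_singleton_self _ : (Pi.single 0 1 + y • Pi.single 1 1 : Fin (m + 3) → F) ∈
          Submodule.span F {g ∘ v})
      simpa [h0v, hg0] using congrFun hr 0
    · set z : Fin (m + 3) → F := (v 0)⁻¹ • v - Pi.single 0 1 with hz
      have hz0 : z 0 = 0 := by simp [hz, h0v]
      have hne3 : (Pi.single 0 1 + z : Fin (m + 3) → F) ≠ 0 := fun h => by simpa [hz0] using congrFun h 0
      have heq : Projectivization.mk F v hv = Projectivization.mk F _ hne3 := by
        rw [Projectivization.mk_eq_mk_iff']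
        exact ⟨v 0, by rw [hz, add_sub_cancel, smul_smul, mul_inv_cancel₀ h0v, one_smul]⟩
      rw [heq, (hfirst z hz0).1] at hv'
      obtain ⟨r, hr⟩ := Submodule.mem_span_singleton.1 (hv' ▸ Submodule.mem_span_singleton_self _ :
        (Pi.single 0 1 + g ∘ z : Fin (m + 3) → F) ∈ Submodule.span F {Pi.single 0 1 + y • Pi.single 1 1})
      have r0 := congrFun hr 0
      have r1 := congrFun hr 1
      simp [hz0, hg0] at r0 r1
      exact ⟨z 1, by rw [← r1, r0, one_mul]⟩
  let σ : F ≃+* F := RingEquiv.ofBijective
    ({ toFun := g, map_one' := hg1, map_mul' := hmul, map_zero' := hg0, map_add' := hadd } : F →+* F) ⟨hginj, hsurj⟩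
  refine ⟨σ, fun v hv => ?_⟩
  rw [Units.val_one, one_mulVec]
  by_cases h0v : v 0 = 0
  · exact (hfirst v h0v).2 hv
  set z : Fin (m + 3) → F := (v 0)⁻¹ • v - Pi.single 0 1 with hz
  have hz0 : z 0 = 0 := by simp [hz, h0v]
  have hne3 : (Pi.single 0 1 + z : Fin (m + 3) → F) ≠ 0 := fun h => by simpa [hz0] using congrFun h 0
  have hv' : v = v 0 • (Pi.single 0 1 + z) := by
    rw [hz, add_sub_cancel, smul_smul, mul_inv_cancel₀ h0v, one_smul]
  have heq : Projectivization.mk F v hv = Projectivization.mk F _ hne3 := by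
    rw [Projectivization.mk_eq_mk_iff']
    exact ⟨v 0, hv'.symm⟩
  have hσ : σ ∘ v = g (v 0) • (Pi.single 0 1 + g ∘ z : Fin (m + 3) → F) := by
    funext i
    show g (v i) = _
    conv_lhs => rw [hv']
    rcases eq_or_ne i 0 with rfl | hi
    · simp [hmul, hg0, hg1, hz0]
    · simp [hmul, hi]
  rw [heq, (hfirst z hz0).1 hne3, hσ, Submodule.span_singleton_smul_eq (IsUnit.mk0 _ (hgne h0v))]

end CfsgLib.PSLAut
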