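/-
A subgroup of PSL_n(q) of index equal to the number of points is the stabiliser of a point or of a hyperplane.
-/
import Cfsg.Agent.Lib.KnownSimple.PSLAut.Basic
import Cfsg.Agent.Lib.Classical.SLBasic

set_option autoImplicit false

namespace CfsgLib.PSLAut

open Matrix MulAction
open scoped LinearAlgebra.Projectivization Pointwise

variable {F : Type*} [Field F] {n : ℕ}

local notation "SLn" => Matrix.SpecialLinearGroup (Fin n) F
local notation "PSLn" => Matrix.ProjectiveSpecialLinearGroup (Fin n) F
local notation "Pn" => ℙ F (Fin n → F)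

lemma sl_smul_eq (s : SLn) (v : Fin n → F) : s • v = (s : Matrix (Fin n) (Fin n) F) *ᵥ v := rfl

lemma psl_smul_mk (s : SLn) (v : Fin n → F) (hv : v ≠ 0) :
    ∃ h, (QuotientGroup.mk s : PSLn) • Projectivization.mk F v hv =
      Projectivization.mk F ((s : Matrix (Fin n) (Fin n) F) *ᵥ v) h :=
  ⟨_, rfl⟩

lemma mk_mem_stabilizer_iff (s : SLn) (v : Fin n → F) (hv : v ≠ 0) :
    (QuotientGroup.mk s : PSLn) ∈ stabilizer PSLn (Projectivization.mk F v hv) ↔
      ∃ c : F, (s : Matrix (Fin n) (Fin n) F) *ᵥ v = c • v := by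
  obtain ⟨h, he⟩ := psl_smul_mk s v hv
  rw [mem_stabilizer_iff, he, Projectivization.mk_eq_mk_iff']
  simp [eq_comm]

variable [Fintype F]

/-- The number of points exceeds two when `2 ≤ n`. -/
lemma three_le_card_points (hn : 2 ≤ n) : 3 ≤ Nat.card Pn := by
  rw [Projectivization.card_of_finrank F (Fin n → F) (Module.finrank_fin_fun F)]
  refine le_trans ?_ (Finset.sum_le_sum_of_subset (Finset.range_mono hn))
  have : 1 < Nat.card F := Finite.one_lt_card
  simp only [Finset.sum_range_succ, Finset.range_zero, Finset.sum_empty, pow_zero, pow_one]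
  omega

lemma card_points_lt : Nat.card Pn < Fintype.card F ^ n := by
  have h := Projectivization.card' F (Fin n → F)
  rw [Nat.card_fun, Nat.card_eq_fintype_card (α := Fin n), Fintype.card_fin, Nat.card_eq_fintype_card (α := F)] at h
  have h1 : 1 ≤ Fintype.card F - 1 := by
    have := Fintype.one_lt_card (α := F); omega
  have := Nat.le_mul_of_pos_right (Nat.card Pn) h1
  omega

lemma coprime_card_points {p : ℕ} [hp : Fact p.Prime] [CharP F p] (hn : 1 ≤ n) : ¬ p ∣ Nat.card Pn := by
  intro hd
  have h := Projectivization.card' F (Fin n → F)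
  rw [Nat.card_fun, Nat.card_eq_fintype_card (α := Fin n), Fintype.card_fin, Nat.card_eq_fintype_card (α := F)] at h
  have hq : p ∣ Fintype.card F ^ n :=
    dvd_pow ((CharP.cast_eq_zero_iff F p _).1 (FiniteField.cast_card_eq_zero F)) (by omega)
  rw [h] at hq
  exact hp.out.not_dvd_one ((Nat.dvd_add_right (hd.mul_right _)).1 hq)

instance : FaithfulSMul PSLn Pn := inferInstance

lemma isPretransitive_psl : IsPretransitive PSLn Pn :=
  IsPreprimitive.toIsPretransitive

lemma index_stabilizer_point (p : Pn) : (stabilizer PSLn p).index = Nat.card Pn := by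
  haveI := isPretransitive_psl (F := F) (n := n)
  rw [index_stabilizer, orbit_eq_univ, Set.ncard_univ]

/-- A square-zero perturbation of the identity, as an element of `SL`. -/
lemma exists_sl_one_add {N : Matrix (Fin n) (Fin n) F} (hN : N * N = 0) :
    ∃ s : SLn, (s : Matrix (Fin n) (Fin n) F) = 1 + N := by
  obtain ⟨p, hp⟩ := CharP.exists F
  haveI : Fact p.Prime := ⟨(CharP.char_is_prime_or_zero F p).resolve_right (CharP.char_ne_zero_of_finite F p)⟩
  refine ⟨⟨1 + N, ?_⟩, rfl⟩
  rcases Nat.eq_zero_or_pos n with rfl | hn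
  · simp
  haveI : Nonempty (Fin n) := ⟨⟨0, hn⟩⟩
  have h : (1 + N) ^ p = 1 := by
    rw [add_pow_char_of_commute (R := Matrix (Fin n) (Fin n) F) (p := p) (h := Commute.one_left N), one_pow,
      pow_eq_zero_of_le (Fact.out : p.Prime).two_le (by rw [sq, hN]), add_zero]
  have h1 : (1 + N).det ^ p = 1 := by rw [← det_pow, h, det_one]
  exact frobenius_inj F p (by simpa [frobenius_def] using h1)

lemma isPGroup_lineStab {p : ℕ} [Fact p.Prime] [CharP F p] {v : Fin n → F} (hv : v ≠ 0) :
    IsPGroup p (Matrix.SpecialLinearGroup.lineStab (Submodule.span F {v})) := by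
  rintro ⟨A, hA⟩
  haveI : Nonempty (Fin n) := by
    obtain ⟨i, -⟩ := Function.ne_iff.1 hv
    exact ⟨i⟩
  refine ⟨1, Subtype.ext (Subtype.ext ?_)⟩
  rw [pow_one, Subgroup.coe_pow, Matrix.SpecialLinearGroup.coe_pow]
  have hN : ((A : Matrix (Fin n) (Fin n) F) - 1) * ((A : Matrix (Fin n) (Fin n) F) - 1) = 0 := by
    refine Matrix.ext_of_mulVec_single fun i => ?_
    rw [← mulVec_mulVec, zero_mulVec]
    obtain ⟨c, hc⟩ := Submodule.mem_span_singleton.1 (hA (Pi.single i 1))
    rw [sub_mulVec (A := (A : Matrix (Fin n) (Fin n) F)) (B := 1) (x := Pi.single i 1), one_mulVec,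
      ← sl_smul_eq, ← hc, mulVec_smul, sub_mulVec, one_mulVec, ← sl_smul_eq,
      Matrix.SpecialLinearGroup.lineStab_fix_of_span v hv A hA, sub_self, smul_zero]
  show (A : Matrix (Fin n) (Fin n) F) ^ p = 1
  rw [← sub_add_cancel (A : Matrix (Fin n) (Fin n) F) 1,
    add_pow_char_of_commute (R := Matrix (Fin n) (Fin n) F) (p := p) (h := Commute.one_right _), one_pow,
    pow_eq_zero_of_le (Fact.out : p.Prime).two_le (by rw [sq, hN]), zero_add]

/-- A subgroup of index prime to the characteristic contains the transvections with some centre. -/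
lemma exists_lineStab_le {p : ℕ} [Fact p.Prime] [CharP F p] (hn : 1 ≤ n) (H : Subgroup SLn) (hH : ¬ p ∣ H.index) :
    ∃ v : Fin n → F, v ≠ 0 ∧ Matrix.SpecialLinearGroup.lineStab (Submodule.span F {v}) ≤ H := by
  classical
  have he : (Pi.single ⟨0, hn⟩ 1 : Fin n → F) ≠ 0 := by simp
  obtain ⟨Q, hQ⟩ := (isPGroup_lineStab (p := p) he).exists_le_sylow
  obtain ⟨P⟩ : Nonempty (Sylow p H) := inferInstance
  have hP : IsPGroup p (P.1.map H.subtype) := P.2.map H.subtype
  have hi : ¬ p ∣ (P.1.map H.subtype).index := by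
    rw [Subgroup.index_map_subtype]
    exact fun h => ((Fact.out : p.Prime).dvd_mul.1 h).elim P.not_dvd_index hH
  obtain ⟨g, hg⟩ := exists_smul_eq SLn Q (hP.toSylow hi)
  have hspan : Submodule.span F {g • (Pi.single ⟨0, hn⟩ 1 : Fin n → F)} =
      g • Submodule.span F {(Pi.single ⟨0, hn⟩ 1 : Fin n → F)} := by
    rw [Submodule.pointwise_smul_def, Submodule.map_span, Set.image_singleton]
    rfl
  have hle : ((g • Q : Sylow p SLn) : Subgroup SLn) ≤ H := by
    rw [hg, IsPGroup.toSylow]
    exact Subgroup.map_subtype_le _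
  refine ⟨g • (Pi.single ⟨0, hn⟩ 1 : Fin n → F), (smul_ne_zero_iff_ne g).2 he, ?_⟩
  rw [hspan, Matrix.SpecialLinearGroup.lineStab_smul]
  rw [Sylow.coe_subgroup_smul] at hle
  exact le_trans (Subgroup.pointwise_smul_le_pointwise_smul_iff.2 hQ) hle

/-- A subgroup with the index of a point stabiliser fixes a point or a hyperplane. -/
lemma exists_fixed_point_or_hyperplane (hn : 2 ≤ n) (H : Subgroup SLn) (hH : H.index = Nat.card Pn) :
    ∃ v : Fin n → F, v ≠ 0 ∧ ((∀ s ∈ H, ∃ c : F, (s : Matrix (Fin n) (Fin n) F) *ᵥ v = c • v) ∨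
      ∀ s ∈ H, ∃ c : F, (s : Matrix (Fin n) (Fin n) F)ᵀ *ᵥ v = c • v) := by
  classical
  obtain ⟨p, hp⟩ := CharP.exists F
  haveI : Fact p.Prime := ⟨(CharP.char_is_prime_or_zero F p).resolve_right (CharP.char_ne_zero_of_finite F p)⟩
  obtain ⟨v, hv, hvH⟩ := exists_lineStab_le (p := p) (by omega) H
    (by rw [hH]; exact coprime_card_points (by omega))
  set W : Submodule F (Fin n → F) := Submodule.span F (Set.range fun h : H => (h : SLn) • v) with hW
  have hinv : ∀ s ∈ H, ∀ w ∈ W, (s : Matrix (Fin n) (Fin n) F) *ᵥ w ∈ W := by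
    intro s hs w hw
    have hle : W.map (s : Matrix (Fin n) (Fin n) F).mulVecLin ≤ W := by
      rw [hW, Submodule.map_span, Submodule.span_le]
      rintro _ ⟨_, ⟨h, rfl⟩, rfl⟩
      refine Submodule.subset_span ⟨⟨s, hs⟩ * h, ?_⟩
      show (s * (h : SLn)) • v = _
      rw [mul_smul]
      rfl
    exact hle (Submodule.mem_map_of_mem hw)
  have hvW : v ∈ W := Submodule.subset_span (Set.mem_range.2 ⟨(1 : H), one_smul _ v⟩)
  have hN3 := three_le_card_points (F := F) hn
  by_cases htop : W = ⊤
  · exfalso
    have hspan : Submodule.span F (Set.range fun h : H => (h : SLn) • v) = ⊤ := htop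
    obtain ⟨t, ht, htspan, hli⟩ := exists_linearIndependent F (Set.range fun h : H => (h : SLn) • v)
    rw [hspan] at htspan
    let b0 : Module.Basis t F (Fin n → F) := Module.Basis.mk hli (by rw [Subtype.range_coe]; exact htspan.ge)
    haveI : Fintype t := Fintype.ofFinite _
    have hcard : Fintype.card t = n := by
      rw [← Module.finrank_eq_card_basis b0, Module.finrank_fin_fun]
    let b := b0.reindex (Fintype.equivFinOfCardEq hcard)
    have hb : ∀ i, ∃ h ∈ H, b i = h • v := fun i => by
      have h1 : b i ∈ t := by simp [b, b0]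
      obtain ⟨h, hh⟩ := ht h1
      exact ⟨h, h.2, hh.symm⟩
    have hu : IsUnit (Matrix.of fun i j => b j i : Matrix (Fin n) (Fin n) F) := by
      rw [← Matrix.linearIndependent_cols_iff_isUnit]
      exact b.linearIndependent
    obtain ⟨g, hg⟩ := hu
    have htop' : H.comap (conjSL g).toMonoidHom = ⊤ := by
      refine eq_top_iff.2 fun x _ => ?_
      have key : ∀ (i j : Fin n) (hij : i ≠ j) (a : F),
          Matrix.SpecialLinearGroup.transvection hij a ∈ H.comap (conjSL g).toMonoidHom := by
        intro i j hij a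
        obtain ⟨h, hh, hbh⟩ := hb i
        have hmem : MulAut.conj h • Matrix.SpecialLinearGroup.lineStab (Submodule.span F {v}) ≤ H := by
          rintro _ ⟨y, hy, rfl⟩
          exact H.mul_mem (H.mul_mem hh (hvH hy)) (H.inv_mem hh)
        refine hmem ?_
        rw [← Matrix.SpecialLinearGroup.lineStab_smul, Submodule.pointwise_smul_def, Submodule.map_span,
          Set.image_singleton, Matrix.SpecialLinearGroup.mem_lineStab_iff]
        intro w
        refine Submodule.mem_span_singleton.2 ⟨a * (((g⁻¹ : GL (Fin n) F) : Matrix (Fin n) (Fin n) F) *ᵥ w) j, ?_⟩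
        show _ • (h • v) = _
        rw [← hbh, sl_smul_eq]
        show _ = ((g : Matrix (Fin n) (Fin n) F) * (Matrix.transvection i j a) * ((g⁻¹ : GL (Fin n) F) : Matrix (Fin n) (Fin n) F)) *ᵥ w - w
        rw [Matrix.transvection, mul_add, add_mul, mul_one, Units.mul_inv, add_mulVec, one_mulVec,
          add_sub_cancel_left, ← mulVec_mulVec, ← mulVec_mulVec, single_mulVec]
        funext k
        simp [hg, mulVec, dotProduct, Function.update_apply, mul_comm]
      cases subsingleton_or_nontrivial (Fin n) with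
      | inl h => have := Fin.subsingleton_iff_le_one.1 h; omega
      | inr h =>
        refine Matrix.SpecialLinearGroup.diagonal_transvection_induction' (fun s => s ∈ H.comap (conjSL g).toMonoidHom)
          x (fun i j hij c hc => ?_) key (fun _ _ => mul_mem)
        rw [show Matrix.SpecialLinearGroup.diag2n hij c hc = Matrix.SpecialLinearGroup.transvection hij c *
          (Matrix.SpecialLinearGroup.transvection hij.symm (-c⁻¹) * (Matrix.SpecialLinearGroup.transvection hij c *
          (Matrix.SpecialLinearGroup.transvection hij (-1) * (Matrix.SpecialLinearGroup.transvection hij.symm 1 *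
          Matrix.SpecialLinearGroup.transvection hij (-1))))) from CfsgLib.Classical.diag2n_eq_transvections hij c hc]
        exact mul_mem (key ..) (mul_mem (key ..) (mul_mem (key ..) (mul_mem (key ..) (mul_mem (key ..) (key ..)))))
    have : H = ⊤ := eq_top_iff.2 fun x _ => by
      obtain ⟨y, rfl⟩ := (conjSL g).surjective x
      exact eq_top_iff.1 htop' (Subgroup.mem_top y)
    rw [this, Subgroup.index_top] at hH
    omega
  · set k := Module.finrank F W with hk
    have hk1 : 1 ≤ k := Submodule.one_le_finrank_iff.2 ((Submodule.ne_bot_iff W).2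
      ⟨v, hvW, hv⟩)
    have hkn : k < n := (Submodule.finrank_lt htop).trans_eq (Module.finrank_fin_fun F)
    obtain ⟨U, hU⟩ := Submodule.exists_isCompl W
    have hUk : Module.finrank F U = n - k := by
      have := Submodule.finrank_add_eq_of_isCompl hU
      rw [Module.finrank_fin_fun] at this
      omega
    by_cases hk' : k = 1
    · have hWv : W = Submodule.span F {v} := (Submodule.eq_of_le_of_finrank_eq
        ((Submodule.span_singleton_le_iff_mem _ _).2 hvW)
        (by rw [finrank_span_singleton hv, ← hk, hk'])).symm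
      refine ⟨v, hv, Or.inl fun s hs => ?_⟩
      obtain ⟨c, hc⟩ := Submodule.mem_span_singleton.1 (hWv ▸ hinv s hs v (hWv ▸ Submodule.mem_span_singleton_self v))
      exact ⟨c, hc.symm⟩
    by_cases hk'' : k = n - 1
    · let D := W.dualAnnihilator.comap (dotProductEquiv F (Fin n)).toLinearMap
      have hD : Module.finrank F D = 1 := by
        have h1 := Subspace.finrank_add_finrank_dualAnnihilator_eq W
        rw [Module.finrank_fin_fun] at h1
        rw [show D = W.dualAnnihilator.map ((dotProductEquiv F (Fin n)).symm : Module.Dual F (Fin n → F) →ₗ[F] (Fin n → F)) from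
          Submodule.comap_equiv_eq_map_symm _ _, LinearEquiv.finrank_map_eq]
        omega
      obtain ⟨φ, hφ, hφ0⟩ := Submodule.exists_mem_ne_zero_of_ne_bot
        (Submodule.one_le_finrank_iff.1 hD.ge)
      refine ⟨φ, hφ0, Or.inr fun s hs => ?_⟩
      have hmem : (s : Matrix (Fin n) (Fin n) F)ᵀ *ᵥ φ ∈ D := by
        simp only [D, Submodule.mem_comap, Submodule.mem_dualAnnihilator] at hφ ⊢
        intro w hw
        have := hφ _ (hinv s hs w hw)
        simpa [dotProductEquiv, Matrix.mulVec_transpose, ← Matrix.dotProduct_mulVec] using this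
      have hDφ : Submodule.span F {φ} = D := Submodule.eq_of_le_of_finrank_eq
        ((Submodule.span_singleton_le_iff_mem _ _).2 hφ) (by rw [finrank_span_singleton hφ0, hD])
      obtain ⟨c, hc⟩ := Submodule.mem_span_singleton.1 (hDφ.symm ▸ hmem)
      exact ⟨c, hc.symm⟩
    exfalso
    let πW : (Fin n → F) →ₗ[F] W := W.projectionOnto U hU
    let N : (W →ₗ[F] U) → Matrix (Fin n) (Fin n) F := fun f =>
      LinearMap.toMatrix' (U.subtype ∘ₗ f ∘ₗ πW)
    have hN : ∀ f, N f * N f = 0 := fun f => by
      rw [← LinearMap.toMatrix'_comp]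
      convert map_zero (LinearMap.toMatrix' (R := F) (m := Fin n) (n := Fin n))
      refine LinearMap.ext fun x => ?_
      simp [πW, Submodule.projectionOnto_apply_right]
    choose u hu using fun f => exists_sl_one_add (hN f)
    have hinj : Function.Injective fun f => (QuotientGroup.mk (u f) : SLn ⧸ H) := by
      intro f f' h
      have hmem : (u f)⁻¹ * u f' ∈ H := QuotientGroup.eq.1 h
      have hprod : (((u f)⁻¹ * u f' : SLn) : Matrix (Fin n) (Fin n) F) = 1 + N (f' - f) := by
        have h1 : N f * N f' = 0 := by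
          rw [← LinearMap.toMatrix'_comp]
          convert map_zero (LinearMap.toMatrix' (R := F) (m := Fin n) (n := Fin n))
          refine LinearMap.ext fun x => ?_
          simp [πW, Submodule.projectionOnto_apply_right]
        have hsub : N (f' - f) = N f' - N f := by
          simp only [N, LinearMap.sub_comp, LinearMap.comp_sub, map_sub]
        have e : ((u f : SLn) : Matrix (Fin n) (Fin n) F) * (1 + N (f' - f)) = u f' := by
          rw [hu, hu, hsub]
          simp only [mul_add, add_mul, one_mul, mul_one, mul_sub, hN, h1]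
          abel
        rw [Matrix.SpecialLinearGroup.coe_mul, ← e, ← mul_assoc, ← Matrix.SpecialLinearGroup.coe_mul,
          inv_mul_cancel, Matrix.SpecialLinearGroup.coe_one, one_mul]
      refine LinearMap.ext fun w => sub_eq_zero.1 ?_ |>.symm
      have hw := hinv _ hmem w w.2
      rw [hprod, add_mulVec, one_mulVec, LinearMap.toMatrix'_mulVec] at hw
      rw [← LinearMap.sub_apply]
      have h3 : ((f' - f) w : Fin n → F) ∈ W := by
        simpa [πW] using (Submodule.add_mem_iff_right _ w.2).1 hw
      exact Subtype.ext (Submodule.disjoint_def.1 hU.disjoint _ h3 ((f' - f) w).2)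
    have hle := Nat.card_le_card_of_injective _ hinj
    rw [Module.natCard_eq_pow_finrank (K := F), Module.finrank_linearMap, ← hk, hUk,
      Nat.card_eq_fintype_card (α := F)] at hle
    change _ ≤ H.index at hle
    have hbig : n ≤ k * (n - k) := by
      obtain ⟨a, ha⟩ : ∃ a, k = a + 2 := ⟨k - 2, by omega⟩
      obtain ⟨b, hb⟩ : ∃ b, n - k = b + 2 := ⟨n - k - 2, by omega⟩
      rw [hb, ha]
      have : n = a + 2 + (b + 2) := by omega
      nlinarith
    have := (Nat.pow_le_pow_right (Fintype.card_pos (α := F)) hbig).trans hle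
    have := card_points_lt (F := F) (n := n)
    omega

end CfsgLib.PSLAut
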