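/-
Every automorphism of PSL_n over a finite field is semilinear, or semilinear times inverse transpose.
-/
import Cfsg.Agent.Lib.KnownSimple.PSLAut.Stabilizers
import Cfsg.Agent.Lib.KnownSimple.PSLAut.Collineation

set_option autoImplicit false

namespace CfsgLib.PSLAut

open Matrix MulAction
open scoped LinearAlgebra.Projectivization Pointwise

variable {F : Type*} [Field F] {n : ℕ}

local notation "SLn" => Matrix.SpecialLinearGroup (Fin n) F
local notation "PSLn" => Matrix.ProjectiveSpecialLinearGroup (Fin n) F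
local notation "Pn" => ℙ F (Fin n → F)

/-- `π` intertwines the action with its twist by `β`. -/
def Equivariant (β : MulAut PSLn) (π : Pn → Pn) : Prop := ∀ (x : PSLn) (p : Pn), π (x • p) = β x • π p

lemma Equivariant.comp {β γ : MulAut PSLn} {π ρ : Pn → Pn} (hπ : Equivariant β π) (hρ : Equivariant γ ρ) :
    Equivariant (β * γ) (π ∘ ρ) := fun x p => by
  show π (ρ (x • p)) = β (γ x) • π (ρ p)
  rw [hρ, hπ]

lemma semiPt_mk (g : GL (Fin n) F) (σ : F ≃+* F) (v : Fin n → F) (hv : v ≠ 0) :
    semiPt g σ (Projectivization.mk F v hv) =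
      Projectivization.mk F ((g : Matrix (Fin n) (Fin n) F) *ᵥ (σ ∘ v))
        (gl_mulVec_ne_zero g (sigma_comp_ne_zero σ hv)) :=
  Projectivization.submodule_injective
    (by rw [inducedBy_semiPt g σ v hv, Projectivization.submodule_mk])

lemma semiPt_one (p : Pn) : semiPt (1 : GL (Fin n) F) (RingEquiv.refl F) p = p := by
  induction p using Projectivization.ind with | _ v hv => ?_
  rw [semiPt_mk]
  congr 1
  simp

lemma semiPt_semiPt (g h : GL (Fin n) F) (σ : F ≃+* F) (p : Pn) :
    semiPt g (RingEquiv.refl F) (semiPt h σ p) = semiPt (g * h) σ p := by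
  induction p using Projectivization.ind with | _ v hv => ?_
  rw [semiPt_mk, semiPt_mk, semiPt_mk]
  congr 1
  simp [Function.comp_def, mulVec_mulVec]

lemma semiPt_refl_inv (g : GL (Fin n) F) (p : Pn) :
    semiPt g (RingEquiv.refl F) (semiPt g⁻¹ (RingEquiv.refl F) p) = p := by
  rw [semiPt_semiPt, mul_inv_cancel, semiPt_one]

lemma equivariant_semiPt (g : GL (Fin n) F) (σ : F ≃+* F) :
    Equivariant (conjAut g * fieldAut σ : MulAut PSLn) (semiPt g σ) := by
  intro x p
  induction x using QuotientGroup.induction_on with | _ s => ?_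
  induction p using Projectivization.ind with | _ v hv => ?_
  obtain ⟨h, he⟩ := psl_smul_mk s v hv
  rw [he, semiPt_mk, MulAut.mul_apply, fieldAut_mk, conjAut_mk, semiPt_mk]
  obtain ⟨h', he'⟩ := psl_smul_mk (conjSL g (fieldSL σ s)) _ (gl_mulVec_ne_zero g (sigma_comp_ne_zero σ hv))
  rw [he']
  congr 1
  rw [conjSL_coe, fieldSL_coe, mulVec_mulVec, Matrix.mul_assoc, Units.inv_mul, Matrix.mul_one, ← mulVec_mulVec]
  congr 1
  funext i
  simp [mulVec, dotProduct, map_sum]

lemma equivariant_eq {β γ : MulAut PSLn} {π : Pn → Pn} (hπ : Function.Surjective π) (hβ : Equivariant β π)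
    (hγ : Equivariant γ π) : β = γ := by
  refine MulEquiv.ext fun x => eq_of_smul_eq_smul fun p : Pn => ?_
  obtain ⟨q, rfl⟩ := hπ p
  rw [← hβ, ← hγ]

variable [Fintype F]

lemma two_pretransitive_psl {p q p' q' : Pn} (h : p ≠ q) (h' : p' ≠ q') :
    ∃ x : PSLn, x • p = p' ∧ x • q = q' := by
  obtain ⟨s, hs⟩ := is_two_pretransitive_iff.1 (inferInstance : IsMultiplyPretransitive (Matrix.SpecialLinearGroup (Fin n) F) Pn 2) h h'
  exact ⟨QuotientGroup.mk s, hs⟩

lemma stabilizer_injective (hn : 2 ≤ n) : Function.Injective fun p : Pn => stabilizer PSLn p := by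
  intro p q h
  by_contra hne
  have h3 := three_le_card_points (F := F) hn
  haveI : Fintype Pn := Fintype.ofFinite _
  obtain ⟨r, hrp, hrq⟩ : ∃ r : Pn, r ≠ p ∧ r ≠ q := by
    by_contra hc
    push Not at hc
    classical
    have h1 : (Finset.univ : Finset Pn) ⊆ {p, q} := fun r _ => by
      simp only [Finset.mem_insert, Finset.mem_singleton]
      exact Classical.or_iff_not_imp_left.2 (hc r)
    have h2 := (Finset.card_le_card h1).trans Finset.card_le_two
    rw [Finset.card_univ, ← Nat.card_eq_fintype_card] at h2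
    omega
  obtain ⟨x, hx1, hx2⟩ := two_pretransitive_psl (n := n) hne (Ne.symm hrp)
  have hmem : x ∈ stabilizer PSLn q := by
    rw [← show stabilizer PSLn p = stabilizer PSLn q from h]
    exact hx1
  exact hrq (hx2.symm.trans (mem_stabilizer_iff.1 hmem))

lemma map_eq_of_index {H : Subgroup PSLn} {K : Subgroup PSLn} (hle : H ≤ K) (hi : H.index = K.index) : H = K := by
  refine le_antisymm hle fun x hx => ?_
  have h := Subgroup.relIndex_mul_index hle
  rw [← hi] at h
  have : H.relIndex K = 1 := by
    have h0 : H.index ≠ 0 := Subgroup.index_ne_zero_of_finite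
    exact Nat.eq_of_mul_eq_mul_right (Nat.pos_of_ne_zero h0) (h.trans (one_mul _).symm)
  exact Subgroup.relIndex_eq_one.1 this hx

lemma index_map_mulAut {G : Type*} [Group G] (β : MulAut G) (H : Subgroup G) :
    (H.map β.toMonoidHom).index = H.index :=
  Subgroup.index_map_equiv H β

/-- A subgroup with the index of a point stabiliser is a point stabiliser or the image of one under inverse
transpose. -/
lemma eq_stabilizer_or_iota (hn : 2 ≤ n) (K : Subgroup PSLn) (hK : K.index = Nat.card Pn) :
    (∃ p : Pn, K = stabilizer PSLn p) ∨ ∃ p : Pn, K = (stabilizer PSLn p).map iotaAut.toMonoidHom := by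
  obtain ⟨v, hv, h⟩ := exists_fixed_point_or_hyperplane hn (K.comap (QuotientGroup.mk' _))
    (by rw [Subgroup.index_comap_of_surjective _ (QuotientGroup.mk'_surjective _), hK])
  rcases h with h | h
  · refine Or.inl ⟨Projectivization.mk F v hv, map_eq_of_index ?_ (by rw [index_stabilizer_point, hK])⟩
    intro x hx
    induction x using QuotientGroup.induction_on with | _ s => ?_
    exact (mk_mem_stabilizer_iff s v hv).2 (h s hx)
  · refine Or.inr ⟨Projectivization.mk F v hv, map_eq_of_index ?_
      (by rw [index_map_mulAut, index_stabilizer_point, hK])⟩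
    intro x hx
    induction x using QuotientGroup.induction_on with | _ s => ?_
    refine ⟨iotaAut (QuotientGroup.mk s), ?_, ?_⟩
    · rw [iotaAut_mk]
      refine (mk_mem_stabilizer_iff _ v hv).2 ?_
      rw [iotaSL_coe]
      exact h s⁻¹ (inv_mem (show s ∈ K.comap (QuotientGroup.mk' _) from hx))
    · show iotaAut (iotaAut (QuotientGroup.mk s : PSLn)) = _
      rw [← MulAut.mul_apply, iotaAut_mul_self, MulAut.one_apply]

lemma map_stabilizer_smul (β : MulAut PSLn) {p q : Pn}
    (h : (stabilizer PSLn p).map β.toMonoidHom = stabilizer PSLn q) (x : PSLn) :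
    (stabilizer PSLn (x • p)).map β.toMonoidHom = stabilizer PSLn (β x • q) := by
  rw [stabilizer_smul_eq_stabilizer_map_conj, stabilizer_smul_eq_stabilizer_map_conj, ← h, Subgroup.map_map,
    Subgroup.map_map]
  congr 1
  exact MonoidHom.ext fun y => by simp

/-- An automorphism sending one point stabiliser to a point stabiliser permutes the points. -/
lemma exists_equivariant (hn : 2 ≤ n) (β : MulAut PSLn) {p₀ q₀ : Pn}
    (h : (stabilizer PSLn p₀).map β.toMonoidHom = stabilizer PSLn q₀) :
    ∃ π : Pn ≃ Pn, Equivariant β π := by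
  haveI := isPretransitive_psl (F := F) (n := n)
  have hex : ∀ p : Pn, ∃ q, (stabilizer PSLn p).map β.toMonoidHom = stabilizer PSLn q := fun p => by
    obtain ⟨x, rfl⟩ := exists_smul_eq PSLn p₀ p
    exact ⟨_, map_stabilizer_smul β h x⟩
  choose f hf using hex
  have hinj : Function.Injective f := fun p q hpq =>
    stabilizer_injective hn (Subgroup.map_injective β.injective (by rw [hf, hf, hpq]))
  refine ⟨Equiv.ofBijective f ⟨hinj, (Finite.injective_iff_surjective).1 hinj⟩, fun x p => ?_⟩
  show f (x • p) = β x • f p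
  exact stabilizer_injective hn (by
    show stabilizer PSLn (f (x • p)) = stabilizer PSLn (β x • f p)
    rw [← hf, map_stabilizer_smul β (hf p) x])

lemma submodule_le_sup_iff {p q r : Pn} :
    r.submodule ≤ p.submodule ⊔ q.submodule ↔ r.rep ∈ p.submodule ⊔ q.submodule := by
  conv_lhs => rw [r.submodule_eq, Submodule.span_singleton_le_iff_mem]

/-- A point lies on the line of `p`, `q` iff its orbit under their common stabiliser is small. -/
lemma collinear_iff_card_orbit (p q r : Pn) (hp : r ≠ p) (hq : r ≠ q) :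
    r.submodule ≤ p.submodule ⊔ q.submodule ↔
      Nat.card (orbit (↥(stabilizer PSLn p ⊓ stabilizer PSLn q)) r) < Fintype.card F := by
  classical
  constructor
  · intro h
    have hsub : orbit (↥(stabilizer PSLn p ⊓ stabilizer PSLn q)) r ⊆
        {t | t.submodule ≤ p.submodule ⊔ q.submodule ∧ t ≠ p ∧ t ≠ q} := by
      rintro _ ⟨⟨x, hx⟩, rfl⟩
      obtain ⟨hx1, hx2⟩ := hx
      refine ⟨?_, ?_, ?_⟩
      · induction x using QuotientGroup.induction_on with | _ s => ?_
        show ((QuotientGroup.mk s : PSLn) • r).submodule ≤ _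
        have e1 : ∀ t : Pn, ((QuotientGroup.mk s : PSLn) • t).submodule = s • t.submodule := fun t =>
          PSL.smul_submodule s t
        rw [e1, show p.submodule = s • p.submodule by rw [← e1]; exact congrArg _ hx1.symm,
          show q.submodule = s • q.submodule by rw [← e1]; exact congrArg _ hx2.symm,
          Submodule.pointwise_smul_def, Submodule.pointwise_smul_def, Submodule.pointwise_smul_def, ← Submodule.map_sup]
        exact Submodule.map_mono h
      · intro he
        have he' : x • r = x • p := he.trans hx1.symm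
        exact hp (MulAction.injective x he')
      · intro he
        have he' : x • r = x • q := he.trans hx2.symm
        exact hq (MulAction.injective x he')
    refine lt_of_le_of_lt (Nat.card_mono (Set.toFinite _) hsub) ?_
    let T := {t : Pn | t.submodule ≤ p.submodule ⊔ q.submodule ∧ t ≠ p ∧ t ≠ q}
    have hT : ∀ t ∈ T, ∃ c : Fˣ, ∀ h : p.rep + (c : F) • q.rep ≠ 0, t = Projectivization.mk F _ h := by
      rintro t ⟨ht, htp, htq⟩
      rw [submodule_le_sup_iff, p.submodule_eq, q.submodule_eq] at ht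
      obtain ⟨_, ha, _, hb, hab⟩ := Submodule.mem_sup.1 ht
      obtain ⟨a, rfl⟩ := Submodule.mem_span_singleton.1 ha
      obtain ⟨b, rfl⟩ := Submodule.mem_span_singleton.1 hb
      have ha0 : a ≠ 0 := fun h0 => htq (by
        rw [← t.mk_rep, ← q.mk_rep, Projectivization.mk_eq_mk_iff']
        exact ⟨b, by rw [← hab, h0, zero_smul, zero_add]⟩)
      have hb0 : b ≠ 0 := fun h0 => htp (by
        rw [← t.mk_rep, ← p.mk_rep, Projectivization.mk_eq_mk_iff']
        exact ⟨a, by rw [← hab, h0, zero_smul, add_zero]⟩)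
      refine ⟨Units.mk0 (b / a) (div_ne_zero hb0 ha0), fun h => ?_⟩
      rw [← t.mk_rep, Projectivization.mk_eq_mk_iff']
      exact ⟨a, by rw [← hab, Units.val_mk0, smul_add, smul_smul, mul_div_cancel₀ _ ha0]⟩
    choose c hc using hT
    have hne : ∀ t ∈ T, ∀ u : Fˣ, p.rep + (u : F) • q.rep ≠ 0 := by
      rintro t ⟨ht, htp, htq⟩ u h0
      have hpq : p = q := by
        rw [← p.mk_rep, ← q.mk_rep, Projectivization.mk_eq_mk_iff']
        exact ⟨-(u : F), by rw [neg_smul]; exact (eq_neg_of_add_eq_zero_left h0).symm⟩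
      subst hpq
      rw [sup_idem] at ht
      exact htp (Projectivization.submodule_injective (Submodule.eq_of_le_of_finrank_eq ht
        (by rw [Projectivization.finrank_submodule, Projectivization.finrank_submodule])))
    refine lt_of_le_of_lt (Nat.card_le_card_of_injective (fun t : T => c t t.2) ?_) ?_
    · intro t t' htt
      apply Subtype.ext
      rw [hc t t.2 (hne t t.2 _), hc t' t'.2 (hne t' t'.2 _)]
      congr 2
      exact congrArg (fun u : Fˣ => (u : F) • q.rep) htt
    · rw [Nat.card_units, Nat.card_eq_fintype_card]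
      have := Fintype.one_lt_card (α := F)
      omega
  · intro hlt
    by_contra hnc
    have hli : LinearIndependent F ![p.rep] := by simp [linearIndependent_unique_iff, p.rep_nonzero]
    rw [submodule_le_sup_iff] at hnc
    have hpn : p ≠ q ∨ p = q := ne_or_eq p q
    -- a functional vanishing at `p`, `q` and equal to one at `r`
    obtain ⟨φ, hφr, hφ⟩ := Submodule.exists_dual_map_eq_bot_of_notMem hnc inferInstance
    have hφ' : ∀ w ∈ p.submodule ⊔ q.submodule, φ w = 0 := fun w hw => by
      have := Submodule.mem_map_of_mem (f := φ) hw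
      rwa [hφ, Submodule.mem_bot] at this
    have key : ∀ a : F, ∃ h, (Projectivization.mk F (r.rep + a • p.rep) h) ∈
        orbit (↥(stabilizer PSLn p ⊓ stabilizer PSLn q)) r := by
      intro a
      let N := LinearMap.toMatrix' ((φ r.rep)⁻¹ • φ.smulRight (a • p.rep))
      have hN : N * N = 0 := by
        rw [← LinearMap.toMatrix'_comp]
        convert map_zero (LinearMap.toMatrix' (R := F) (m := Fin n) (n := Fin n))
        refine LinearMap.ext fun x => ?_
        simp [hφ' _ (Submodule.mem_sup_left (rep_mem p))]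
      obtain ⟨s, hs⟩ := exists_sl_one_add hN
      have hfix : ∀ w, φ w = 0 → (s : Matrix (Fin n) (Fin n) F) *ᵥ w = w := by
        intro w hw
        rw [hs, add_mulVec, one_mulVec, LinearMap.toMatrix'_mulVec]
        simp [hw]
      have hr : (s : Matrix (Fin n) (Fin n) F) *ᵥ r.rep = r.rep + a • p.rep := by
        rw [hs, add_mulVec, one_mulVec, LinearMap.toMatrix'_mulVec]
        simp [hφr]
      have hst : ∀ t : Pn, φ t.rep = 0 → (QuotientGroup.mk s : PSLn) ∈ stabilizer PSLn t := fun t ht => by
        rw [← t.mk_rep, mk_mem_stabilizer_iff]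
        exact ⟨1, by rw [hfix _ ht, one_smul]⟩
      obtain ⟨h, he⟩ := psl_smul_mk s r.rep r.rep_nonzero
      refine ⟨hr ▸ h, ⟨⟨QuotientGroup.mk s, hst p (hφ' _ (Submodule.mem_sup_left (rep_mem p))),
        hst q (hφ' _ (Submodule.mem_sup_right (rep_mem q)))⟩, ?_⟩⟩
      show (QuotientGroup.mk s : PSLn) • r = _
      conv_lhs => rw [← r.mk_rep]
      rw [he]
      congr 1
    choose hne hmem using key
    have hge : Fintype.card F ≤ Nat.card (orbit (↥(stabilizer PSLn p ⊓ stabilizer PSLn q)) r) := by
      rw [← Nat.card_eq_fintype_card]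
      refine Nat.card_le_card_of_injective (fun a => ⟨_, hmem a⟩) fun a b hab => ?_
      obtain ⟨c, hc⟩ := (Projectivization.mk_eq_mk_iff' F _ _ (hne a) (hne b)).1 (congrArg Subtype.val hab)
      have h1 := congrArg φ hc
      simp [hφ' _ (Submodule.mem_sup_left (rep_mem p))] at h1
      rw [show c = 1 from mul_right_cancel₀ hφr (h1.trans (one_mul _).symm), one_smul] at hc
      exact ((smul_left_injective F p.rep_nonzero) (add_left_cancel hc)).symm
    omega

lemma Equivariant.preservesLines {β : MulAut PSLn} {π : Pn ≃ Pn} (h : Equivariant β π) : PreservesLines π := by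
  intro p q r hr
  by_cases hrp : r = p
  · rw [hrp]; exact le_sup_left
  by_cases hrq : r = q
  · rw [hrq]; exact le_sup_right
  rw [collinear_iff_card_orbit _ _ _ (π.injective.ne hrp) (π.injective.ne hrq)]
  rw [collinear_iff_card_orbit _ _ _ hrp hrq] at hr
  refine lt_of_le_of_lt (le_of_eq ?_) hr
  have himg : orbit (↥(stabilizer PSLn (π p) ⊓ stabilizer PSLn (π q))) (π r) =
      π '' orbit (↥(stabilizer PSLn p ⊓ stabilizer PSLn q)) r := by
    ext t
    constructor
    · rintro ⟨⟨y, hy1, hy2⟩, rfl⟩
      obtain ⟨x, rfl⟩ := β.surjective y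
      have hx : ∀ u, β x • π u = π u → x • u = u := fun u hu => π.injective ((h x u).trans hu)
      exact ⟨x • r, ⟨⟨x, hx p hy1, hx q hy2⟩, rfl⟩, h x r⟩
    · rintro ⟨_, ⟨⟨x, hx1, hx2⟩, rfl⟩, rfl⟩
      refine ⟨⟨β x, ?_, ?_⟩, (h x r).symm⟩
      · show β x • π p = π p
        rw [← h, show x • p = p from hx1]
      · show β x • π q = π q
        rw [← h, show x • q = q from hx2]
  rw [himg, Nat.card_image_of_injective π.injective]

/-- In dimension two a twisted action fixing the standard frame is a field automorphism. -/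
lemma exists_inducedBy_one_two {β : MulAut (Matrix.ProjectiveSpecialLinearGroup (Fin 2) F)}
    {π : ℙ F (Fin 2 → F) ≃ ℙ F (Fin 2 → F)} (hβ : Equivariant β π)
    (h0 : ∀ i (h : (Pi.single i 1 : Fin 2 → F) ≠ 0),
      (π (Projectivization.mk F (Pi.single i 1) h)).submodule = Submodule.span F {(Pi.single i 1 : Fin 2 → F)})
    (h1 : ∀ i, i ≠ 0 → ∀ (h : (Pi.single 0 1 + Pi.single i 1 : Fin 2 → F) ≠ 0),
      (π (Projectivization.mk F _ h)).submodule =
        Submodule.span F {(Pi.single 0 1 + Pi.single i 1 : Fin 2 → F)}) :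
    ∃ σ : F ≃+* F, InducedBy π 1 σ := by
  classical
  obtain ⟨p, hp⟩ := CharP.exists F
  haveI : Fact p.Prime := ⟨(CharP.char_is_prime_or_zero F p).resolve_right (CharP.char_ne_zero_of_finite F p)⟩
  have hne : ∀ x : F, (![x, 1] : Fin 2 → F) ≠ 0 := fun x h => one_ne_zero (congrFun h 1)
  have hinf : (![1, 0] : Fin 2 → F) ≠ 0 := fun h => one_ne_zero (congrFun h 0)
  let P : F → ℙ F (Fin 2 → F) := fun x => Projectivization.mk F ![x, 1] (hne x)
  let O : ℙ F (Fin 2 → F) := Projectivization.mk F ![1, 0] hinf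
  have hPinj : Function.Injective P := fun x y h => by
    obtain ⟨c, hc⟩ := (Projectivization.mk_eq_mk_iff' F _ _ _ _).1 h
    have r0 := congrFun hc 0
    have r1 := congrFun hc 1
    simp at r0 r1
    rw [← r0, r1, one_mul]
  have hPO : ∀ x, P x ≠ O := fun x h => by
    obtain ⟨c, hc⟩ := (Projectivization.mk_eq_mk_iff' F _ _ _ _).1 h
    simpa using congrFun hc 1
  have hdich : ∀ t : ℙ F (Fin 2 → F), t = O ∨ ∃ x, t = P x := by
    intro t
    induction t using Projectivization.ind with | _ v hv => ?_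
    by_cases h : v 1 = 0
    · refine Or.inl ((Projectivization.mk_eq_mk_iff' F _ _ _ _).2 ⟨v 0, ?_⟩)
      funext i; fin_cases i <;> simp [h]
    · refine Or.inr ⟨v 0 / v 1, (Projectivization.mk_eq_mk_iff' F _ _ _ _).2 ⟨v 1, ?_⟩⟩
      funext i; fin_cases i <;> simp [mul_div_cancel₀ _ h]
  have hπ0 : π O = O := by
    refine Projectivization.submodule_injective ?_
    have he : (![1, 0] : Fin 2 → F) = Pi.single 0 1 := by funext i; fin_cases i <;> simp
    have := h0 0 (he ▸ hinf)
    simpa [O, Projectivization.submodule_mk, he] using this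
  have hπP0 : π (P 0) = P 0 := by
    refine Projectivization.submodule_injective ?_
    have he : (![0, 1] : Fin 2 → F) = Pi.single 1 1 := by funext i; fin_cases i <;> simp
    have := h0 1 (he ▸ hne 0)
    simpa [P, Projectivization.submodule_mk, he] using this
  have hπP1 : π (P 1) = P 1 := by
    refine Projectivization.submodule_injective ?_
    have he : (![1, 1] : Fin 2 → F) = Pi.single 0 1 + Pi.single 1 1 := by funext i; fin_cases i <;> simp
    have := h1 1 (by simp) (he ▸ hne 1)
    simpa [P, Projectivization.submodule_mk, he] using this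
  have hf : ∀ x, ∃ y, π (P x) = P y := fun x => (hdich (π (P x))).resolve_left fun h =>
    hPO x (π.injective (h.trans hπ0.symm))
  choose f hf using hf
  have f0 : f 0 = 0 := hPinj ((hf 0).symm.trans hπP0)
  have f1 : f 1 = 1 := hPinj ((hf 1).symm.trans hπP1)
  have finj : Function.Injective f := fun x y h => hPinj (π.injective (by rw [hf, hf, h]))
  -- upper triangular elements
  have hact : ∀ (s : Matrix.SpecialLinearGroup (Fin 2) F), (s : Matrix (Fin 2) (Fin 2) F) 1 0 = 0 → ∀ x : F,
      (QuotientGroup.mk s : Matrix.ProjectiveSpecialLinearGroup (Fin 2) F) • P x =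
        P (s.1 0 0 * (s.1 0 0 * x + s.1 0 1)) := by
    intro s hs x
    obtain ⟨h, he⟩ := psl_smul_mk s ![x, 1] (hne x)
    rw [he]
    have hd := s.2
    rw [Matrix.det_fin_two, hs, mul_zero, sub_zero] at hd
    refine (Projectivization.mk_eq_mk_iff' F _ _ _ _).2 ⟨s.1 1 1, ?_⟩
    funext i
    fin_cases i <;> simp [mulVec, dotProduct, Fin.sum_univ_two, hs]
    linear_combination (s.1 0 0 * x + s.1 0 1) * hd
  have hlow : ∀ (s : Matrix.SpecialLinearGroup (Fin 2) F),
      (QuotientGroup.mk s : Matrix.ProjectiveSpecialLinearGroup (Fin 2) F) • O = O →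
      (s : Matrix (Fin 2) (Fin 2) F) 1 0 = 0 := by
    intro s hs
    obtain ⟨h, he⟩ := psl_smul_mk s ![1, 0] hinf
    rw [he] at hs
    obtain ⟨c, hc⟩ := (Projectivization.mk_eq_mk_iff' F _ _ _ _).1 hs
    simpa [mulVec, dotProduct, Fin.sum_univ_two] using (congrFun hc 1).symm
  have hfix : ∀ (s : Matrix.SpecialLinearGroup (Fin 2) F), (s : Matrix (Fin 2) (Fin 2) F) 1 0 = 0 →
      ∃ a b : F, a ≠ 0 ∧ β (QuotientGroup.mk s) • O = O ∧
        ∀ x, β (QuotientGroup.mk s) • P x = P (a * (a * x + b)) := by
    intro s hs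
    obtain ⟨t, ht⟩ := QuotientGroup.mk_surjective (β (QuotientGroup.mk s))
    have hO : (QuotientGroup.mk s : Matrix.ProjectiveSpecialLinearGroup (Fin 2) F) • O = O := by
      obtain ⟨h, he⟩ := psl_smul_mk s ![1, 0] hinf
      rw [he]
      refine (Projectivization.mk_eq_mk_iff' F _ _ _ _).2 ⟨s.1 0 0, ?_⟩
      funext i
      fin_cases i <;> simp [mulVec, dotProduct, Fin.sum_univ_two, hs]
    have hO' : β (QuotientGroup.mk s) • O = O := by
      conv_lhs => rw [← hπ0, ← hβ, hO, hπ0]
    have ht0 := hlow t (by rw [ht]; exact hO')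
    refine ⟨t.1 0 0, t.1 0 1, fun h => ?_, hO', fun x => by rw [← ht]; exact hact t ht0 x⟩
    have hd := t.2
    rw [Matrix.det_fin_two, ht0, h] at hd
    simp at hd
  -- translations
  have hadd : ∀ x a, f (x + a) = f x + f a := by
    intro x a
    let u : Matrix.SpecialLinearGroup (Fin 2) F := ⟨!![1, a; 0, 1], by simp [Matrix.det_fin_two]⟩
    obtain ⟨α, γ, hα, hO, hP⟩ := hfix u rfl
    have key : ∀ y, f (y + a) = α * (α * f y + γ) := fun y => hPinj (by
      rw [← hP, ← hf, ← hf, ← hβ, hact u rfl]
      simp [u])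
    have hsq : α * α = 1 := by
      have hp0 : ∀ (k : ℕ) y, f (y + k * a) = (α * α) ^ k * f y + (∑ j ∈ Finset.range k, (α * α) ^ j) * (α * γ) := by
        intro k
        induction k with
        | zero => simp
        | succ k ih =>
          intro y
          rw [Nat.cast_succ, add_mul, one_mul, ← add_assoc, key, ih, geom_sum_succ]
          ring
      have h0' := hp0 p 0
      have h1' := hp0 p 1
      rw [CharP.cast_eq_zero, zero_mul, add_zero, f0, mul_zero, zero_add] at h0'
      rw [CharP.cast_eq_zero, zero_mul, add_zero, f1, mul_one, ← h0', add_zero] at h1'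
      exact frobenius_inj F p (by simpa [frobenius_def] using h1'.symm)
    have h0' := key 0
    rw [zero_add, f0, mul_zero, zero_add] at h0'
    rw [key, h0']
    linear_combination f x * hsq
  have hmul : ∀ t x, f (t * t * x) = f (t * t) * f x := by
    intro t x
    by_cases ht : t = 0
    · simp [ht, f0]
    let s : Matrix.SpecialLinearGroup (Fin 2) F := ⟨!![t, 0; 0, t⁻¹], by simp [Matrix.det_fin_two, ht]⟩
    obtain ⟨α, γ, hα, hO, hP⟩ := hfix s rfl
    have key : ∀ y, f (t * t * y) = α * (α * f y + γ) := fun y => hPinj (by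
      rw [← hP, ← hf, ← hf, ← hβ, hact s rfl]
      simp [s, mul_assoc])
    have h0' := key 0
    have h1' := key 1
    rw [mul_zero, f0, mul_zero, zero_add, eq_comm, mul_eq_zero] at h0'
    rw [f1, mul_one, mul_one] at h1'
    rw [key, h1', h0'.resolve_left hα, add_zero, add_zero]
    ring
  let φ : F →+ F := { toFun := f, map_zero' := f0, map_add' := hadd }
  have hfmul : ∀ a x, f (a * x) = f a * f x := by
    intro a x
    have hM : ∀ b, IsSquare b → f (b * x) = f b * f x := by
      rintro _ ⟨t, rfl⟩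
      exact hmul t x
    by_cases h2 : p = 2
    · subst h2
      exact hM a (FiniteField.isSquare_of_char_two (ringChar.eq F 2) a)
    · have h20 : (2 : F) ≠ 0 := fun h => h2 ((Nat.prime_dvd_prime_iff_eq Fact.out Nat.prime_two).1
        ((CharP.cast_eq_zero_iff F p 2).1 (by exact_mod_cast h)))
      have he : a = (a + 1) / 2 * ((a + 1) / 2) - (a - 1) / 2 * ((a - 1) / 2) := by field_simp; ring
      rw [he, sub_mul]
      show φ (_ - _) = φ (_ - _) * _
      rw [map_sub, map_sub, sub_mul]
      show f _ - f _ = f _ * _ - f _ * _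
      rw [hmul, hmul]
  let σ : F ≃+* F := RingEquiv.ofBijective
    ({ toFun := f, map_one' := f1, map_mul' := hfmul, map_zero' := f0, map_add' := hadd } : F →+* F)
    ⟨finj, Finite.injective_iff_surjective.1 finj⟩
  have hσf : ∀ x, σ x = f x := fun _ => rfl
  refine ⟨σ, fun v hv => ?_⟩
  rw [Units.val_one, one_mulVec]
  by_cases h : v 1 = 0
  · have hv0 : v 0 ≠ 0 := fun h' => hv (funext fun i => by fin_cases i <;> simp [h, h'])
    have hve : σ ∘ v = σ (v 0) • (![1, 0] : Fin 2 → F) := by funext i; fin_cases i <;> simp [h]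
    rw [show Projectivization.mk F v hv = O from (Projectivization.mk_eq_mk_iff' F _ _ _ _).2
      ⟨v 0, funext fun i => by fin_cases i <;> simp [h]⟩, hπ0, Projectivization.submodule_mk, hve,
      Submodule.span_singleton_smul_eq (IsUnit.mk0 _ (by simpa using hv0))]
  · have hve : σ ∘ v = σ (v 1) • (![f (v 0 / v 1), 1] : Fin 2 → F) := by
      funext i
      fin_cases i
      · simp [← hσf]
        rw [mul_div_cancel₀ _ (by simpa using h)]
      · simp
    rw [show Projectivization.mk F v hv = P (v 0 / v 1) from (Projectivization.mk_eq_mk_iff' F _ _ _ _).2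
      ⟨v 1, funext fun i => by fin_cases i <;> simp [mul_div_cancel₀ _ h]⟩, hf, Projectivization.submodule_mk, hve,
      Submodule.span_singleton_smul_eq (IsUnit.mk0 _ (by simpa using h))]

/-- An equivariant permutation of the points is semilinear. -/
lemma exists_inducedBy (hn : 2 ≤ n) {β : MulAut PSLn} {π : Pn ≃ Pn} (h : Equivariant β π) :
    ∃ (g : GL (Fin n) F) (σ : F ≃+* F), InducedBy π g σ := by
  classical
  have hπ := h.preservesLines
  have he : ∀ i, (Pi.single i 1 : Fin n → F) ≠ 0 := fun i => by simp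
  let c : Fin n → (Fin n → F) := fun i => (π (Projectivization.mk F (Pi.single i 1) (he i))).rep
  have hspan : ⊤ ≤ Submodule.span F (Set.range c) := by
    intro w _
    by_cases hw : w = 0
    · rw [hw]; exact zero_mem _
    obtain ⟨p, hp⟩ := π.surjective (Projectivization.mk F w hw)
    have h1 := hπ.mem_sup (fun i => Projectivization.mk F (Pi.single i 1) (he i)) Finset.univ p (by
      rw [p.submodule_eq, Submodule.span_singleton_le_iff_mem, pi_eq_sum_univ' p.rep]
      refine Submodule.sum_mem _ fun i _ => Submodule.smul_mem _ _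
        (Submodule.mem_iSup_of_mem i (Submodule.mem_iSup_of_mem (Finset.mem_univ i) ?_))
      rw [Projectivization.submodule_mk]
      exact Submodule.mem_span_singleton_self _)
    rw [hp, Projectivization.submodule_mk, Submodule.span_singleton_le_iff_mem] at h1
    refine (show _ ≤ Submodule.span F (Set.range c) from iSup₂_le fun i _ => ?_) h1
    rw [Projectivization.submodule_eq, Submodule.span_singleton_le_iff_mem]
    exact Submodule.subset_span ⟨i, rfl⟩
  have hli : LinearIndependent F c := linearIndependent_of_top_le_span_of_card_eq_finrank hspan (by simp)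
  obtain ⟨G, hG⟩ := Matrix.linearIndependent_cols_iff_isUnit.1
    (show LinearIndependent F (Matrix.of fun i j => c j i).col from hli)
  let π₁ : Pn ≃ Pn := π.trans
    { toFun := semiPt G⁻¹ (RingEquiv.refl F), invFun := semiPt G (RingEquiv.refl F)
      left_inv := fun x => semiPt_refl_inv G x
      right_inv := fun x => by rw [semiPt_semiPt, inv_mul_cancel, semiPt_one] }
  have hπ₁e : ∀ i, π₁ (Projectivization.mk F (Pi.single i 1) (he i)) = Projectivization.mk F (Pi.single i 1) (he i) := by
    intro i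
    show semiPt G⁻¹ (RingEquiv.refl F) (π _) = _
    rw [← Projectivization.mk_rep (π (Projectivization.mk F (Pi.single i 1) (he i))), semiPt_mk]
    congr 1
    show ((G⁻¹ : GL (Fin n) F) : Matrix (Fin n) (Fin n) F) *ᵥ (RingEquiv.refl F ∘ c i) = _
    have hG' : (G : Matrix (Fin n) (Fin n) F) *ᵥ Pi.single i 1 = c i := by
      funext k
      simp [hG, mulVec_single]
    rw [show (RingEquiv.refl F ∘ c i) = c i from rfl, ← hG', mulVec_mulVec, Units.inv_mul, one_mulVec]
  have hβ₁ : Equivariant (conjAut G⁻¹ * fieldAut (RingEquiv.refl F) * β : MulAut PSLn) π₁ :=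
    (equivariant_semiPt G⁻¹ (RingEquiv.refl F)).comp h
  have hπ₁ := hβ₁.preservesLines
  obtain ⟨z, hz⟩ : ∃ z : Fin n, z = ⟨0, by omega⟩ := ⟨_, rfl⟩
  have hne2 : ∀ i, i ≠ z → (Pi.single z 1 + Pi.single i 1 : Fin n → F) ≠ 0 :=
    fun i hi h => by simpa [Ne.symm hi] using congrFun h z
  have hscal : ∀ i, ∃ d : Fˣ, ∀ hi : i ≠ z, (π₁ (Projectivization.mk F _ (hne2 i hi))).submodule =
      Submodule.span F {(Pi.single z 1 + (d : F) • Pi.single i 1 : Fin n → F)} := by
    intro i
    by_cases hi : i = z
    · exact ⟨1, fun h => absurd hi h⟩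
    have h1 := hπ₁ (Projectivization.mk F _ (he z)) (Projectivization.mk F _ (he i))
      (Projectivization.mk F _ (hne2 i hi)) (by
        simp only [Projectivization.submodule_mk, Submodule.span_singleton_le_iff_mem]
        exact Submodule.add_mem_sup (Submodule.mem_span_singleton_self _) (Submodule.mem_span_singleton_self _))
    rw [hπ₁e, hπ₁e, Projectivization.submodule_mk, Projectivization.submodule_mk] at h1
    obtain ⟨_, ha, _, hb, hab⟩ := Submodule.mem_sup.1 (h1 (rep_mem _))
    obtain ⟨a, rfl⟩ := Submodule.mem_span_singleton.1 ha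
    obtain ⟨b, rfl⟩ := Submodule.mem_span_singleton.1 hb
    have hrep := (π₁ (Projectivization.mk F _ (hne2 i hi))).rep_nonzero
    have hnot : ∀ k (r : F), a • Pi.single z 1 + b • Pi.single i 1 = r • (Pi.single k 1 : Fin n → F) →
        k = z ∨ k = i → False := by
      intro k r hr hk
      rw [hab] at hr
      have hr0 : r ≠ 0 := fun h => hrep (by rw [hr, h, zero_smul])
      have : π₁ (Projectivization.mk F _ (hne2 i hi)) = π₁ (Projectivization.mk F _ (he k)) := by
        rw [hπ₁e, ← Projectivization.mk_rep (π₁ (Projectivization.mk F _ (hne2 i hi))), Projectivization.mk_eq_mk_iff']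
        exact ⟨r, hr.symm⟩
      obtain ⟨e, he'⟩ := (Projectivization.mk_eq_mk_iff' F _ _ _ _).1 (π₁.injective this)
      have q0 := congrFun he' z
      have q1 := congrFun he' i
      rcases hk with rfl | rfl
      · simp [hi, Ne.symm hi] at q0 q1
      · simp [hi, Ne.symm hi] at q0 q1
    have ha0 : a ≠ 0 := fun h => hnot i b (by rw [h, zero_smul, zero_add]) (Or.inr rfl)
    have hb0 : b ≠ 0 := fun h => hnot z a (by rw [h, zero_smul, add_zero]) (Or.inl rfl)
    refine ⟨Units.mk0 (b / a) (div_ne_zero hb0 ha0), fun _ => ?_⟩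
    rw [Projectivization.submodule_eq, ← hab]
    conv_rhs => rw [← Submodule.span_singleton_smul_eq (IsUnit.mk0 a ha0), smul_add, smul_smul, Units.val_mk0,
      mul_div_cancel₀ _ ha0]
  choose d hd using hscal
  let dv : Fin n → Fˣ := fun i => if i = z then 1 else d i
  let D : GL (Fin n) F := ⟨diagonal fun i => (dv i : F), diagonal fun i => ((dv i)⁻¹ : Fˣ), by simp, by simp⟩
  let π₂ : Pn ≃ Pn := π₁.trans
    { toFun := semiPt D⁻¹ (RingEquiv.refl F), invFun := semiPt D (RingEquiv.refl F)
      left_inv := fun x => semiPt_refl_inv D x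
      right_inv := fun x => by rw [semiPt_semiPt, inv_mul_cancel, semiPt_one] }
  have hβ₂ := (equivariant_semiPt D⁻¹ (RingEquiv.refl F)).comp hβ₁
  have hDe : ∀ i, ((D⁻¹ : GL (Fin n) F) : Matrix (Fin n) (Fin n) F) *ᵥ Pi.single i 1 =
      ((dv i)⁻¹ : Fˣ).1 • (Pi.single i 1 : Fin n → F) := fun i => by
    show (diagonal fun j => (((dv j)⁻¹ : Fˣ) : F)) *ᵥ Pi.single i 1 = _
    funext k
    rcases eq_or_ne k i with rfl | hk <;> simp [mulVec_diagonal, *]
  have h0 : ∀ i (hi : (Pi.single i 1 : Fin n → F) ≠ 0),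
      (π₂ (Projectivization.mk F (Pi.single i 1) hi)).submodule = Submodule.span F {(Pi.single i 1 : Fin n → F)} := by
    intro i hi
    show (semiPt D⁻¹ (RingEquiv.refl F) (π₁ _)).submodule = _
    rw [hπ₁e, semiPt_mk, Projectivization.submodule_mk, RingEquiv.coe_refl, Function.id_comp, hDe,
      Submodule.span_singleton_smul_eq (Units.isUnit _)]
  have h1' : ∀ i, i ≠ z → ∀ (hi : (Pi.single z 1 + Pi.single i 1 : Fin n → F) ≠ 0),
      (π₂ (Projectivization.mk F _ hi)).submodule = Submodule.span F {(Pi.single z 1 + Pi.single i 1 : Fin n → F)} := by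
    intro i hiz hi
    show (semiPt D⁻¹ (RingEquiv.refl F) (π₁ _)).submodule = _
    have h2 := hd i hiz
    have hne3 : (Pi.single z 1 + (d i : F) • Pi.single i 1 : Fin n → F) ≠ 0 := fun h => by
      simpa [Ne.symm hiz] using congrFun h z
    rw [show π₁ (Projectivization.mk F _ hi) = Projectivization.mk F _ hne3 from
      Projectivization.submodule_injective (h2.trans (Projectivization.submodule_mk _ _).symm), semiPt_mk,
      Projectivization.submodule_mk, RingEquiv.coe_refl, Function.id_comp, mulVec_add, mulVec_smul, hDe, hDe]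
    simp [dv, hiz, smul_smul]
  obtain ⟨σ, hσ⟩ : ∃ σ : F ≃+* F, InducedBy π₂ 1 σ := by
    rcases Nat.lt_or_ge n 3 with h3 | h3
    · obtain rfl : n = 2 := by omega
      subst hz
      exact exists_inducedBy_one_two hβ₂ h0 h1'
    · obtain ⟨m, rfl⟩ : ∃ m, n = m + 3 := ⟨n - 3, by omega⟩
      subst hz
      exact exists_inducedBy_one hβ₂.preservesLines h0 h1'
  refine ⟨G * D, σ, ?_⟩
  have e : (π : Pn → Pn) = semiPt (G * D) σ := by
    funext x
    have hx : π₂ x = semiPt 1 σ x := congrFun hσ.eq_semiPt x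
    have hx' : semiPt D⁻¹ (RingEquiv.refl F) (semiPt G⁻¹ (RingEquiv.refl F) (π x)) = semiPt 1 σ x := hx
    rw [← semiPt_semiPt, ← mul_one D, ← semiPt_semiPt, ← hx', semiPt_refl_inv, semiPt_refl_inv]
  rw [e]
  exact inducedBy_semiPt _ _

/-- Automorphisms sending a point stabiliser to one are semilinear. -/
lemma eq_semilinear_of_map (hn : 2 ≤ n) (β : MulAut PSLn) {p₀ q₀ : Pn}
    (h : (stabilizer PSLn p₀).map β.toMonoidHom = stabilizer PSLn q₀) :
    ∃ (g : GL (Fin n) F) (σ : F ≃+* F), β = conjAut g * fieldAut σ := by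
  obtain ⟨π, hπ⟩ := exists_equivariant hn β h
  obtain ⟨g, σ, hg⟩ := exists_inducedBy hn hπ
  refine ⟨g, σ, equivariant_eq π.surjective hπ ?_⟩
  rw [hg.eq_semiPt]
  exact equivariant_semiPt g σ

lemma iota_map_of_two (hn : n = 2) (p : Pn) :
    ∃ q : Pn, (stabilizer PSLn p).map iotaAut.toMonoidHom = stabilizer PSLn q := by
  subst hn
  rcases eq_stabilizer_or_iota le_rfl ((stabilizer _ p).map iotaAut.toMonoidHom)
    (by rw [index_map_mulAut, index_stabilizer_point]) with h | ⟨q, h⟩
  · exact h
  induction p using Projectivization.ind with | _ v hv => ?_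
  have hv' : ![-v 1, v 0] ≠ (0 : Fin 2 → F) := fun h0 => hv (funext fun i => by
    have a0 := congrFun h0 0
    have a1 := congrFun h0 1
    fin_cases i <;> simp_all)
  refine ⟨Projectivization.mk F ![-v 1, v 0] hv', map_eq_of_index ?_
    (by rw [index_map_mulAut, index_stabilizer_point, index_stabilizer_point])⟩
  rintro _ ⟨x, hx, rfl⟩
  induction x using QuotientGroup.induction_on with | _ s => ?_
  obtain ⟨c, hc⟩ := (mk_mem_stabilizer_iff s v hv).1 hx
  show iotaAut (QuotientGroup.mk s) ∈ _
  rw [iotaAut_mk, mk_mem_stabilizer_iff]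
  refine ⟨c, ?_⟩
  have c0 := congrFun hc 0
  have c1 := congrFun hc 1
  simp [mulVec, dotProduct, Fin.sum_univ_two] at c0 c1
  funext i
  rw [iotaSL_coe, Matrix.SpecialLinearGroup.coe_inv, Matrix.adjugate_fin_two]
  fin_cases i <;> simp [mulVec, dotProduct, Fin.sum_univ_two]
  · linear_combination -c1
  · linear_combination c0

/-- The classification of automorphisms of `PSL_n` over a finite field. -/
theorem aut_classification (hn : 2 ≤ n) (β : MulAut PSLn) :
    ∃ (g : GL (Fin n) F) (σ : F ≃+* F),
      β = conjAut g * fieldAut σ ∨ (3 ≤ n ∧ β = conjAut g * fieldAut σ * iotaAut) := by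
  obtain ⟨p₀⟩ : Nonempty Pn := (Nat.card_pos_iff.1 (by have := three_le_card_points (F := F) hn; omega)).1
  rcases eq_stabilizer_or_iota hn ((stabilizer PSLn p₀).map β.toMonoidHom)
    (by rw [index_map_mulAut, index_stabilizer_point]) with ⟨q, hq⟩ | ⟨q, hq⟩
  · obtain ⟨g, σ, h⟩ := eq_semilinear_of_map hn β hq
    exact ⟨g, σ, Or.inl h⟩
  rcases Nat.lt_or_ge n 3 with h3 | h3
  · obtain ⟨r, hr⟩ := iota_map_of_two (by omega) q
    obtain ⟨g, σ, h⟩ := eq_semilinear_of_map hn β (hq.trans hr)
    exact ⟨g, σ, Or.inl h⟩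
  have hq' : (stabilizer PSLn p₀).map ((iotaAut * β : MulAut PSLn)).toMonoidHom = stabilizer PSLn q := by
    rw [show ((iotaAut * β : MulAut PSLn)).toMonoidHom = (iotaAut : MulAut PSLn).toMonoidHom.comp β.toMonoidHom from rfl,
      ← Subgroup.map_map, hq, Subgroup.map_map]
    conv_rhs => rw [← Subgroup.map_id (stabilizer PSLn q)]
    congr 1
    exact MonoidHom.ext fun x => DFunLike.congr_fun (iotaAut_mul_self : (iotaAut : MulAut PSLn) * iotaAut = 1) x
  obtain ⟨g, σ, h⟩ := eq_semilinear_of_map hn _ hq'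
  refine ⟨iotaGL g, σ, Or.inr ⟨h3, ?_⟩⟩
  rw [mul_assoc, ← iotaAut_mul_fieldAut, ← mul_assoc, ← iotaAut_mul_conjAut, mul_assoc, ← h, ← mul_assoc,
    iotaAut_mul_self, one_mul]

/-- Inverse transpose is not semilinear in dimension at least three. -/
lemma iotaAut_ne (hn : 3 ≤ n) (g : GL (Fin n) F) (σ : F ≃+* F) :
    (iotaAut : MulAut PSLn) ≠ conjAut g * fieldAut σ := by
  intro h
  let e : Fin n → (Fin n → F) := fun i => Pi.single i 1
  let z : Fin n := ⟨0, by omega⟩
  have he : ∀ i, e i ≠ 0 := fun i => by simp [e]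
  obtain ⟨hne, hr⟩ : ∃ hne, semiPt g σ (Projectivization.mk F (e z) (he z)) = Projectivization.mk F _ hne :=
    ⟨_, semiPt_mk g σ (e z) (he z)⟩
  set w := (g : Matrix (Fin n) (Fin n) F) *ᵥ (σ ∘ e z) with hw
  have hfix : ∀ i j : Fin n, i ≠ z → ∀ hij : i ≠ j, ∃ c : F,
      (1 + Matrix.single i j (1 : F)) *ᵥ w = c • w := by
    intro i j hi hij
    let t : SLn := Matrix.SpecialLinearGroup.transvection hij 1
    have ht : iotaSL t ∈ ({s : SLn | (QuotientGroup.mk s : PSLn) ∈ stabilizer PSLn (Projectivization.mk F (e z) (he z))} : Set SLn) := by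
      rw [Set.mem_ofPred_eq, mk_mem_stabilizer_iff]
      refine ⟨1, ?_⟩
      rw [iotaSL_coe, Matrix.SpecialLinearGroup.transvection_inv, Matrix.SpecialLinearGroup.transvection_coe,
        one_smul, transpose_add, transpose_one, transpose_single, add_mulVec, one_mulVec]
      funext k
      simp [e, mulVec_single, Matrix.single_apply, hi]
    have h2 := equivariant_semiPt g σ (QuotientGroup.mk (iotaSL t)) (Projectivization.mk F (e z) (he z))
    rw [show (QuotientGroup.mk (iotaSL t) : PSLn) • Projectivization.mk F (e z) (he z) = _ from ht, ← h, ← iotaAut_mk,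
      ← MulAut.mul_apply, iotaAut_mul_self, MulAut.one_apply, hr] at h2
    exact (mk_mem_stabilizer_iff t w hne).1 (mem_stabilizer_iff.2 h2.symm)
  have hw0 : ∀ i, i ≠ z → ∀ j, i ≠ j → w j ≠ 0 → ∀ k, k ≠ i → w k = 0 := by
    intro i hi j hij hwj k hk
    obtain ⟨c, hc⟩ := hfix i j hi hij
    have rk := congrFun hc k
    have rj := congrFun hc j
    have ri := congrFun hc i
    simp [add_mulVec, mulVec, dotProduct, Matrix.single_apply, Ne.symm hk, Ne.symm hij, hij, Matrix.one_apply, add_mul,
      Finset.sum_add_distrib] at rk rj ri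
    by_contra hk0
    have hc1 : c = 1 := mul_right_cancel₀ hk0 (by rw [← rk, one_mul])
    rw [hc1, one_mul] at ri
    exact hwj (by linear_combination ri)
  obtain ⟨i₁, i₂, h1z, h2z, h12⟩ : ∃ i₁ i₂ : Fin n, i₁ ≠ z ∧ i₂ ≠ z ∧ i₁ ≠ i₂ :=
    ⟨⟨1, by omega⟩, ⟨2, by omega⟩, by simp [z, Fin.ext_iff], by simp [z, Fin.ext_iff], by simp [Fin.ext_iff]⟩
  have hne' : w ≠ 0 := hne
  obtain ⟨j, hj⟩ := Function.ne_iff.1 hne'
  rcases eq_or_ne i₁ j with h' | h'
  · exact hj (hw0 i₂ h2z j (h' ▸ h12.symm) hj j (h' ▸ h12))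
  · exact hj (hw0 i₁ h1z j h' hj j (Ne.symm h'))

/-- Only scalars with trivial field part act trivially. -/
lemma eq_one_of_semilinear_eq_one (hn : 2 ≤ n) {g : GL (Fin n) F} {σ : F ≃+* F}
    (h : (conjAut g * fieldAut σ : MulAut PSLn) = 1) :
    σ = RingEquiv.refl F ∧ ∃ c : F, (g : Matrix (Fin n) (Fin n) F) = c • 1 := by
  classical
  have hfix : ∀ p : Pn, semiPt g σ p = p := by
    intro p
    refine stabilizer_injective hn (Eq.symm (map_eq_of_index ?_ (by rw [index_stabilizer_point, index_stabilizer_point])))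
    intro x hx
    have := equivariant_semiPt g σ x p
    rw [show x • p = p from hx, h, MulAut.one_apply] at this
    exact this.symm
  have key : ∀ v : Fin n → F, v ≠ 0 → ∃ c : F, (g : Matrix (Fin n) (Fin n) F) *ᵥ (σ ∘ v) = c • v := by
    intro v hv
    have := hfix (Projectivization.mk F v hv)
    rw [semiPt_mk, Projectivization.mk_eq_mk_iff'] at this
    obtain ⟨c, hc⟩ := this
    exact ⟨c, hc.symm⟩
  have hee : ∀ i (a : F), σ ∘ (Pi.single i a : Fin n → F) = Pi.single i (σ a) := fun i a => by
    funext k; rcases eq_or_ne k i with rfl | hk <;> simp [*]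
  have hd : ∀ i, ∃ c : F, (g : Matrix (Fin n) (Fin n) F) *ᵥ Pi.single i 1 = c • Pi.single i 1 := fun i => by
    obtain ⟨c, hc⟩ := key _ (show (Pi.single i 1 : Fin n → F) ≠ 0 by simp)
    exact ⟨c, by rw [← hc, hee, map_one]⟩
  choose d hd using hd
  have hdne : ∀ i, d i ≠ 0 := fun i h0 =>
    gl_mulVec_ne_zero g (show (Pi.single i 1 : Fin n → F) ≠ 0 by simp) (by rw [hd, h0, zero_smul])
  have hpair : ∀ i j, i ≠ j → ∀ x : F, d j * σ x = d i * x := by
    intro i j hij x
    obtain ⟨c, hc⟩ := key (Pi.single i 1 + Pi.single j x) (fun h0 => by simpa [hij] using congrFun h0 i)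
    have e : σ ∘ (Pi.single i 1 + Pi.single j x : Fin n → F) = Pi.single i 1 + σ x • Pi.single j 1 := by
      funext k
      rcases eq_or_ne k i with rfl | hki
      · simp [hij]
      rcases eq_or_ne k j with rfl | hkj <;> simp [*]
    rw [e, mulVec_add, mulVec_smul, hd, hd] at hc
    have r1 := congrFun hc i
    have r2 := congrFun hc j
    simp [hij, Ne.symm hij] at r1 r2
    rw [r1]
    linear_combination r2
  let z : Fin n := ⟨0, by omega⟩
  have hall : ∀ i, d i = d z := fun i => by
    rcases eq_or_ne i z with rfl | hi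
    · rfl
    · simpa using hpair z i (Ne.symm hi) 1
  refine ⟨RingEquiv.ext fun x => ?_, d z, Matrix.ext_of_mulVec_single fun i => ?_⟩
  · have h1 := hpair z ⟨1, by omega⟩ (by simp [z, Fin.ext_iff]) x
    rw [hall ⟨1, by omega⟩] at h1
    exact mul_left_cancel₀ (hdne z) h1
  · rw [hd, hall, smul_mulVec, one_mulVec]

end CfsgLib.PSLAut
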