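/-
The structure of Aut and Out of PSL_n over a finite field.
-/
import Cfsg.Agent.Lib.KnownSimple.PSLAut.Classification
import Cfsg.Prelude.Def_KGroupFacts

set_option autoImplicit false

namespace CfsgLib.PSLAut

open Matrix

variable {F : Type*} [Field F] [Fintype F] {n : ℕ}

local notation "PSLn" => Matrix.ProjectiveSpecialLinearGroup (Fin n) F

/-- Kernel of the action of `GL` on `PSL`. -/
lemma ker_conjAut (hn : 2 ≤ n) : (conjAut : GL (Fin n) F →* MulAut PSLn).ker = Subgroup.center (GL (Fin n) F) := by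
  ext g
  constructor
  · intro hg
    obtain ⟨-, c, hc⟩ := eq_one_of_semilinear_eq_one hn (g := g) (σ := 1)
      (by rw [map_one, mul_one]; exact hg)
    refine Subgroup.mem_center_iff.2 fun h => Units.ext ?_
    simp [hc]
  · intro hg
    refine MonoidHom.mem_ker.2 (eq_of_mk fun s => ?_)
    rw [conjAut_mk, MulAut.one_apply]
    congr 1
    refine Subtype.ext ?_
    rw [conjSL_coe]
    have := congrArg Units.val (Subgroup.mem_center_iff.1 hg (Matrix.SpecialLinearGroup.toGL s))
    rw [Units.val_mul, Units.val_mul] at this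
    show (g : Matrix (Fin n) (Fin n) F) * (Matrix.SpecialLinearGroup.toGL s : Matrix (Fin n) (Fin n) F) * _ = (Matrix.SpecialLinearGroup.toGL s : Matrix (Fin n) (Fin n) F)
    rw [← this, Matrix.mul_assoc, Units.mul_inv, Matrix.mul_one]

/-- The semilinear part and the extra part of an automorphism. -/
lemma exists_aut_hom {E : Type*} [CommGroup E] (ε : E →* MulAut PSLn)
    (hεg : ∀ e g, ∃ g', ε e * conjAut g = conjAut g' * ε e)
    (hεσ : ∀ e σ, ε e * fieldAut σ = fieldAut σ * ε e)
    (hex : ∀ β : MulAut PSLn, ∃ (g : GL (Fin n) F) (σ : F ≃+* F) (e : E), β = conjAut g * fieldAut σ * ε e)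
    (hone : ∀ (g : GL (Fin n) F) (σ : F ≃+* F) (e : E), conjAut g * fieldAut σ * ε e = (1 : MulAut PSLn) → σ = 1 ∧ e = 1) :
    ∃ ψ : MulAut PSLn →* (F ≃+* F) × E, Function.Surjective ψ ∧
      ψ.ker = (conjAut : GL (Fin n) F →* MulAut PSLn).range ∧
      ∀ g σ e, ψ (conjAut g * fieldAut σ * ε e) = (σ, e) := by
  have huniq : ∀ g σ e g' σ' e', (conjAut g * fieldAut σ * ε e : MulAut PSLn) = conjAut g' * fieldAut σ' * ε e' →
      (σ, e) = (σ', e') := by
    intro g σ e g' σ' e' h
    have h1 : conjAut (g'⁻¹ * g) * fieldAut σ * ε e = (fieldAut σ' * ε e' : MulAut PSLn) := by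
      rw [map_mul, map_inv, mul_assoc, mul_assoc, ← mul_assoc (conjAut g), h]
      simp [mul_assoc]
    have h2 : conjAut (g'⁻¹ * g) * fieldAut (σ * σ'⁻¹) * ε (e * e'⁻¹) = (1 : MulAut PSLn) := by
      have h3 := congrArg (fun X => X * ((ε e')⁻¹ * (fieldAut σ')⁻¹)) h1
      simp only [mul_assoc, mul_inv_cancel_left, mul_inv_cancel] at h3
      rw [map_mul, map_mul (fieldAut), map_mul ε, map_inv (fieldAut), map_inv ε]
      rw [← h3, map_mul]
      have hc : Commute (ε e * (ε e')⁻¹) (fieldAut σ')⁻¹ :=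
        (Commute.inv_right (hεσ e σ')).mul_left ((Commute.inv_right (hεσ e' σ')).inv_left)
      simp only [mul_assoc]
      rw [← mul_assoc (ε e), hc.eq]
    obtain ⟨hσ, he⟩ := hone _ _ _ h2
    rw [mul_inv_eq_one] at hσ he
    rw [hσ, he]
  choose g σ e hβ using hex
  let ψ : MulAut PSLn →* (F ≃+* F) × E := MonoidHom.mk' (fun β => (σ β, e β)) fun a b => by
    obtain ⟨g₁, hg₁⟩ := hεg (e a) (g b)
    refine (huniq (g (a * b)) (σ (a * b)) (e (a * b)) (g a * fieldGL (σ a) g₁) (σ a * σ b) (e a * e b) ?_)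
    rw [← hβ]
    conv_lhs => rw [hβ a, hβ b]
    simp only [map_mul, mul_assoc]
    rw [← mul_assoc (ε (e a)), hg₁]
    simp only [mul_assoc]
    rw [← mul_assoc (fieldAut (σ a)), fieldAut_mul_conjAut]
    simp only [mul_assoc]
    rw [← mul_assoc (ε (e a)), hεσ]
    simp only [mul_assoc]
  have key : ∀ g' σ' e', ψ (conjAut g' * fieldAut σ' * ε e') = (σ', e') := fun g' σ' e' =>
    huniq (g _) (σ _) (e _) g' σ' e' (hβ _).symm
  refine ⟨ψ, fun x => ⟨_, key 1 x.1 x.2⟩, ?_, key⟩
  ext β
  constructor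
  · intro hb
    have h : (σ β, e β) = ((1 : F ≃+* F), (1 : E)) := hb
    refine ⟨g β, ?_⟩
    conv_rhs => rw [hβ β, (Prod.mk.inj h).1, (Prod.mk.inj h).2, map_one, map_one, mul_one, mul_one]
  · rintro ⟨g', rfl⟩
    have := key g' 1 1
    rw [map_one, map_one, mul_one, mul_one] at this
    exact this

/-- The powers of inverse transpose. -/
noncomputable def iotaPow : Multiplicative (ZMod 2) →* MulAut PSLn :=
  MonoidHom.mk' (fun e => iotaAut ^ (Multiplicative.toAdd e).val) fun a b => by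
    obtain ⟨a, rfl⟩ := Multiplicative.ofAdd.surjective a
    obtain ⟨b, rfl⟩ := Multiplicative.ofAdd.surjective b
    have h2 : (iotaAut : MulAut PSLn) ^ 2 = 1 := by rw [sq, iotaAut_mul_self]
    rw [← ofAdd_add, toAdd_ofAdd, toAdd_ofAdd, toAdd_ofAdd, ← pow_add, ZMod.val_add, ← pow_eq_pow_mod _ h2]

lemma iotaPow_cases (e : Multiplicative (ZMod 2)) :
    (e = 1 ∧ (iotaPow e : MulAut PSLn) = 1) ∨
      (e = Multiplicative.ofAdd 1 ∧ (iotaPow e : MulAut PSLn) = iotaAut) := by
  obtain ⟨a, rfl⟩ := Multiplicative.ofAdd.surjective e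
  fin_cases a
  · exact Or.inl ⟨rfl, map_one iotaPow⟩
  · exact Or.inr ⟨rfl, pow_one _⟩

/-- `Aut PSL_n → Aut F × 2` for `3 ≤ n`. -/
lemma exists_aut_hom_three (hn : 3 ≤ n) :
    ∃ ψ : MulAut PSLn →* (F ≃+* F) × Multiplicative (ZMod 2), Function.Surjective ψ ∧
      ψ.ker = (conjAut : GL (Fin n) F →* MulAut PSLn).range ∧
      ∀ g σ e, ψ (conjAut g * fieldAut σ * iotaPow e) = (σ, e) := by
  refine exists_aut_hom iotaPow ?_ ?_ ?_ ?_
  · intro e g
    rcases iotaPow_cases (n := n) (F := F) e with ⟨-, h⟩ | ⟨-, h⟩ <;> rw [h]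
    · exact ⟨g, by rw [one_mul, mul_one]⟩
    · exact ⟨_, iotaAut_mul_conjAut g⟩
  · intro e σ
    rcases iotaPow_cases (n := n) (F := F) e with ⟨-, h⟩ | ⟨-, h⟩ <;> rw [h]
    · rw [one_mul, mul_one]
    · exact iotaAut_mul_fieldAut σ
  · intro β
    obtain ⟨g, σ, h | ⟨-, h⟩⟩ := aut_classification (by omega) β
    · exact ⟨g, σ, 1, by rw [map_one, mul_one]; exact h⟩
    · exact ⟨g, σ, Multiplicative.ofAdd 1, by rw [show iotaPow (Multiplicative.ofAdd (1 : ZMod 2)) = iotaAut from pow_one _]; exact h⟩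
  · intro g σ e h
    rcases iotaPow_cases (n := n) (F := F) e with ⟨he, hp⟩ | ⟨-, hp⟩ <;> rw [hp] at h
    · rw [mul_one] at h
      exact ⟨(eq_one_of_semilinear_eq_one (by omega) h).1, he⟩
    · exact absurd ((inv_eq_of_mul_eq_one_left h).symm.trans iotaAut_inv |>.symm) (iotaAut_ne hn g σ)

/-- `Aut PSL_2 → Aut F`. -/
lemma exists_aut_hom_two (hn : n = 2) :
    ∃ ψ : MulAut PSLn →* F ≃+* F, Function.Surjective ψ ∧
      ψ.ker = (conjAut : GL (Fin n) F →* MulAut PSLn).range := by
  obtain ⟨ψ, hs, hk, -⟩ := exists_aut_hom (F := F) (n := n) (E := PUnit.{1}) 1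
    (fun _ g => ⟨g, by simp⟩) (fun _ σ => by simp)
    (fun β => by
      obtain ⟨g, σ, h | ⟨h3, -⟩⟩ := aut_classification (by omega) β
      · exact ⟨g, σ, 1, by rw [map_one, mul_one]; exact h⟩
      · omega)
    (fun g σ e h => ⟨(eq_one_of_semilinear_eq_one (g := g) (σ := σ) (by omega) (by simpa using h)).1, rfl⟩)
  refine ⟨(MonoidHom.fst _ _).comp ψ, fun σ => ?_, ?_⟩
  · obtain ⟨β, hβ⟩ := hs (σ, 1)
    exact ⟨β, congrArg Prod.fst hβ⟩
  · rw [← hk]
    ext β
    exact ⟨fun h => Prod.ext h rfl, fun h => congrArg Prod.fst h⟩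

lemma inn_le_range_conjAut : Cfsg.Inn PSLn ≤ (conjAut : GL (Fin n) F →* MulAut PSLn).range := by
  rintro _ ⟨x, rfl⟩
  induction x using QuotientGroup.induction_on with | _ s => ?_
  exact ⟨_, (conj_eq_conjAut s).symm⟩

/-- The image of diagonal automorphisms in `Out`. -/
lemma out_structure (hn : 2 ≤ n) {H : Type*} [Group H] (ψ : MulAut PSLn →* H) (hs : Function.Surjective ψ)
    (hk : ψ.ker = (conjAut : GL (Fin n) F →* MulAut PSLn).range) :
    ∃ φ : Cfsg.Out PSLn →* H, Function.Surjective φ ∧ IsCyclic φ.ker ∧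
      Nat.card φ.ker = Nat.gcd n (Fintype.card F - 1) := by
  classical
  haveI : (Cfsg.Inn PSLn).Normal := inferInstance
  have hle : Cfsg.Inn PSLn ≤ ψ.ker := hk.symm ▸ inn_le_range_conjAut
  let φ : Cfsg.Out PSLn →* H := QuotientGroup.lift _ ψ hle
  let z : Fin n := ⟨0, by omega⟩
  let D : Fˣ →* GL (Fin n) F :=
    { toFun := fun x => ⟨diagonal (Function.update 1 z (x : F)), diagonal (Function.update 1 z ((x⁻¹ : Fˣ) : F)),
        by
          rw [diagonal_mul_diagonal, ← diagonal_one]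
          congr 1; funext i; rcases eq_or_ne i z with rfl | hi <;> simp [*],
        by
          rw [diagonal_mul_diagonal, ← diagonal_one]
          congr 1; funext i; rcases eq_or_ne i z with rfl | hi <;> simp [*]⟩
      map_one' := Units.ext (by simp)
      map_mul' := fun x y => Units.ext (by
        show diagonal _ = diagonal _ * diagonal _
        rw [diagonal_mul_diagonal]
        congr 1; funext i; rcases eq_or_ne i z with rfl | hi <;> simp [*]) }
  have hdetD : ∀ x, (GeneralLinearGroup.det (D x)) = x := fun x => Units.ext (by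
    show (diagonal (Function.update 1 z (x : F))).det = x
    rw [det_diagonal, Finset.prod_update_of_mem (Finset.mem_univ z)]
    simp)
  let Θ : Fˣ →* Cfsg.Out PSLn := (QuotientGroup.mk' _).comp (conjAut.comp D)
  have hΘker : Θ.range = φ.ker := by
    ext y
    induction y using QuotientGroup.induction_on with | _ β => ?_
    constructor
    · rintro ⟨x, hx⟩
      rw [MonoidHom.mem_ker, ← hx]
      exact MonoidHom.mem_ker.1 (hk.symm ▸ ⟨D x, rfl⟩ : conjAut (D x) ∈ ψ.ker)
    · intro h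
      obtain ⟨g, rfl⟩ := (hk ▸ (MonoidHom.mem_ker.2 h) : β ∈ (conjAut : GL (Fin n) F →* MulAut PSLn).range)
      refine ⟨GeneralLinearGroup.det g, (QuotientGroup.eq).2 ?_⟩
      have hd : ((D (GeneralLinearGroup.det g))⁻¹ * g : GL (Fin n) F) ∈ (GeneralLinearGroup.det : GL (Fin n) F →* Fˣ).ker := by
        rw [MonoidHom.mem_ker, map_mul, map_inv, hdetD, inv_mul_cancel]
      rw [← CfsgLib.Classical.range_toGL] at hd
      obtain ⟨s, hs'⟩ := hd
      refine ⟨QuotientGroup.mk s, ?_⟩
      rw [conj_eq_conjAut, hs']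
      simp
  have hΘ : Θ.ker = (powMonoidHom n : Fˣ →* Fˣ).range := by
    ext x
    constructor
    · intro hx
      obtain ⟨y, hy⟩ := (QuotientGroup.eq_one_iff _).1 (MonoidHom.mem_ker.1 hx)
      induction y using QuotientGroup.induction_on with | _ s => ?_
      rw [conj_eq_conjAut] at hy
      have hc : (Matrix.SpecialLinearGroup.toGL s)⁻¹ * D x ∈ (conjAut : GL (Fin n) F →* MulAut PSLn).ker := by
        have hy' : conjAut (Matrix.SpecialLinearGroup.toGL s) = (conjAut (D x) : MulAut PSLn) := hy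
        rw [MonoidHom.mem_ker, map_mul, map_inv, hy', inv_mul_cancel]
      rw [ker_conjAut hn, GeneralLinearGroup.center_eq_range_scalar] at hc
      obtain ⟨c, hc⟩ := hc
      refine ⟨c, ?_⟩
      have h := congrArg GeneralLinearGroup.det hc
      rw [map_mul, map_inv, hdetD] at h
      have hs1 : GeneralLinearGroup.det (Matrix.SpecialLinearGroup.toGL s) = 1 := Units.ext (by simp)
      rw [hs1, inv_one, one_mul] at h
      rw [← h]
      refine Units.ext ?_
      simp
    · rintro ⟨c, rfl⟩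
      refine MonoidHom.mem_ker.2 ((QuotientGroup.eq_one_iff _).2 ?_)
      let S : GL (Fin n) F := GeneralLinearGroup.scalar (Fin n) c
      have hd : S⁻¹ * D (c ^ n) ∈ (GeneralLinearGroup.det : GL (Fin n) F →* Fˣ).ker := by
        rw [MonoidHom.mem_ker, map_mul, map_inv, hdetD, inv_mul_eq_one]
        exact Units.ext (by simp [S])
      rw [← CfsgLib.Classical.range_toGL] at hd
      obtain ⟨s, hs'⟩ := hd
      refine ⟨QuotientGroup.mk s, ?_⟩
      have hS : (conjAut S : MulAut PSLn) = 1 := by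
        rw [← MonoidHom.mem_ker, ker_conjAut hn, GeneralLinearGroup.center_eq_range_scalar]
        exact ⟨c, rfl⟩
      rw [conj_eq_conjAut, hs', map_mul, map_inv, hS, inv_one, one_mul]
      rfl
  refine ⟨φ, QuotientGroup.lift_surjective_of_surjective _ ψ hs hle, ?_, ?_⟩
  · rw [← hΘker]
    exact isCyclic_of_surjective Θ.rangeRestrict Θ.rangeRestrict_surjective
  · rw [← hΘker, ← Subgroup.index_ker, hΘ, IsCyclic.index_powMonoidHom_range, Nat.card_units,
      Nat.card_eq_fintype_card, Nat.gcd_comm]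

/-- The automorphism group of a finite field is cyclic of order its degree. -/
lemma exists_ringAut_equiv {p f : ℕ} [Fact p.Prime] (hF : Fintype.card F = p ^ f) :
    Nonempty ((F ≃+* F) ≃* Multiplicative (ZMod f)) := by
  haveI : CharP F p := charP_of_card_eq_prime_pow hF
  letI : Algebra (ZMod p) F := ZMod.algebra F p
  haveI : Module.Finite (ZMod p) F := Module.Finite.of_finite
  have hd : Module.finrank (ZMod p) F = f := by
    have := Module.card_eq_pow_finrank (K := ZMod p) (V := F)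
    rw [hF, ZMod.card] at this
    exact (Nat.pow_right_injective (Fact.out : p.Prime).two_le this).symm
  let e : (F ≃+* F) ≃* (F ≃ₐ[ZMod p] F) :=
    { toFun := fun σ => AlgEquiv.ofRingEquiv (f := σ) fun x => by
        rw [← RingEquiv.coe_toRingHom, ← RingHom.comp_apply]
        exact DFunLike.congr_fun (Subsingleton.elim _ _) x
      invFun := fun σ => σ.toRingEquiv
      left_inv := fun σ => RingEquiv.ext fun x => rfl
      right_inv := fun σ => AlgEquiv.ext fun x => rfl
      map_mul' := fun σ τ => AlgEquiv.ext fun x => rfl }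
  refine ⟨e.trans (mulEquivOfCyclicCardEq ?_)⟩
  rw [IsGalois.card_aut_eq_finrank, hd, Nat.card_congr Multiplicative.toAdd, Nat.card_zmod]

/-- The order of the automorphism group. -/
lemma card_aut_psl (hn : 2 ≤ n) {H : Type*} [Group H] (ψ : MulAut PSLn →* H) (hs : Function.Surjective ψ)
    (hk : ψ.ker = (conjAut : GL (Fin n) F →* MulAut PSLn).range) :
    Nat.card (MulAut PSLn) = Nat.card H * Nat.card (Matrix.ProjGenLinGroup (Fin n) F) := by
  rw [← Subgroup.index_mul_card ψ.ker, Subgroup.index_ker, MonoidHom.range_eq_top.2 hs, Subgroup.card_top, hk]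
  congr 1
  rw [← Subgroup.index_ker, ker_conjAut hn]
  rfl

end CfsgLib.PSLAut
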