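/-
Field and graph-field automorphisms of PSL_n: cosets, centralisers and class splitting in Inndiag.
-/
import Cfsg.Agent.Lib.KnownSimple.PSLAut.Out
import Cfsg.Agent.Lib.KnownSimple.PSLAut.Descent
import Cfsg.Prelude.Def_LieTypeDatum
import Cfsg.Prelude.Def_LieClassical

set_option autoImplicit false

namespace CfsgLib.PSLAut

open Matrix

section Transfer

variable {X : Type*} [Group X] (H : Subgroup X) [H.Normal]

lemma isConjUnder_conj_iff (a x y : X) :
    Cfsg.IsConjUnder H (a * x * a⁻¹) (a * y * a⁻¹) ↔ Cfsg.IsConjUnder H x y := by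
  constructor
  · rintro ⟨h, hh, e⟩
    refine ⟨a⁻¹ * h * a, by simpa using ‹H.Normal›.conj_mem h hh a⁻¹, ?_⟩
    calc y = a⁻¹ * (a * y * a⁻¹) * a := by group
      _ = a⁻¹ * (h * (a * x * a⁻¹) * h⁻¹) * a := by rw [e]
      _ = _ := by group
  · rintro ⟨h, hh, rfl⟩
    exact ⟨a * h * a⁻¹, ‹H.Normal›.conj_mem h hh a, by group⟩

lemma splitClassCount_conj (K : Subgroup X) [K.Normal] (a x : X) :
    Cfsg.splitClassCount H K (a * x * a⁻¹) = Cfsg.splitClassCount H K x := by
  refine (Nat.card_congr (Quot.congr (Equiv.subtypeEquiv (MulAut.conj a).toEquiv fun y => ?_) fun y z => ?_)).symm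
  · exact (isConjUnder_conj_iff H a x y).symm
  · exact (isConjUnder_conj_iff K a y.1 z.1).symm

lemma nonempty_centralizerEquiv {P : Type*} [Mul P] (a x : X)
    (h : Nonempty (↥(H ⊓ Subgroup.centralizer {a * x * a⁻¹}) ≃* P)) :
    Nonempty (↥(H ⊓ Subgroup.centralizer {x}) ≃* P) := by
  obtain ⟨e⟩ := h
  refine ⟨(((H ⊓ Subgroup.centralizer {x}).equivMapOfInjective (MulAut.conj a).toMonoidHom
    (MulAut.conj a).injective).trans (MulEquiv.subgroupCongr ?_)).trans e⟩
  ext y
  simp only [Subgroup.mem_map, Subgroup.mem_inf, Subgroup.mem_centralizer_singleton_iff]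
  constructor
  · rintro ⟨z, ⟨hz, hzx⟩, rfl⟩
    refine ⟨‹H.Normal›.conj_mem z hz a, ?_⟩
    show a * z * a⁻¹ * (a * x * a⁻¹) = a * x * a⁻¹ * (a * z * a⁻¹)
    calc a * z * a⁻¹ * (a * x * a⁻¹) = a * (z * x) * a⁻¹ := by group
      _ = a * (x * z) * a⁻¹ := by rw [hzx]
      _ = _ := by group
  · rintro ⟨hy, hyx⟩
    refine ⟨a⁻¹ * y * a, ⟨by simpa using ‹H.Normal›.conj_mem y hy a⁻¹, ?_⟩, by simp [mul_assoc]⟩
    calc a⁻¹ * y * a * x = a⁻¹ * (y * (a * x * a⁻¹)) * a := by group
      _ = a⁻¹ * (a * x * a⁻¹ * y) * a := by rw [hyx]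
      _ = _ := by group

end Transfer

/-- The classes into which a class splits, counted through a parametrisation of the two groups. -/
lemma splitClassCount_eq_index {Γ X : Type*} [Group Γ] [Group X] (Φ : Γ →* X) (M : Subgroup Γ) [M.Normal] (x : X) :
    Cfsg.splitClassCount Φ.range (M.map Φ) x = ((Subgroup.centralizer {x}).comap Φ ⊔ M).index := by
  set S := (Subgroup.centralizer {x}).comap Φ with hS
  let T := {y : X // Cfsg.IsConjUnder Φ.range x y}
  have hrep : ∀ y : T, ∃ g : Γ, y.1 = Φ g * x * (Φ g)⁻¹ := by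
    rintro ⟨y, _, ⟨g, rfl⟩, rfl⟩
    exact ⟨g, rfl⟩
  choose ρ hρ using hrep
  have hmem : ∀ g h : Γ, (∃ k : X, k ∈ M.map Φ ∧ Φ h * x * (Φ h)⁻¹ = k * (Φ g * x * (Φ g)⁻¹) * k⁻¹) ↔
      g⁻¹ * h ∈ S ⊔ M := by
    intro g h
    constructor
    · rintro ⟨_, ⟨k, hk, rfl⟩, e⟩
      rw [← SetLike.mem_coe, Subgroup.mul_normal, Set.mem_mul]
      refine ⟨(k * g)⁻¹ * h, ?_, (((k * g)⁻¹ * h))⁻¹ * (g⁻¹ * h), ?_, mul_inv_cancel_left _ _⟩
      · rw [SetLike.mem_coe, hS, Subgroup.mem_comap, Subgroup.mem_centralizer_singleton_iff, map_mul, map_inv, map_mul]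
        calc (Φ k * Φ g)⁻¹ * Φ h * x = (Φ k * Φ g)⁻¹ * (Φ h * x * (Φ h)⁻¹) * Φ h := by group
          _ = (Φ k * Φ g)⁻¹ * (Φ k * (Φ g * x * (Φ g)⁻¹) * (Φ k)⁻¹) * Φ h := by rw [e]
          _ = _ := by group
      · rw [SetLike.mem_coe, show ((k * g)⁻¹ * h)⁻¹ * (g⁻¹ * h) = h⁻¹ * k * h⁻¹⁻¹ by group]
        exact ‹M.Normal›.conj_mem k hk h⁻¹
    · intro hgh
      rw [← SetLike.mem_coe, Subgroup.mul_normal, Set.mem_mul] at hgh
      obtain ⟨s, hs, m, hm, e⟩ := hgh
      rw [SetLike.mem_coe, hS, Subgroup.mem_comap, Subgroup.mem_centralizer_singleton_iff] at hs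
      refine ⟨Φ (g * (s * m * s⁻¹) * g⁻¹), ⟨_, ‹M.Normal›.conj_mem _ (‹M.Normal›.conj_mem _ hm s) g, rfl⟩, ?_⟩
      have eh : h = (g * (s * m * s⁻¹) * g⁻¹) * g * s := by
        rw [show h = g * (s * m) by rw [e, mul_inv_cancel_left]]
        group
      conv_lhs => rw [eh]
      simp only [map_mul, map_inv, _root_.mul_inv_rev, inv_inv]
      calc Φ g * (Φ s * Φ m * (Φ s)⁻¹) * (Φ g)⁻¹ * Φ g * Φ s * x *
            ((Φ s)⁻¹ * ((Φ g)⁻¹ * (Φ g * (Φ s * ((Φ m)⁻¹ * (Φ s)⁻¹) * (Φ g)⁻¹))))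
          = Φ g * (Φ s * Φ m * (Φ s)⁻¹) * (Φ s * x * (Φ s)⁻¹) * (Φ s * ((Φ m)⁻¹ * (Φ s)⁻¹) * (Φ g)⁻¹) := by group
        _ = Φ g * (Φ s * Φ m * (Φ s)⁻¹) * x * (Φ s * ((Φ m)⁻¹ * (Φ s)⁻¹) * (Φ g)⁻¹) := by
            rw [hs, mul_inv_cancel_right]
        _ = _ := by group
  have hrefl : ∀ g : Γ, Cfsg.IsConjUnder Φ.range x (Φ g * x * (Φ g)⁻¹) := fun g => ⟨Φ g, ⟨g, rfl⟩, rfl⟩
  refine Nat.card_congr
    { toFun := Quot.lift (fun y : T => (QuotientGroup.mk (ρ y) : Γ ⧸ (S ⊔ M))) ?_
      invFun := fun c => Quotient.liftOn' c (fun g => Quot.mk _ (⟨_, hrefl g⟩ : T)) ?_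
      left_inv := ?_
      right_inv := ?_ }
  · rintro y z ⟨k, hk, e⟩
    rw [QuotientGroup.eq, ← hmem]
    exact ⟨k, hk, by rw [← hρ y, ← hρ z]; exact e⟩
  · intro g h hgh
    rw [QuotientGroup.leftRel_apply, ← hmem] at hgh
    obtain ⟨k, hk, e⟩ := hgh
    exact Quot.sound ⟨k, hk, e⟩
  · intro y
    induction y using Quot.ind with | _ y => ?_
    refine congrArg (Quot.mk _) ?_
    exact Subtype.ext (hρ y).symm
  · intro c
    induction c using QuotientGroup.induction_on with | _ g => ?_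
    show (QuotientGroup.mk (ρ ⟨_, hrefl g⟩) : Γ ⧸ (S ⊔ M)) = QuotientGroup.mk g
    rw [QuotientGroup.eq, ← hmem]
    exact ⟨1, one_mem _, by rw [← hρ ⟨_, hrefl g⟩]; group⟩

variable {F : Type*} [Field F] [Fintype F] {n : ℕ}

local notation "PSLn" => Matrix.ProjectiveSpecialLinearGroup (Fin n) F

lemma normal_range_conjAut (hn : 2 ≤ n) : ((conjAut : GL (Fin n) F →* MulAut PSLn).range).Normal := by
  rcases Nat.lt_or_ge n 3 with h | h
  · obtain ⟨ψ, -, hk⟩ := exists_aut_hom_two (F := F) (n := n) (by omega)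
    rw [← hk]; infer_instance
  · obtain ⟨ψ, -, hk, -⟩ := exists_aut_hom_three (F := F) (n := n) h
    rw [← hk]; infer_instance

lemma fieldAut_injective (hn : 2 ≤ n) : Function.Injective (fieldAut : (F ≃+* F) →* MulAut PSLn) := by
  rw [injective_iff_map_eq_one]
  intro σ h
  exact (eq_one_of_semilinear_eq_one hn (g := 1) (σ := σ) (by rw [map_one, one_mul]; exact h)).1

lemma scalar_of_conjAut_eq_one (hn : 2 ≤ n) {g : GL (Fin n) F} (h : (conjAut g : MulAut PSLn) = 1) :
    ∃ c : Fˣ, g = GeneralLinearGroup.scalar (Fin n) c := by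
  have := MonoidHom.mem_ker.2 h
  rw [ker_conjAut hn, GeneralLinearGroup.center_eq_range_scalar] at this
  obtain ⟨c, hc⟩ := this
  exact ⟨c, hc.symm⟩

lemma conjAut_scalar (hn : 2 ≤ n) (c : Fˣ) :
    (conjAut (GeneralLinearGroup.scalar (Fin n) c) : MulAut PSLn) = 1 := by
  rw [← MonoidHom.mem_ker, ker_conjAut hn, GeneralLinearGroup.center_eq_range_scalar]
  exact ⟨c, rfl⟩

/-- Elements of prime order in the coset of a field automorphism are conjugate to it. -/
lemma conj_of_orderOf_field (hn : 2 ≤ n) {σ : F ≃+* F} {r : ℕ} (hσ : orderOf σ = r) (g : GL (Fin n) F)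
    (h : orderOf (conjAut g * fieldAut σ : MulAut PSLn) = r) :
    Cfsg.IsConjUnder (conjAut : GL (Fin n) F →* MulAut PSLn).range (fieldAut σ) (conjAut g * fieldAut σ) := by
  have h1 := pow_orderOf_eq_one (conjAut g * fieldAut σ : MulAut PSLn)
  rw [h, conjAut_mul_fieldAut_pow, ← hσ, pow_orderOf_eq_one, map_one, mul_one, hσ] at h1
  obtain ⟨c, hc⟩ := scalar_of_conjAut_eq_one hn h1
  obtain ⟨k, d, hk⟩ := exists_coboundary_of_scalar hσ hc (by omega)
  refine ⟨conjAut k, ⟨k, rfl⟩, ?_⟩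
  rw [hk, map_mul, conjAut_scalar hn, one_mul, map_mul, mul_assoc, map_inv, mul_assoc]
  congr 1
  have h4 := fieldAut_mul_conjAut (n := n) σ k
  rw [← map_inv conjAut k, fieldAut_mul_conjAut, map_inv (fieldGL σ), map_inv conjAut]

lemma graphField_sq (σ : F ≃+* F) (g : GL (Fin n) F) :
    (conjAut g * (fieldAut σ * iotaAut) : MulAut PSLn) ^ 2 =
      conjAut (g * fieldGL σ (iotaGL g)) * fieldAut (σ * σ) := by
  have h1 : (fieldAut σ * iotaAut * conjAut g : MulAut PSLn) = conjAut (fieldGL σ (iotaGL g)) * (fieldAut σ * iotaAut) := by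
    rw [mul_assoc, iotaAut_mul_conjAut, ← mul_assoc, fieldAut_mul_conjAut, mul_assoc]
  have h2 : (fieldAut σ * iotaAut * (fieldAut σ * iotaAut) : MulAut PSLn) = fieldAut (σ * σ) := by
    rw [map_mul, mul_assoc, ← mul_assoc iotaAut (fieldAut σ), iotaAut_mul_fieldAut, mul_assoc, iotaAut_mul_self, mul_one]
  rw [sq, mul_assoc, ← mul_assoc (fieldAut σ * iotaAut), h1, mul_assoc, h2, ← mul_assoc, map_mul conjAut]

/-- Involutions in the coset of a graph-field automorphism are conjugate to it. -/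
lemma conj_of_orderOf_graphField (hn : 2 ≤ n) {σ : F ≃+* F} (hσ : orderOf σ = 2) (g : GL (Fin n) F)
    (h : orderOf (conjAut g * (fieldAut σ * iotaAut) : MulAut PSLn) = 2) :
    Cfsg.IsConjUnder (conjAut : GL (Fin n) F →* MulAut PSLn).range (fieldAut σ * iotaAut)
      (conjAut g * (fieldAut σ * iotaAut)) := by
  have hσ2 : σ * σ = 1 := by rw [← sq, ← hσ, pow_orderOf_eq_one]
  have hinv : ∀ a, σ (σ a) = a := fun a => by rw [← RingAut.mul_apply, hσ2]; rfl
  have hne : σ ≠ RingEquiv.refl F := fun h' => by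
    rw [show σ = 1 from h', orderOf_one] at hσ
    exact absurd hσ (by norm_num)
  have h1 := pow_orderOf_eq_one (conjAut g * (fieldAut σ * iotaAut) : MulAut PSLn)
  rw [h, graphField_sq, hσ2, map_one, mul_one] at h1
  obtain ⟨c, hc⟩ := scalar_of_conjAut_eq_one hn h1
  -- `g = c • σ(g)ᵀ`
  have hg : (g : Matrix (Fin n) (Fin n) F) = (c : F) • ((g : Matrix (Fin n) (Fin n) F).map σ)ᵀ := by
    have h2 : g = GeneralLinearGroup.scalar (Fin n) c * (fieldGL σ (iotaGL g))⁻¹ := by rw [← hc, mul_inv_cancel_right]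
    have h3 : ((fieldGL σ (iotaGL g))⁻¹ : GL (Fin n) F).1 = ((g : Matrix (Fin n) (Fin n) F).map σ)ᵀ := by
      rw [← map_inv, fieldGL_val, ← map_inv]
      show ((g⁻¹⁻¹ : GL (Fin n) F) : Matrix (Fin n) (Fin n) F)ᵀ.map σ = _
      rw [inv_inv, transpose_map]
    conv_lhs => rw [h2, Units.val_mul, h3]
    ext i j
    simp [Matrix.smul_apply]
  have hc1 : normHom σ 2 c = 1 := by
    refine Units.ext ?_
    show (c : F) * σ ((c : F) * σ 1) = 1
    have h5 := congrArg (fun M : Matrix (Fin n) (Fin n) F => (M.map σ)ᵀ) hg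
    have h6 : ((c : F) * σ (c : F)) • (g : Matrix (Fin n) (Fin n) F) = (g : Matrix (Fin n) (Fin n) F) := by
      conv_rhs => rw [hg, h5]
      ext i j
      simp [Matrix.smul_apply, hinv, mul_assoc]
    rw [map_one, mul_one]
    by_contra hne'
    have h7 : (g : Matrix (Fin n) (Fin n) F) = 0 := by
      ext i j
      have := congrFun (congrFun h6 i) j
      simp only [Matrix.smul_apply, smul_eq_mul] at this
      have h8 : ((c : F) * σ (c : F) - 1) * (g : Matrix (Fin n) (Fin n) F) i j = 0 := by linear_combination this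
      exact (mul_eq_zero.1 h8).resolve_left (sub_ne_zero.2 hne')
    haveI : Nonempty (Fin n) := ⟨⟨0, by omega⟩⟩
    exact g.ne_zero h7
  obtain ⟨y, hy⟩ := normHom_ker hσ (MonoidHom.mem_ker.2 hc1)
  let g' : GL (Fin n) F := GeneralLinearGroup.scalar (Fin n) y⁻¹ * g
  have hg' : ((g' : Matrix (Fin n) (Fin n) F).map σ)ᵀ = g' := by
    have hy' : (c : F) = (y : F) / σ y := by rw [← hy, nuHom_apply]; simp
    ext i j
    have := congrFun (congrFun hg i) j
    simp only [Matrix.smul_apply, Matrix.transpose_apply, Matrix.map_apply, smul_eq_mul] at this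
    have hgv : ∀ a b, (g' : Matrix (Fin n) (Fin n) F) a b = ((y⁻¹ : Fˣ) : F) * (g : Matrix (Fin n) (Fin n) F) a b := by
      intro a b
      show ((GeneralLinearGroup.scalar (Fin n) y⁻¹ : GL (Fin n) F).val * g.val) a b = _
      show ((diagonal fun _ : Fin n => ((y⁻¹ : Fˣ) : F)) * (g : Matrix (Fin n) (Fin n) F)) a b = _
      rw [diagonal_mul]
    rw [Matrix.transpose_apply, Matrix.map_apply, hgv, hgv, map_mul, Units.val_inv_eq_inv_val, map_inv₀, this, hy']
    have hy0 : (y : F) ≠ 0 := y.ne_zero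
    field_simp
  obtain ⟨k, hk⟩ := exists_hermitian_factor hne hinv hg'
  refine ⟨conjAut k, ⟨k, rfl⟩, ?_⟩
  have hk' : g' = k * (fieldGL σ (iotaGL k))⁻¹ := by
    refine Units.ext ?_
    rw [hk, Units.val_mul k, ← map_inv, fieldGL_val, ← map_inv]
    show _ = _ * ((k⁻¹⁻¹ : GL (Fin n) F) : Matrix (Fin n) (Fin n) F)ᵀ.map σ
    rw [inv_inv, transpose_map]
  have hgg : (conjAut g : MulAut PSLn) = conjAut g' := by
    rw [show g' = GeneralLinearGroup.scalar (Fin n) y⁻¹ * g from rfl, map_mul, conjAut_scalar hn, one_mul]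
  have h4 : (fieldAut σ * iotaAut * conjAut k : MulAut PSLn) = conjAut (fieldGL σ (iotaGL k)) * (fieldAut σ * iotaAut) := by
    rw [mul_assoc, iotaAut_mul_conjAut, ← mul_assoc, fieldAut_mul_conjAut, mul_assoc]
  rw [hgg, hk', map_mul, map_inv, mul_assoc, mul_assoc (conjAut k)]
  congr 1
  rw [inv_mul_eq_iff_eq_mul, ← mul_assoc, ← h4, mul_inv_cancel_right]

/-- The index of `S · SL` through the determinant. -/
lemma index_sup_ker_det (hn : 1 ≤ n) (S : Subgroup (GL (Fin n) F)) :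
    (S ⊔ (GeneralLinearGroup.det : GL (Fin n) F →* Fˣ).ker).index = (S.map GeneralLinearGroup.det).index := by
  haveI : Nonempty (Fin n) := ⟨⟨0, hn⟩⟩
  rw [Subgroup.index_map, MonoidHom.range_eq_top.2 GeneralLinearGroup.det_surjective, Subgroup.index_top, mul_one]

/-- The index of `P · N` in a cyclic group, `P` the `n`-th powers. -/
lemma index_sup_powers (N : Subgroup Fˣ) (k : ℕ) :
    ((powMonoidHom k : Fˣ →* Fˣ).range ⊔ N).index = Nat.gcd N.index k := by
  have h : (powMonoidHom k : Fˣ →* Fˣ).range ⊔ N =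
      (powMonoidHom (α := Fˣ ⧸ N) k).range.comap (QuotientGroup.mk' N) := by
    rw [← Subgroup.comap_map_eq_self (H := (powMonoidHom k : Fˣ →* Fˣ).range ⊔ N) (f := QuotientGroup.mk' N)
      (by rw [QuotientGroup.ker_mk']; exact le_sup_right)]
    congr 1
    rw [Subgroup.map_sup, QuotientGroup.map_mk'_self, sup_bot_eq]
    ext y
    constructor
    · rintro ⟨_, ⟨u, rfl⟩, rfl⟩
      exact ⟨QuotientGroup.mk u, rfl⟩
    · rintro ⟨v, rfl⟩
      induction v using QuotientGroup.induction_on with | _ u => ?_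
      exact ⟨u ^ k, ⟨u, rfl⟩, rfl⟩
  rw [h, Subgroup.index_comap_of_surjective _ (QuotientGroup.mk'_surjective N)]
  haveI : IsCyclic (Fˣ ⧸ N) := isCyclic_of_surjective _ (QuotientGroup.mk'_surjective N)
  rw [IsCyclic.index_powMonoidHom_range, Subgroup.index]

lemma inn_eq_map : Cfsg.Inn PSLn = (GeneralLinearGroup.det : GL (Fin n) F →* Fˣ).ker.map conjAut := by
  rw [← CfsgLib.Classical.range_toGL]
  ext β
  constructor
  · rintro ⟨x, rfl⟩
    induction x using QuotientGroup.induction_on with | _ s => ?_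
    exact ⟨_, ⟨s, rfl⟩, (conj_eq_conjAut s).symm⟩
  · rintro ⟨_, ⟨s, rfl⟩, rfl⟩
    exact ⟨QuotientGroup.mk s, conj_eq_conjAut s⟩

/-- The stabiliser of a field automorphism in `GL`. -/
lemma mem_stab_field (hn : 2 ≤ n) {σ : F ≃+* F} {r : ℕ} (hσ : orderOf σ = r) (g : GL (Fin n) F) :
    g ∈ (Subgroup.centralizer {(fieldAut σ : MulAut PSLn)}).comap conjAut ↔
      ∃ y : Fˣ, fieldGL σ (GeneralLinearGroup.scalar (Fin n) y * g) = GeneralLinearGroup.scalar (Fin n) y * g := by
  rw [Subgroup.mem_comap, Subgroup.mem_centralizer_singleton_iff, fieldAut_mul_conjAut, mul_left_inj]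
  constructor
  · intro h
    obtain ⟨c, hc⟩ := scalar_of_conjAut_eq_one hn (g := fieldGL σ g * g⁻¹) (by rw [map_mul, ← h, map_inv, mul_inv_cancel])
    have hc' : fieldGL σ g = GeneralLinearGroup.scalar (Fin n) c * g := by rw [← hc, inv_mul_cancel_right]
    have hker : normHom σ r c = 1 := by
      have key : ∀ k, fieldGL (σ ^ k) g = GeneralLinearGroup.scalar (Fin n) (normHom σ k c) * g := by
        intro k
        induction k with
        | zero => rw [pow_zero, fieldGL_one, show normHom σ 0 c = 1 from rfl, map_one, one_mul]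
        | succ k ih =>
          rw [pow_succ', fieldGL_mul, ih, map_mul, fieldGL_scalar, hc', ← mul_assoc, ← map_mul, mul_comm]
          rfl
      have h1 := key r
      rw [← hσ, pow_orderOf_eq_one, fieldGL_one, hσ] at h1
      have h2 : GeneralLinearGroup.scalar (Fin n) (normHom σ r c) = 1 := mul_right_cancel (h1.symm.trans (one_mul g).symm)
      haveI : Nonempty (Fin n) := ⟨⟨0, by omega⟩⟩
      have h3 := congrArg (fun M : GL (Fin n) F => M.val (⟨0, by omega⟩ : Fin n) (⟨0, by omega⟩ : Fin n)) h2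
      exact Units.ext (by simpa using h3)
    obtain ⟨y, hy⟩ := normHom_ker hσ (MonoidHom.mem_ker.2 hker)
    refine ⟨y, ?_⟩
    rw [map_mul, fieldGL_scalar, hc', ← mul_assoc, ← map_mul]
    congr 2
    rw [← hy, nuHom_apply, mul_div_cancel]
  · rintro ⟨y, hy⟩
    have := congrArg (conjAut : GL (Fin n) F →* MulAut PSLn) hy
    rw [map_mul (fieldGL σ), fieldGL_scalar, map_mul, map_mul, conjAut_scalar hn, conjAut_scalar hn, one_mul, one_mul] at this
    exact this.symm

/-- `GL` over a subfield inside `GL`. -/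
abbrev subGL (K : Subfield F) : GL (Fin n) K →* GL (Fin n) F :=
  Units.map K.subtype.mapMatrix.toMonoidHom

lemma exists_subGL {σ : F ≃+* F} {g : GL (Fin n) F} (h : fieldGL σ g = g) :
    ∃ g₀ : GL (Fin n) (fixedField σ), subGL (fixedField σ) g₀ = g := by
  have h1 : ∀ (u : GL (Fin n) F), fieldGL σ u = u → ∀ i j, (u : Matrix (Fin n) (Fin n) F) i j ∈ fixedField σ :=
    fun u hu i j => congrArg (fun M : GL (Fin n) F => M.val i j) hu
  refine ⟨⟨Matrix.of fun i j => ⟨_, h1 g h i j⟩, Matrix.of fun i j => ⟨_, h1 g⁻¹ (by rw [map_inv, h]) i j⟩, ?_, ?_⟩, ?_⟩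
  · refine Matrix.map_injective Subtype.val_injective ?_
    show ((fixedField σ).subtype.mapMatrix) _ = ((fixedField σ).subtype.mapMatrix) _
    rw [map_mul, map_one]
    exact g.mul_inv
  · refine Matrix.map_injective Subtype.val_injective ?_
    show ((fixedField σ).subtype.mapMatrix) _ = ((fixedField σ).subtype.mapMatrix) _
    rw [map_mul, map_one]
    exact g.inv_mul
  · exact Units.ext (Matrix.ext fun i j => rfl)

lemma fieldGL_subGL {σ : F ≃+* F} (g₀ : GL (Fin n) (fixedField σ)) :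
    fieldGL σ (subGL (fixedField σ) g₀) = subGL (fixedField σ) g₀ :=
  Units.ext (Matrix.ext fun i j => (((g₀ : Matrix (Fin n) (Fin n) (fixedField σ)) i j).2))

/-- The centraliser of a field automorphism is `PGL` over the fixed field. -/
lemma centralizer_field_equiv (hn : 2 ≤ n) {σ : F ≃+* F} {r : ℕ} (hσ : orderOf σ = r) (K₀ : Type*) [Field K₀]
    (e : fixedField σ ≃+* K₀) :
    Nonempty (↥((conjAut : GL (Fin n) F →* MulAut PSLn).range ⊓ Subgroup.centralizer {(fieldAut σ : MulAut PSLn)}) ≃*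
      Matrix.ProjGenLinGroup (Fin n) K₀) := by
  have hmem : ∀ g₀ : GL (Fin n) (fixedField σ), (conjAut (subGL (fixedField σ) g₀) : MulAut PSLn) ∈
      (conjAut : GL (Fin n) F →* MulAut PSLn).range ⊓ Subgroup.centralizer {(fieldAut σ : MulAut PSLn)} := fun g₀ =>
    ⟨⟨_, rfl⟩, Subgroup.mem_comap.1 ((mem_stab_field hn hσ _).2 ⟨1, by rw [map_one, one_mul, fieldGL_subGL]⟩)⟩
  let E : GL (Fin n) K₀ ≃* GL (Fin n) (fixedField σ) := Units.mapEquiv e.symm.mapMatrix.toMulEquiv
  let Φ : GL (Fin n) K₀ →* ↥((conjAut : GL (Fin n) F →* MulAut PSLn).range ⊓ Subgroup.centralizer {(fieldAut σ : MulAut PSLn)}) :=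
    (((conjAut : GL (Fin n) F →* MulAut PSLn).comp (subGL (fixedField σ))).codRestrict _ hmem).comp E.toMonoidHom
  have hs : Function.Surjective Φ := by
    rintro ⟨β, ⟨g, rfl⟩, hc⟩
    obtain ⟨y, hy⟩ := (mem_stab_field hn hσ g).1 (Subgroup.mem_comap.2 hc)
    obtain ⟨g₀, hg₀⟩ := exists_subGL hy
    obtain ⟨g₁, rfl⟩ := E.surjective g₀
    refine ⟨g₁, Subtype.ext ?_⟩
    show conjAut (subGL (fixedField σ) (E g₁)) = _
    rw [hg₀, map_mul, conjAut_scalar hn, one_mul]
  have hk : Φ.ker = Subgroup.center (GL (Fin n) K₀) := by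
    ext g
    have hg : g ∈ Φ.ker ↔ subGL (fixedField σ) (E g) ∈ Subgroup.center (GL (Fin n) F) := by
      rw [← ker_conjAut hn, MonoidHom.mem_ker, MonoidHom.mem_ker]
      exact ⟨fun h => congrArg Subtype.val h, fun h => Subtype.ext h⟩
    rw [hg, GeneralLinearGroup.center_eq_range_scalar, GeneralLinearGroup.center_eq_range_scalar]
    constructor
    · rintro ⟨c, hc⟩
      have hcf : (c : F) ∈ fixedField σ := by
        have := congrArg (fun M : GL (Fin n) F => M.val (⟨0, by omega⟩ : Fin n) (⟨0, by omega⟩ : Fin n)) hc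
        simp at this
        rw [this]
        exact SetLike.coe_mem _
      refine ⟨Units.mk0 (e ⟨c, hcf⟩) (by simp [Subtype.ext_iff]), E.injective (Units.ext (Matrix.ext fun i j => Subtype.ext ?_))⟩
      have := congrArg (fun M : GL (Fin n) F => (M : Matrix (Fin n) (Fin n) F) i j) hc
      rcases eq_or_ne i j with rfl | hij
      · simpa [E] using this
      · simpa [E, hij] using this
    · rintro ⟨c, rfl⟩
      refine ⟨Units.map (((fixedField σ).subtype.comp e.symm.toRingHom).toMonoidHom) c, Units.ext (Matrix.ext fun i j => ?_)⟩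
      rcases eq_or_ne i j with rfl | hij
      · simp [E]
      · simp [E, hij]
  exact ⟨((QuotientGroup.quotientMulEquivOfEq hk.symm).trans (QuotientGroup.quotientKerEquivOfSurjective Φ hs)).symm⟩

/-- Class splitting of a field automorphism. -/
lemma splitClassCount_field (hn : 2 ≤ n) {σ : F ≃+* F} {r : ℕ} (hσ : orderOf σ = r) :
    Cfsg.splitClassCount (conjAut : GL (Fin n) F →* MulAut PSLn).range (Cfsg.Inn PSLn) (fieldAut σ) =
      Nat.gcd ((Fintype.card F - 1) / (Nat.card (fixedField σ) - 1)) n := by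
  rw [inn_eq_map, splitClassCount_eq_index, index_sup_ker_det (by omega)]
  have hS : ((Subgroup.centralizer {(fieldAut σ : MulAut PSLn)}).comap conjAut).map GeneralLinearGroup.det =
      (powMonoidHom n : Fˣ →* Fˣ).range ⊔ fixedUnits σ := by
    haveI : Nonempty (Fin n) := ⟨⟨0, by omega⟩⟩
    apply le_antisymm
    · rintro _ ⟨g, hg, rfl⟩
      obtain ⟨y, hy⟩ := (mem_stab_field hn hσ g).1 hg
      have hd : GeneralLinearGroup.det (GeneralLinearGroup.scalar (Fin n) y * g) ∈ fixedUnits σ := by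
        obtain ⟨g₀, hg₀⟩ := exists_subGL hy
        rw [← hg₀]
        show σ ((subGL (fixedField σ) g₀ : Matrix (Fin n) (Fin n) F).det) = _
        have hdet : (subGL (fixedField σ) g₀ : Matrix (Fin n) (Fin n) F).det = (((g₀ : Matrix (Fin n) (Fin n) (fixedField σ)).det : fixedField σ) : F) :=
          (RingHom.map_det (fixedField σ).subtype _).symm
        rw [GeneralLinearGroup.val_det_apply, hdet]
        exact ((g₀ : Matrix (Fin n) (Fin n) (fixedField σ)).det).2
      rw [map_mul] at hd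
      have hys : GeneralLinearGroup.det (GeneralLinearGroup.scalar (Fin n) y) = y ^ n := Units.ext (by simp)
      rw [show GeneralLinearGroup.det g = (y⁻¹) ^ n * (y ^ n * GeneralLinearGroup.det g) by rw [inv_pow, inv_mul_cancel_left]]
      exact Subgroup.mul_mem_sup ⟨y⁻¹, rfl⟩ (hys ▸ hd)
    · refine sup_le ?_ ?_
      · rintro _ ⟨y, rfl⟩
        refine ⟨GeneralLinearGroup.scalar (Fin n) y, (mem_stab_field hn hσ _).2 ⟨y⁻¹, by rw [← map_mul, inv_mul_cancel, map_one, map_one]⟩,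
          Units.ext (by simp)⟩
      · intro a ha
        let D : GL (Fin n) F := ⟨diagonal (Function.update 1 (⟨0, by omega⟩ : Fin n) (a : F)),
          diagonal (Function.update 1 (⟨0, by omega⟩ : Fin n) ((a⁻¹ : Fˣ) : F)), by
            rw [diagonal_mul_diagonal, ← diagonal_one]
            congr 1; funext i; rcases eq_or_ne i (⟨0, by omega⟩ : Fin n) with rfl | hi <;> simp [*], by
            rw [diagonal_mul_diagonal, ← diagonal_one]
            congr 1; funext i; rcases eq_or_ne i (⟨0, by omega⟩ : Fin n) with rfl | hi <;> simp [*]⟩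
        refine ⟨D, (mem_stab_field hn hσ _).2 ⟨1, ?_⟩, Units.ext ?_⟩
        · rw [map_one, one_mul]
          refine Units.ext ?_
          rw [fieldGL_val]
          show (diagonal _).map σ = diagonal _
          rw [diagonal_map (map_zero σ)]
          congr 1; funext i
          rcases eq_or_ne i (⟨0, by omega⟩ : Fin n) with rfl | hi
          · simpa using (show σ (a : F) = a from ha)
          · simp [hi]
        · show (diagonal (Function.update 1 (⟨0, by omega⟩ : Fin n) (a : F))).det = a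
          rw [det_diagonal, Finset.prod_update_of_mem (Finset.mem_univ _)]
          simp
  rw [hS, index_sup_powers]
  congr 1
  have h1 := Subgroup.index_mul_card (fixedUnits σ)
  rw [Nat.card_units, card_fixedUnits, Nat.card_eq_fintype_card (α := F)] at h1
  have hpos : 0 < Nat.card (fixedField σ) - 1 := by
    have := card_fixedUnits σ
    have : 0 < Nat.card (fixedUnits σ) := Nat.card_pos
    omega
  rw [← h1, Nat.mul_div_cancel _ hpos]

end CfsgLib.PSLAut
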