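/-
Graph-field involutions of PSL_n: centraliser and class splitting in Inndiag.
-/
import Cfsg.Agent.Lib.KnownSimple.PSLAut.FieldType

set_option autoImplicit false

namespace CfsgLib.PSLAut

open Matrix

variable {F : Type*} [Field F] [Fintype F] {n : ℕ}

local notation "PSLn" => Matrix.ProjectiveSpecialLinearGroup (Fin n) F

lemma normHom_two (σ : F ≃+* F) (c : Fˣ) :
    ((normHom σ 2 c : Fˣ) : F) = (c : F) * σ c := by
  show (c : F) * σ ((c : F) * σ 1) = _
  rw [map_one, mul_one]

lemma twist_twist {σ : F ≃+* F} (hinv : ∀ a, σ (σ a) = a) (g : GL (Fin n) F) :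
    fieldGL σ (iotaGL (fieldGL σ (iotaGL g))) = g := by
  have h : iotaGL (fieldGL σ (iotaGL g)) = fieldGL σ g := by
    refine Units.ext ?_
    show (((fieldGL σ (iotaGL g))⁻¹ : GL (Fin n) F) : Matrix (Fin n) (Fin n) F)ᵀ = _
    rw [← map_inv, fieldGL_val, ← map_inv]
    show ((g⁻¹⁻¹ : GL (Fin n) F).1ᵀ.map σ)ᵀ = _
    rw [inv_inv, transpose_map, transpose_transpose, fieldGL_val]
  rw [h, ← fieldGL_mul, show σ * σ = 1 from RingEquiv.ext hinv, fieldGL_one]

lemma twist_scalar (σ : F ≃+* F) (c : Fˣ) :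
    fieldGL σ (iotaGL (GeneralLinearGroup.scalar (Fin n) c)) =
      GeneralLinearGroup.scalar (Fin n) (Units.map σ.toRingHom.toMonoidHom c⁻¹) := by
  rw [show iotaGL (GeneralLinearGroup.scalar (Fin n) c) = GeneralLinearGroup.scalar (Fin n) c⁻¹ from
    Units.ext (by
      show ((GeneralLinearGroup.scalar (Fin n) c)⁻¹).1ᵀ = _
      rw [← map_inv]
      exact diagonal_transpose _), fieldGL_scalar]

/-- The stabiliser of a graph-field involution in `GL`. -/
lemma mem_stab_graphField (hn : 2 ≤ n) {σ : F ≃+* F} (hσ : orderOf σ = 2) (g : GL (Fin n) F) :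
    g ∈ (Subgroup.centralizer {(fieldAut σ * iotaAut : MulAut PSLn)}).comap conjAut ↔
      ∃ y : Fˣ, fieldGL σ (iotaGL (GeneralLinearGroup.scalar (Fin n) y * g)) = GeneralLinearGroup.scalar (Fin n) y * g := by
  have hinv : ∀ a, σ (σ a) = a := fun a => by
    rw [← RingAut.mul_apply, ← sq, ← hσ, pow_orderOf_eq_one]; rfl
  have h0 : (fieldAut σ * iotaAut * conjAut g : MulAut PSLn) = conjAut (fieldGL σ (iotaGL g)) * (fieldAut σ * iotaAut) := by
    rw [mul_assoc, iotaAut_mul_conjAut, ← mul_assoc, fieldAut_mul_conjAut, mul_assoc]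
  rw [Subgroup.mem_comap, Subgroup.mem_centralizer_singleton_iff, h0, mul_left_inj]
  haveI : Nonempty (Fin n) := ⟨⟨0, by omega⟩⟩
  constructor
  · intro h
    obtain ⟨c, hc⟩ := scalar_of_conjAut_eq_one hn (g := fieldGL σ (iotaGL g) * g⁻¹)
      (by rw [map_mul, ← h, map_inv, mul_inv_cancel])
    have hc' : fieldGL σ (iotaGL g) = GeneralLinearGroup.scalar (Fin n) c * g := by rw [← hc, inv_mul_cancel_right]
    have hfix : c ∈ fixedUnits σ := by
      have h1 := twist_twist hinv g
      rw [hc', map_mul, map_mul (fieldGL σ), twist_scalar, hc', ← mul_assoc, ← map_mul] at h1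
      have h2 : GeneralLinearGroup.scalar (Fin n) (Units.map σ.toRingHom.toMonoidHom c⁻¹ * c) = 1 :=
        mul_right_cancel (h1.trans (one_mul g).symm)
      generalize hw : Units.map σ.toRingHom.toMonoidHom c⁻¹ * c = w at h2
      have h3 : (w : F) = 1 := by
        simpa using congrArg (fun M : GL (Fin n) F => M.val (⟨0, by omega⟩ : Fin n) (⟨0, by omega⟩ : Fin n)) h2
      show σ (c : F) = c
      rw [← hw] at h3
      simp [Units.val_inv_eq_inv_val, map_inv₀] at h3
      exact (inv_mul_eq_one₀ (by simp)).1 h3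
    obtain ⟨y, hy⟩ : c ∈ (normHom σ 2).range := range_normHom hσ ▸ hfix
    refine ⟨y, ?_⟩
    rw [map_mul, map_mul (fieldGL σ), twist_scalar, hc', ← mul_assoc, ← map_mul]
    congr 2
    refine Units.ext ?_
    rw [← hy, Units.val_mul, normHom_two]
    simp [Units.val_inv_eq_inv_val, map_inv₀]
    have hy0 : σ (y : F) ≠ 0 := by simp
    field_simp
  · rintro ⟨y, hy⟩
    have := congrArg (conjAut : GL (Fin n) F →* MulAut PSLn) hy
    rw [map_mul iotaGL, map_mul (fieldGL σ), twist_scalar, map_mul, map_mul, conjAut_scalar hn, conjAut_scalar hn,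
      one_mul, one_mul] at this
    exact this.symm

/-- Membership of the standard unitary group. -/
lemma twist_eq_iff_mem_GU {σ : F ≃+* F} (hinv : ∀ a, σ (σ a) = a) {q : ℕ} (hq : ∀ a, σ a = a ^ q) (g : GL (Fin n) F) :
    fieldGL σ (iotaGL g) = g ↔ g ∈ Cfsg.GU n F q := by
  have hform : ∀ u v : Fin n → F, Cfsg.hermForm n F q u v = u ⬝ᵥ (σ ∘ v) := fun u v => by
    simp [Cfsg.hermForm, dotProduct, hq]
  have key : fieldGL σ (iotaGL g) = g ↔ (g : Matrix (Fin n) (Fin n) F)ᵀ * (g : Matrix (Fin n) (Fin n) F).map σ = 1 := by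
    constructor
    · intro h
      have h1 : (g : Matrix (Fin n) (Fin n) F) = (((g⁻¹ : GL (Fin n) F) : Matrix (Fin n) (Fin n) F).map σ)ᵀ := by
        conv_lhs => rw [← h]
        rw [fieldGL_val]
        show ((g⁻¹ : GL (Fin n) F).1ᵀ).map σ = _
        rw [transpose_map]
      conv_lhs => arg 1; rw [h1, transpose_transpose]
      rw [← fieldGL_val, ← fieldGL_val, ← Units.val_mul, ← map_mul, inv_mul_cancel, map_one, Units.val_one]
    · intro h
      refine Units.ext ?_
      have h1 : (g : Matrix (Fin n) (Fin n) F)ᵀ = (((g⁻¹ : GL (Fin n) F) : Matrix (Fin n) (Fin n) F).map σ) := by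
        calc (g : Matrix (Fin n) (Fin n) F)ᵀ
            = (g : Matrix (Fin n) (Fin n) F)ᵀ * ((fieldGL σ g * fieldGL σ g⁻¹ : GL (Fin n) F) : Matrix (Fin n) (Fin n) F) := by
              rw [← map_mul, mul_inv_cancel, map_one, Units.val_one, mul_one]
          _ = _ := by rw [Units.val_mul, fieldGL_val, fieldGL_val, ← mul_assoc, h, one_mul]
      rw [fieldGL_val]
      show (g⁻¹ : GL (Fin n) F).1ᵀ.map σ = _
      rw [transpose_map, ← h1, transpose_transpose]
  rw [key]
  have hexp : ∀ u v : Fin n → F, Cfsg.hermForm n F q ((g : Matrix (Fin n) (Fin n) F) *ᵥ u) ((g : Matrix (Fin n) (Fin n) F) *ᵥ v) =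
      u ⬝ᵥ (((g : Matrix (Fin n) (Fin n) F)ᵀ * (g : Matrix (Fin n) (Fin n) F).map σ) *ᵥ (σ ∘ v)) := fun u v => by
    rw [hform, map_mulVec_comp, ← mulVec_mulVec, dotProduct_mulVec u, vecMul_transpose]
  constructor
  · intro h u v
    show Cfsg.hermForm n F q ((g : Matrix (Fin n) (Fin n) F) *ᵥ u) ((g : Matrix (Fin n) (Fin n) F) *ᵥ v) = _
    rw [hexp, h, one_mulVec, hform]
  · intro h
    ext i j
    have := h (Pi.single i 1) (Pi.single j 1)
    change Cfsg.hermForm n F q ((g : Matrix (Fin n) (Fin n) F) *ᵥ Pi.single i 1) ((g : Matrix (Fin n) (Fin n) F) *ᵥ Pi.single j 1) = _ at this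
    have hs : σ ∘ (Pi.single j (1 : F) : Fin n → F) = Pi.single j 1 := by
      funext k
      rcases eq_or_ne k j with rfl | hk
      · simp
      · simp [hk]
    rw [hexp, hform, hs] at this
    simpa [Matrix.one_apply, Pi.single_apply, eq_comm] using this

/-- The centraliser of a graph-field involution is `PGU`. -/
lemma centralizer_graphField_equiv (hn : 2 ≤ n) {σ : F ≃+* F} (hσ : orderOf σ = 2) {q : ℕ} (hq : ∀ a, σ a = a ^ q) :
    Nonempty (↥((conjAut : GL (Fin n) F →* MulAut PSLn).range ⊓ Subgroup.centralizer {(fieldAut σ * iotaAut : MulAut PSLn)}) ≃*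
      Cfsg.PGU n F q) := by
  have hinv : ∀ a, σ (σ a) = a := fun a => by
    rw [← RingAut.mul_apply, ← sq, ← hσ, pow_orderOf_eq_one]; rfl
  have hmem : ∀ u : Cfsg.GU n F q, (conjAut (u : GL (Fin n) F) : MulAut PSLn) ∈
      (conjAut : GL (Fin n) F →* MulAut PSLn).range ⊓ Subgroup.centralizer {(fieldAut σ * iotaAut : MulAut PSLn)} := fun u =>
    ⟨⟨_, rfl⟩, Subgroup.mem_comap.1 ((mem_stab_graphField hn hσ _).2
      ⟨1, by rw [map_one, one_mul]; exact (twist_eq_iff_mem_GU hinv hq _).2 u.2⟩)⟩
  let Φ := (((conjAut : GL (Fin n) F →* MulAut PSLn).comp (Cfsg.GU n F q).subtype).codRestrict _ hmem)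
  have hs : Function.Surjective Φ := by
    rintro ⟨β, ⟨g, rfl⟩, hc⟩
    obtain ⟨y, hy⟩ := (mem_stab_graphField hn hσ g).1 (Subgroup.mem_comap.2 hc)
    refine ⟨⟨_, (twist_eq_iff_mem_GU hinv hq _).1 hy⟩, Subtype.ext ?_⟩
    show conjAut (GeneralLinearGroup.scalar (Fin n) y * g) = _
    rw [map_mul, conjAut_scalar hn, one_mul]
  have hk : Φ.ker = (Cfsg.Geo.scalars (Fin n) F).subgroupOf (Cfsg.GU n F q) := by
    ext u
    have hu : u ∈ Φ.ker ↔ (u : GL (Fin n) F) ∈ Subgroup.center (GL (Fin n) F) := by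
      rw [← ker_conjAut hn, MonoidHom.mem_ker, MonoidHom.mem_ker]
      exact ⟨fun h => congrArg Subtype.val h, fun h => Subtype.ext h⟩
    rw [hu, GeneralLinearGroup.center_eq_range_scalar, Subgroup.mem_subgroupOf]
    rfl
  exact ⟨((QuotientGroup.quotientMulEquivOfEq hk.symm).trans (QuotientGroup.quotientKerEquivOfSurjective Φ hs)).symm⟩

/-- Class splitting of a graph-field involution. -/
lemma splitClassCount_graphField (hn : 2 ≤ n) {σ : F ≃+* F} (hσ : orderOf σ = 2) :
    Cfsg.splitClassCount (conjAut : GL (Fin n) F →* MulAut PSLn).range (Cfsg.Inn PSLn) (fieldAut σ * iotaAut) =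
      Nat.gcd (Nat.card (fixedField σ) - 1) n := by
  rw [inn_eq_map, splitClassCount_eq_index, index_sup_ker_det (by omega)]
  haveI : Nonempty (Fin n) := ⟨⟨0, by omega⟩⟩
  have hS : ((Subgroup.centralizer {(fieldAut σ * iotaAut : MulAut PSLn)}).comap conjAut).map GeneralLinearGroup.det =
      (powMonoidHom n : Fˣ →* Fˣ).range ⊔ (normHom σ 2).ker := by
    apply le_antisymm
    · rintro _ ⟨g, hg, rfl⟩
      obtain ⟨y, hy⟩ := (mem_stab_graphField hn hσ g).1 hg
      have hd : GeneralLinearGroup.det (GeneralLinearGroup.scalar (Fin n) y * g) ∈ (normHom σ 2).ker := by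
        rw [MonoidHom.mem_ker]
        refine Units.ext ?_
        set u := GeneralLinearGroup.scalar (Fin n) y * g
        rw [normHom_two, Units.val_one]
        have h1 := congrArg (fun M : GL (Fin n) F => M.val.det) hy
        rw [fieldGL_val] at h1
        have h2 : ((iotaGL u : GL (Fin n) F).1.map σ).det = σ ((u⁻¹ : GL (Fin n) F).1.det) := by
          show (((u⁻¹ : GL (Fin n) F).1ᵀ).map σ).det = _
          rw [transpose_map, det_transpose]
          exact (RingEquiv.map_det σ _).symm
        rw [h2] at h1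
        rw [GeneralLinearGroup.val_det_apply]
        calc u.1.det * σ u.1.det = σ ((u⁻¹ : GL (Fin n) F).1.det * u.1.det) := by rw [map_mul, h1]
          _ = 1 := by rw [← det_mul, ← Units.val_mul, inv_mul_cancel, Units.val_one, det_one, map_one]
      rw [map_mul] at hd
      have hys : GeneralLinearGroup.det (GeneralLinearGroup.scalar (Fin n) y) = y ^ n := Units.ext (by simp)
      rw [show GeneralLinearGroup.det g = (y⁻¹) ^ n * (y ^ n * GeneralLinearGroup.det g) by rw [inv_pow, inv_mul_cancel_left]]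
      exact Subgroup.mul_mem_sup ⟨y⁻¹, rfl⟩ (hys ▸ hd)
    · refine sup_le ?_ ?_
      · rintro _ ⟨y, rfl⟩
        refine ⟨GeneralLinearGroup.scalar (Fin n) y, (mem_stab_graphField hn hσ _).2 ⟨y⁻¹, by
          rw [← map_mul, inv_mul_cancel, map_one, map_one, map_one]⟩, Units.ext (by simp)⟩
      · intro a ha
        let z : Fin n := ⟨0, by omega⟩
        let D : GL (Fin n) F := ⟨diagonal (Function.update 1 z (a : F)),
          diagonal (Function.update 1 z ((a⁻¹ : Fˣ) : F)), by
            rw [diagonal_mul_diagonal, ← diagonal_one]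
            congr 1; funext i; rcases eq_or_ne i z with rfl | hi <;> simp [*], by
            rw [diagonal_mul_diagonal, ← diagonal_one]
            congr 1; funext i; rcases eq_or_ne i z with rfl | hi <;> simp [*]⟩
        have ha' : (a : F) * σ a = 1 := by
          have := congrArg Units.val (MonoidHom.mem_ker.1 ha)
          rwa [normHom_two] at this
        refine ⟨D, (mem_stab_graphField hn hσ _).2 ⟨1, ?_⟩, Units.ext ?_⟩
        · rw [map_one, one_mul]
          refine Units.ext ?_
          rw [fieldGL_val]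
          show ((diagonal (Function.update 1 z ((a⁻¹ : Fˣ) : F)))ᵀ).map σ = diagonal _
          rw [diagonal_transpose, diagonal_map (map_zero σ)]
          congr 1; funext i
          rcases eq_or_ne i z with rfl | hi
          · simp [Units.val_inv_eq_inv_val, map_inv₀]
            exact (eq_inv_of_mul_eq_one_left ha').symm
          · simp [hi]
        · show (diagonal (Function.update 1 z (a : F))).det = a
          rw [det_diagonal, Finset.prod_update_of_mem (Finset.mem_univ _)]
          simp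
  rw [hS, index_sup_powers]
  congr 1
  rw [Subgroup.index_ker, range_normHom hσ, card_fixedUnits]

end CfsgLib.PSLAut
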