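/-
Field-type automorphisms of prime order are conjugate under Inndiag to standard ones.
-/
import Cfsg.Agent.Lib.KnownSimple.PSLAut.GraphField
import Cfsg.Agent.Lib.Classical.HermBasic

set_option autoImplicit false

namespace CfsgLib.PSLAut

open Matrix

variable {F : Type*} [Field F] [Fintype F] {n : ℕ}

local notation "PSLn" => Matrix.ProjectiveSpecialLinearGroup (Fin n) F

lemma ringAut_comm (σ τ : F ≃+* F) : σ * τ = τ * σ := by
  obtain ⟨p, _⟩ := CharP.exists F
  obtain ⟨f, hp, hf⟩ := FiniteField.card F p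
  haveI : Fact p.Prime := ⟨hp⟩
  obtain ⟨e⟩ := exists_ringAut_equiv (F := F) hf
  exact e.injective (by rw [map_mul, map_mul, mul_comm])

lemma ringAut_eq_of_orderOf_two {σ τ : F ≃+* F} (hσ : orderOf σ = 2) (hτ : orderOf τ = 2) : σ = τ := by
  obtain ⟨p, _⟩ := CharP.exists F
  obtain ⟨f, hp, hf⟩ := FiniteField.card F p
  haveI : Fact p.Prime := ⟨hp⟩
  obtain ⟨e⟩ := exists_ringAut_equiv (F := F) hf
  haveI : IsCyclic (F ≃+* F) := isCyclic_of_surjective e.symm e.symm.surjective
  haveI := finite_ringAut (F := F)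
  by_contra hne
  classical
  haveI : Fintype (F ≃+* F) := Fintype.ofFinite _
  have h := IsCyclic.card_pow_eq_one_le (α := F ≃+* F) (show 0 < 2 by norm_num)
  have hsub : ({1, σ, τ} : Finset (F ≃+* F)) ⊆ Finset.univ.filter (fun a : F ≃+* F => a ^ 2 = 1) := by
    intro a ha
    simp only [Finset.mem_insert, Finset.mem_singleton] at ha
    rw [Finset.mem_filter]
    refine ⟨Finset.mem_univ _, ?_⟩
    rcases ha with rfl | rfl | rfl
    · exact one_pow 2
    · rw [← hσ]; exact pow_orderOf_eq_one _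
    · rw [← hτ]; exact pow_orderOf_eq_one _
  have h3 : ({1, σ, τ} : Finset (F ≃+* F)).card = 3 := by
    rw [Finset.card_insert_of_notMem, Finset.card_pair hne]
    simp only [Finset.mem_insert, Finset.mem_singleton, not_or]
    exact ⟨fun e' => by rw [← e', orderOf_one] at hσ; omega, fun e' => by rw [← e', orderOf_one] at hτ; omega⟩
  have := (Finset.card_le_card hsub).trans h
  omega

/-- A conjugate of a standard field or graph-field automorphism is a conjugate under `Inndiag`. -/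
lemma exists_conj_inndiag (hn : 2 ≤ n) (x₀ α : MulAut PSLn)
    (hf : ∀ τ : F ≃+* F, Commute (fieldAut τ) x₀) (hi : 3 ≤ n → Commute iotaAut x₀) :
    ∃ g : GL (Fin n) F, α * x₀ * α⁻¹ = conjAut g * x₀ * (conjAut g)⁻¹ := by
  obtain ⟨g, τ, rfl | ⟨h3, rfl⟩⟩ := aut_classification hn α
  · refine ⟨g, ?_⟩
    calc conjAut g * fieldAut τ * x₀ * (conjAut g * fieldAut τ)⁻¹
        = conjAut g * (fieldAut τ * x₀ * (fieldAut τ)⁻¹) * (conjAut g)⁻¹ := by group
      _ = _ := by rw [(hf τ).eq, mul_inv_cancel_right]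
  · refine ⟨g, ?_⟩
    calc conjAut g * fieldAut τ * iotaAut * x₀ * (conjAut g * fieldAut τ * iotaAut)⁻¹
        = conjAut g * (fieldAut τ * (iotaAut * x₀ * iotaAut⁻¹) * (fieldAut τ)⁻¹) * (conjAut g)⁻¹ := by group
      _ = _ := by rw [(hi h3).eq, mul_inv_cancel_right, (hf τ).eq, mul_inv_cancel_right]

lemma orderOf_fieldAut (hn : 2 ≤ n) (σ : F ≃+* F) : orderOf (fieldAut σ : MulAut PSLn) = orderOf σ :=
  orderOf_injective _ (fieldAut_injective hn) σ

lemma orderOf_conj_eq (a x : MulAut PSLn) : orderOf (a * x * a⁻¹) = orderOf x :=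
  orderOf_injective (MulAut.conj a).toMonoidHom (MulAut.conj a).injective x

/-- A field automorphism of prime order is `Inndiag`-conjugate to a standard one. -/
lemma exists_standard_field (hn : 2 ≤ n) {x : MulAut PSLn} (hx : Cfsg.IsFieldAutClassPSL x) {r : ℕ}
    (hxr : orderOf x = r) :
    ∃ (σ : F ≃+* F) (g : GL (Fin n) F), orderOf σ = r ∧ x = conjAut g * fieldAut σ * (conjAut g)⁻¹ := by
  obtain ⟨α, σ, -, h⟩ := hx
  rw [isStdFieldAutPSL_iff] at h
  obtain ⟨g, hg⟩ := exists_conj_inndiag hn (fieldAut σ) α⁻¹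
    (fun τ => by show _ = _; rw [← map_mul, ← map_mul, ringAut_comm])
    (fun _ => iotaAut_mul_fieldAut σ)
  refine ⟨σ, g, ?_, ?_⟩
  · rw [← orderOf_fieldAut hn σ, ← h, orderOf_conj_eq, hxr]
  · rw [← hg, ← h]; group

/-- A graph-field automorphism of prime order has order two and is `Inndiag`-conjugate to a standard one. -/
lemma exists_standard_graphField (hn : 2 ≤ n) {x : MulAut PSLn} (hx : Cfsg.IsGraphFieldAutClassPSL x) {r : ℕ}
    (hr : r.Prime) (hxr : orderOf x = r) :
    r = 2 ∧ ∃ (σ : F ≃+* F) (g : GL (Fin n) F), orderOf σ = 2 ∧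
      x = conjAut g * (fieldAut σ * iotaAut) * (conjAut g)⁻¹ := by
  obtain ⟨h3, α, φ, γ, σ, hσ, hφ, hγ, h⟩ := hx
  rw [isStdFieldAutPSL_iff] at hφ
  rw [isInverseTransposeAutPSL_iff] at hγ
  subst hφ; subst hγ
  have ho : orderOf (fieldAut σ * iotaAut : MulAut PSLn) = r := by rw [← h, orderOf_conj_eq, hxr]
  have hc : Commute (fieldAut σ : MulAut PSLn) iotaAut := (iotaAut_mul_fieldAut σ).symm
  have hpow := pow_orderOf_eq_one (fieldAut σ * iotaAut : MulAut PSLn)
  rw [ho, hc.mul_pow, ← map_pow] at hpow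
  have hi2 : (iotaAut : MulAut PSLn) ^ 2 = 1 := by rw [sq, iotaAut_mul_self]
  rcases hr.eq_two_or_odd with h2 | hodd
  · subst h2
    rw [hi2, mul_one] at hpow
    refine ⟨rfl, σ, ?_⟩
    obtain ⟨g, hg⟩ := exists_conj_inndiag hn (fieldAut σ * iotaAut) α⁻¹
      (fun τ => (show Commute (fieldAut τ : MulAut PSLn) (fieldAut σ) by show _ = _; rw [← map_mul, ← map_mul, ringAut_comm]).mul_right
        (iotaAut_mul_fieldAut τ).symm)
      (fun _ => (show Commute (iotaAut : MulAut PSLn) (fieldAut σ) from iotaAut_mul_fieldAut σ).mul_right (Commute.refl _))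
    refine ⟨g, ?_, by rw [← hg, ← h]; group⟩
    exact orderOf_eq_prime (fieldAut_injective hn (hpow.trans (map_one _).symm)) hσ
  · exfalso
    obtain ⟨k, hk⟩ : ∃ k, r = 2 * k + 1 := ⟨r / 2, by omega⟩
    rw [hk, pow_succ iotaAut, pow_mul iotaAut, hi2, one_pow, one_mul] at hpow
    refine iotaAut_ne h3 1 ((σ ^ (2 * k + 1))⁻¹) ?_
    rw [map_one, one_mul, map_inv]
    exact eq_inv_of_mul_eq_one_right hpow

/-- The fixed field has the expected order. -/
lemma card_fixedField_eq {σ : F ≃+* F} {p f r : ℕ} (hp : p.Prime) (hF : Fintype.card F = p ^ f) (hr : r ≠ 0)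
    (hσ : orderOf σ = r) : r ∣ f ∧ Nat.card (fixedField σ) = p ^ (f / r) := by
  have h := card_fixedField σ
  rw [hF, hσ] at h
  obtain ⟨j, -, hj⟩ := (Nat.dvd_prime_pow hp).1 (h ▸ dvd_pow_self _ hr : Nat.card (fixedField σ) ∣ p ^ f)
  rw [hj, ← pow_mul] at h
  have hf := Nat.pow_right_injective hp.two_le h
  exact ⟨⟨j, hf.trans (mul_comm _ _)⟩, by rw [hj, hf, Nat.mul_div_cancel _ (Nat.pos_of_ne_zero hr)]⟩

/-- An involutory field automorphism is the power map by the order of its fixed field. -/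
lemma apply_eq_pow_of_orderOf_two {σ : F ≃+* F} (hσ : orderOf σ = 2) (a : F) :
    σ a = a ^ Nat.card (fixedField σ) := by
  obtain ⟨s, hs, hs2, hne⟩ := CfsgLib.Classical.exists_qPow
    (show Fintype.card F = Nat.card (fixedField σ) ^ 2 by rw [← hσ]; exact card_fixedField σ)
  let τ : F ≃+* F := RingEquiv.ofBijective s ⟨s.injective, fun b => ⟨s b, hs2 b⟩⟩
  have hτ : orderOf τ = 2 := by
    refine orderOf_eq_prime ?_ fun h => hne (RingHom.ext fun b => DFunLike.congr_fun h b)
    rw [sq]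
    exact RingEquiv.ext hs2
  exact (DFunLike.congr_fun (ringAut_eq_of_orderOf_two hσ hτ) a).trans (hs a)

end CfsgLib.PSLAut
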