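/-
Field automorphisms of PSL: the subfield group and the core of their centralisers.
-/
import Cfsg.Agent.Lib.KnownSimple.PSLAut.FieldType
import Cfsg.Agent.Lib.KnownSimple.PSLAut.Galois
import Cfsg.Agent.Lib.KnownSimple.Balance
import Cfsg.Agent.Lib.Components.SLBlock
import Cfsg.Agent.Lib.Classical.GLOrder

set_option autoImplicit false

namespace CfsgLib.PSLAut

open Matrix
open scoped LinearAlgebra.Projectivization

variable {F : Type*} [Field F] [Fintype F] {n : ℕ}

local notation "SLn" => Matrix.SpecialLinearGroup (Fin n) F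
local notation "PSLn" => Matrix.ProjectiveSpecialLinearGroup (Fin n) F
local notation "Mn" => Matrix (Fin n) (Fin n) F

omit [Fintype F] in
/-- A scalar multiple of a unipotent matrix of index two is unipotent only for the trivial scalar. -/
lemma scalar_eq_one_of_conj {g : GL (Fin n) F} {E E' : Mn} {c : F} (hE : E * E = 0) (hE' : E' * E' = 0)
    {v : Fin n → F} (hv : v ≠ 0) (hEv : E' *ᵥ v = 0)
    (h : (g : Mn) * (1 + E) = c • ((1 + E') * (g : Mn))) : c = 1 := by
  have h1 : c • (1 + E') - 1 = (g : Mn) * E * ((g⁻¹ : GL (Fin n) F) : Mn) := by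
    calc c • (1 + E') - 1 = (c • ((1 + E') * (g : Mn))) * ((g⁻¹ : GL (Fin n) F) : Mn) - 1 := by
          rw [Matrix.smul_mul, Matrix.mul_assoc, Units.mul_inv, Matrix.mul_one]
      _ = _ := by
          rw [← h, Matrix.mul_add, Matrix.mul_one, Matrix.add_mul, Units.mul_inv, add_sub_cancel_left]
  have h2 : (c • (1 + E') - 1) * (c • (1 + E') - 1) = 0 := by
    rw [h1]
    calc (g : Mn) * E * ((g⁻¹ : GL (Fin n) F) : Mn) * ((g : Mn) * E * ((g⁻¹ : GL (Fin n) F) : Mn))
        = (g : Mn) * E * ((((g⁻¹ : GL (Fin n) F) : Mn) * (g : Mn)) * E) * ((g⁻¹ : GL (Fin n) F) : Mn) := by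
          simp only [Matrix.mul_assoc]
      _ = _ := by rw [Units.inv_mul, Matrix.one_mul, Matrix.mul_assoc (g : Mn), hE, Matrix.mul_zero, Matrix.zero_mul]
  have h3 : (c • (1 + E') - 1) *ᵥ v = (c - 1) • v := by
    rw [sub_mulVec, smul_mulVec, add_mulVec, one_mulVec, hEv, add_zero, sub_smul, one_smul]
  have h4 := congrArg (fun M : Mn => M *ᵥ v) h2
  simp only [← mulVec_mulVec, h3, mulVec_smul, smul_smul, zero_mulVec, smul_eq_zero, hv, or_false, mul_self_eq_zero] at h4
  exact sub_eq_zero.1 h4

/-- The subfield group. -/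
noncomputable def subSL (σ : F ≃+* F) : Matrix.SpecialLinearGroup (Fin n) (fixedField σ) →* SLn :=
  Matrix.SpecialLinearGroup.map (fixedField σ).subtype

/-- The subfield group as automorphisms. -/
noncomputable def subInn (σ : F ≃+* F) : Matrix.SpecialLinearGroup (Fin n) (fixedField σ) →* MulAut PSLn :=
  MulAut.conj.comp ((QuotientGroup.mk' _).comp (subSL σ))

variable (σ : F ≃+* F)

omit [Fintype F] in
lemma subInn_apply (s : Matrix.SpecialLinearGroup (Fin n) (fixedField σ)) :
    subInn σ s = (conjAut (Matrix.SpecialLinearGroup.toGL (subSL σ s)) : MulAut PSLn) := conj_eq_conjAut _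

omit [Fintype F] in
lemma toGL_subSL (s : Matrix.SpecialLinearGroup (Fin n) (fixedField σ)) :
    Matrix.SpecialLinearGroup.toGL (subSL σ s) = subGL (fixedField σ) (Matrix.SpecialLinearGroup.toGL s) :=
  Units.ext rfl

lemma range_subInn_le (hn : 2 ≤ n) {p : ℕ} (hσ : orderOf σ = p) :
    (subInn σ : _ →* MulAut PSLn).range ≤ Cfsg.Inn PSLn ⊓ Subgroup.centralizer {fieldAut σ} := by
  rintro _ ⟨s, rfl⟩
  refine ⟨⟨_, rfl⟩, ?_⟩
  rw [subInn_apply, toGL_subSL]
  exact Subgroup.mem_comap.1 ((mem_stab_field hn hσ _).2 ⟨1, by rw [map_one, one_mul, fieldGL_subGL]⟩)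

lemma normalizes_subInn (hn : 2 ≤ n) {p : ℕ} (hσ : orderOf σ = p) :
    ∀ z ∈ Cfsg.Inn PSLn ⊓ Subgroup.centralizer {fieldAut σ}, ∀ r ∈ (subInn σ : _ →* MulAut PSLn).range,
      z * r * z⁻¹ ∈ (subInn σ : _ →* MulAut PSLn).range := by
  rintro z ⟨hzI, hzc⟩ _ ⟨s, rfl⟩
  obtain ⟨g, rfl⟩ := inn_le_range_conjAut hzI
  obtain ⟨y, hy⟩ := (mem_stab_field hn hσ g).1 (Subgroup.mem_comap.2 hzc)
  obtain ⟨g₀, hg₀⟩ := exists_subGL hy
  have he : (conjAut g : MulAut PSLn) = conjAut (subGL (fixedField σ) g₀) := by
    rw [hg₀, map_mul, conjAut_scalar hn, one_mul]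
  have hdet : (g₀ * Matrix.SpecialLinearGroup.toGL s * g₀⁻¹).val.det = 1 := by
    rw [Units.val_mul, Units.val_mul, det_mul, det_mul, mul_comm, ← mul_assoc, ← det_mul, Units.inv_mul, det_one, one_mul]
    exact s.2
  let s' : Matrix.SpecialLinearGroup (Fin n) (fixedField σ) := ⟨_, hdet⟩
  refine ⟨s', ?_⟩
  rw [he, subInn_apply, subInn_apply, ← map_inv, ← map_mul, ← map_mul, toGL_subSL, toGL_subSL, ← map_inv,
    ← map_mul, ← map_mul]
  congr 2
  exact Units.ext rfl

omit [Fintype F] in
/-- Kernel elements are scalar. -/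
lemma scalar_of_subInn_eq_one [Fintype F] (hn : 2 ≤ n) {s : Matrix.SpecialLinearGroup (Fin n) (fixedField σ)}
    (h : subInn σ s = (1 : MulAut PSLn)) :
    ∃ c : fixedField σ, (s : Matrix (Fin n) (Fin n) (fixedField σ)) = c • 1 := by
  rw [subInn_apply] at h
  obtain ⟨c, hc⟩ := scalar_of_conjAut_eq_one hn h
  let i₀ : Fin n := ⟨0, by omega⟩
  refine ⟨(s : Matrix (Fin n) (Fin n) (fixedField σ)) i₀ i₀, Matrix.ext fun i j => Subtype.ext ?_⟩
  have key : ∀ a b, (((s : Matrix (Fin n) (Fin n) (fixedField σ)) a b : fixedField σ) : F) =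
      if a = b then (c : F) else 0 := fun a b => by
    have := congrArg (fun M : GL (Fin n) F => (M : Mn) a b) hc
    simpa [subSL, Matrix.diagonal_apply] using this
  rw [key, Matrix.smul_apply, smul_eq_mul, Matrix.one_apply, Subfield.coe_mul, key i₀ i₀, if_pos rfl]
  split_ifs <;> simp

/-- A prime dividing the centraliser divides the subfield group. -/
lemma dvd_card_subInn (hn : 2 ≤ n) {p : ℕ} [Fact p.Prime] (hσ : orderOf σ = p) {r : ℕ} [Fact r.Prime] [CharP F r]
    (hpr : p ≠ r) (hp : p = 2 ∨ p ∣ Nat.card ↥(Cfsg.Inn PSLn ⊓ Subgroup.centralizer {(fieldAut σ : MulAut PSLn)})) :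
    p ∣ Nat.card (subInn σ : _ →* MulAut PSLn).range := by
  classical
  letI : Fintype (fixedField σ) := Fintype.ofFinite _
  have hprime := (Fact.out : p.Prime)
  set K := fixedField σ
  let i₀ : Fin n := ⟨0, by omega⟩
  let i₁ : Fin n := ⟨1, by omega⟩
  have hne : i₀ ≠ i₁ := by simp [i₀, i₁]
  have hwit : ∀ s : Matrix.SpecialLinearGroup (Fin n) K, (subInn σ s : MulAut PSLn) ^ p = 1 →
      subInn σ s ≠ (1 : MulAut PSLn) → p ∣ Nat.card (subInn σ : _ →* MulAut PSLn).range := fun s h1 h2 => by
    rw [← orderOf_eq_prime h1 h2]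
    exact Subgroup.orderOf_dvd_natCard _ ⟨s, rfl⟩
  rcases eq_or_ne p 2 with h2p | hp2
  · have h2 : (2 : K) ≠ 0 := fun h => hpr (h2p.trans ((Nat.prime_dvd_prime_iff_eq (Fact.out : r.Prime) Nat.prime_two).1
      ((CharP.cast_eq_zero_iff F r 2).1 (by
        have := congrArg K.subtype h
        rw [map_ofNat, map_zero] at this
        exact_mod_cast this))).symm)
    let P : Matrix (Fin n) (Fin n) K := Matrix.of fun i j =>
      if i = i₀ then (if j = i₁ then 1 else 0) else if i = i₁ then (if j = i₀ then -1 else 0) else if i = j then 1 else 0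
    have hPsq : P * P = Matrix.diagonal fun i => if i = i₀ ∨ i = i₁ then -1 else 1 := by
      ext i j
      rw [Matrix.mul_apply]
      rcases eq_or_ne i i₀ with rfl | hi0
      · rw [Finset.sum_eq_single i₁ (fun b _ hb => by simp [P, hb]) (by simp)]
        rcases eq_or_ne j i₀ with rfl | hj <;> simp [P, hne.symm, Matrix.diagonal_apply, *, eq_comm]
      rcases eq_or_ne i i₁ with rfl | hi1
      · rw [Finset.sum_eq_single i₀ (fun b _ hb => by simp [P, hb, hne.symm]) (by simp)]
        rcases eq_or_ne j i₁ with rfl | hj <;> simp [P, hne.symm, Matrix.diagonal_apply, *, eq_comm]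
      · rw [Finset.sum_eq_single i (fun b _ hb => by simp [P, hi0, hi1, Ne.symm hb]) (by simp)]
        rcases eq_or_ne j i with rfl | hj <;> simp [P, Matrix.diagonal_apply, hi0, hi1, *, eq_comm]
    have hPd : P.det = 1 := by
      have h : P = Matrix.transvection i₀ i₁ (1 : K) * Matrix.transvection i₁ i₀ (-1) * Matrix.transvection i₀ i₁ 1 := by
        ext i j
        simp only [Matrix.transvection, add_mul, one_mul, mul_add, mul_one, Matrix.single_mul_single_same,
          Matrix.single_mul_single_of_ne _ _ _ _ hne.symm, Matrix.single_mul_single_of_ne _ _ _ _ hne,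
          Matrix.add_apply, Matrix.one_apply, Matrix.single_apply, P, Matrix.of_apply]
        rcases eq_or_ne i i₀ with rfl | hi0
        · rcases eq_or_ne j i₀ with rfl | hj0
          · simp [hne, hne.symm]
          · rcases eq_or_ne j i₁ with rfl | hj1
            · simp [hne, hne.symm, hj0, Ne.symm hj0]
            · simp [hne, hne.symm, hj0, Ne.symm hj0, hj1, Ne.symm hj1]
        rcases eq_or_ne i i₁ with rfl | hi1
        · rcases eq_or_ne j i₁ with rfl | hj1
          · simp [hne, hne.symm]
          · rcases eq_or_ne j i₀ with rfl | hj0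
            · simp [hne, hne.symm, hj1, Ne.symm hj1]
            · simp [hne, hne.symm, hj0, Ne.symm hj0, hj1, Ne.symm hj1]
        · simp [hi0, hi1, Ne.symm hi0, Ne.symm hi1]
      rw [h, det_mul, det_mul, det_transvection_of_ne _ _ hne, det_transvection_of_ne _ _ hne.symm, one_mul, one_mul]
    let s : Matrix.SpecialLinearGroup (Fin n) K := ⟨P, hPd⟩
    have hs1 : subInn σ s ≠ (1 : MulAut PSLn) := fun h => by
      obtain ⟨c, hc⟩ := scalar_of_subInn_eq_one σ hn h
      simpa [s, P, hne] using congrFun (congrFun hc i₀) i₁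
    rcases Nat.lt_or_ge n 3 with hn3 | hn3
    · refine hwit s ?_ hs1
      rw [h2p, sq, ← map_mul, subInn_apply]
      have hd : (Matrix.SpecialLinearGroup.toGL (subSL σ (s * s)) : GL (Fin n) F) = GeneralLinearGroup.scalar (Fin n) (-1) := by
        refine Units.ext ?_
        show ((P * P).map K.subtype : Mn) = _
        rw [hPsq, diagonal_map (map_zero _)]
        simp only [GeneralLinearGroup.coe_scalar, Matrix.scalar_apply]
        congr 1; funext i
        have : i = i₀ ∨ i = i₁ := by rcases i with ⟨_ | _ | k, hk⟩ <;> simp [i₀, i₁, Fin.ext_iff] <;> omega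
        simp [this]
      rw [hd, conjAut_scalar hn]
    · let i₂ : Fin n := ⟨2, by omega⟩
      refine hwit (s * s) ?_ fun h => ?_
      · have h4 : P * P * (P * P) = 1 := by
          rw [hPsq, diagonal_mul_diagonal, ← diagonal_one]
          congr 1; funext i; split_ifs <;> ring
        rw [h2p, sq, ← map_mul, ← map_one (subInn σ : _ →* MulAut PSLn)]
        exact congrArg _ (Subtype.ext h4)
      · obtain ⟨c, hc⟩ := scalar_of_subInn_eq_one σ hn h
        change P * P = _ at hc
        rw [hPsq] at hc
        have e0 := congrFun (congrFun hc i₀) i₀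
        have e2 := congrFun (congrFun hc i₂) i₂
        simp [i₀, i₁, i₂, Fin.ext_iff] at e0 e2
        exact h2 (by linear_combination e2 - e0)
  · replace hp := hp.resolve_left hp2
    haveI hFK : Finite K := inferInstance
    obtain ⟨e⟩ := centralizer_field_equiv hn hσ K (RingEquiv.refl K)
    have hGL : p ∣ Nat.card (GL (Fin n) K) := by
      refine hp.trans ((Subgroup.card_dvd_of_le (inf_le_inf_right _ inn_le_range_conjAut)).trans ?_)
      rw [Nat.card_congr e.toEquiv]
      exact Subgroup.card_quotient_dvd_card _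
    by_cases hq : p ∣ Nat.card Kˣ
    · obtain ⟨a, ha⟩ := exists_prime_orderOf_dvd_card' p hq
      let d : Fin n → K := fun i => if i = i₀ then (a : K) else if i = i₁ then ((a⁻¹ : Kˣ) : K) else 1
      let s : Matrix.SpecialLinearGroup (Fin n) K := ⟨Matrix.diagonal d, by
        rw [det_diagonal, Fintype.prod_eq_mul i₀ i₁ hne (fun x hx => by simp [d, hx.1, hx.2])]
        simp [d, hne.symm]⟩
      refine hwit s ?_ fun h => ?_
      · rw [← map_pow, ← map_one (subInn σ : _ →* MulAut PSLn)]
        refine congrArg _ (Subtype.ext ?_)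
        show (Matrix.diagonal d) ^ p = (1 : Matrix (Fin n) (Fin n) K)
        rw [diagonal_pow, ← diagonal_one]
        congr 1; funext i
        simp only [Pi.pow_apply, d]
        split_ifs
        · rw [← Units.val_pow_eq_pow_val, ← ha, pow_orderOf_eq_one, Units.val_one]
        · rw [← Units.val_pow_eq_pow_val, inv_pow, ← ha, pow_orderOf_eq_one, inv_one, Units.val_one]
        · exact one_pow _
      · obtain ⟨c, hc⟩ := scalar_of_subInn_eq_one σ hn h
        have e0 : (a : K) = c := by simpa [s, d] using congrFun (congrFun hc i₀) i₀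
        have e1 : ((a⁻¹ : Kˣ) : K) = c := by simpa [s, d, hne.symm] using congrFun (congrFun hc i₁) i₁
        have h2 : a ^ 2 = 1 := by
          rw [sq]
          nth_rewrite 2 [Units.ext (e0.trans e1.symm)]
          exact mul_inv_cancel a
        have h3 := orderOf_dvd_of_pow_eq_one h2
        rw [ha] at h3
        exact hp2 ((Nat.prime_dvd_prime_iff_eq hprime Nat.prime_two).1 h3)
    · set f := (subInn σ : Matrix.SpecialLinearGroup (Fin n) K →* MulAut PSLn)
      have hker : ¬ p ∣ Nat.card f.ker := fun h => by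
        obtain ⟨⟨s, hs⟩, hso⟩ := exists_prime_orderOf_dvd_card' p h
        obtain ⟨c, hc⟩ := scalar_of_subInn_eq_one σ hn (MonoidHom.mem_ker.1 hs)
        have hsp : s ^ p = 1 := congrArg Subtype.val ((orderOf_dvd_iff_pow_eq_one (x := (⟨s, hs⟩ : f.ker))).1 hso.dvd)
        have h1 := congrFun (congrFun (congrArg Subtype.val hsp) i₀) i₀
        change ((s : Matrix (Fin n) (Fin n) K) ^ p) i₀ i₀ = (1 : Matrix (Fin n) (Fin n) K) i₀ i₀ at h1
        rw [hc, smul_pow, one_pow] at h1
        simp at h1
        have hc0 : c ≠ 0 := fun h0 => by simp [h0, hprime.ne_zero] at h1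
        have hu : (Units.mk0 c hc0) ^ p = 1 := Units.ext (by simpa using h1)
        have hu1 : Units.mk0 c hc0 ≠ 1 := fun e1 => by
          have : c = 1 := by simpa using congrArg Units.val e1
          have hs1 : s = 1 := Subtype.ext (by rw [hc, this, one_smul]; rfl)
          simp [hs1] at hso
          exact hprime.one_lt.ne hso
        exact hq (orderOf_eq_prime hu hu1 ▸ orderOf_dvd_natCard _)
      have hSL : p ∣ Nat.card (Matrix.SpecialLinearGroup (Fin n) K) := by
        rw [← Subgroup.card_top, Subgroup.card_top, Subgroup.card_eq_card_quotient_mul_card_subgroup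
          (GeneralLinearGroup.det : GL (Fin n) K →* Kˣ).ker] at hGL
        rw [Nat.card_congr (MonoidHom.ofInjective (Matrix.SpecialLinearGroup.toGL_injective (n := Fin n) (R := K))).toEquiv,
          CfsgLib.Classical.range_toGL]
        refine (hprime.dvd_mul.1 hGL).resolve_left fun h => hq ?_
        rw [Nat.card_congr (QuotientGroup.quotientKerEquivRange _).toEquiv] at h
        exact h.trans (Subgroup.card_subgroup_dvd_card _)
      rw [Subgroup.card_eq_card_quotient_mul_card_subgroup f.ker,
        Nat.card_congr (QuotientGroup.quotientKerEquivRange f).toEquiv] at hSL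
      exact (hprime.dvd_mul.1 hSL).resolve_right hker

omit [Fintype F] in
lemma apply_eq_of_commute [Fintype F] (hn : 2 ≤ n) (n' : MulAut PSLn) (x : PSLn) (h : Commute n' (MulAut.conj x)) :
    n' x = x := by
  have h1 : n' * MulAut.conj x = MulAut.conj (n' x) * n' := MulEquiv.ext fun y => by simp
  rw [h.eq] at h1
  have h2 := mul_right_cancel h1
  obtain ⟨s, rfl⟩ := QuotientGroup.mk_surjective x
  obtain ⟨t, ht⟩ := QuotientGroup.mk_surjective (n' (QuotientGroup.mk s))
  rw [← ht, conj_eq_conjAut, conj_eq_conjAut] at h2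
  obtain ⟨c, hc⟩ := scalar_of_conjAut_eq_one hn
    (g := (Matrix.SpecialLinearGroup.toGL s)⁻¹ * Matrix.SpecialLinearGroup.toGL t) (by rw [map_mul, map_inv, ← h2, inv_mul_cancel])
  rw [← ht]
  refine (QuotientGroup.eq.2 ?_).symm
  refine Subgroup.mem_center_iff.2 fun g => Matrix.SpecialLinearGroup.toGL_injective ?_
  simp only [map_mul, map_inv, hc]
  refine Units.ext ?_
  rw [Units.val_mul, Units.val_mul]
  rw [GeneralLinearGroup.coe_scalar, Matrix.scalar_apply, ← Matrix.smul_one_eq_diagonal, Matrix.mul_smul, Matrix.smul_mul, Matrix.mul_one, Matrix.one_mul]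

omit [Fintype F] in
/-- Elements of `SL` with the same image differ by a scalar. -/
lemma exists_smul_of_mk_eq [Fintype F] {s t : SLn} (h : (QuotientGroup.mk s : PSLn) = QuotientGroup.mk t) :
    ∃ c : F, (t : Mn) = c • (s : Mn) := by
  obtain ⟨c, -, hc⟩ := Matrix.SpecialLinearGroup.mem_center_iff.1 (QuotientGroup.eq.1 h)
  refine ⟨c, ?_⟩
  rw [show t = s * (s⁻¹ * t) by group, Matrix.SpecialLinearGroup.coe_mul, ← hc, Matrix.scalar_apply,
    ← Matrix.smul_one_eq_diagonal, Matrix.mul_smul, Matrix.mul_one]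

/-- An automorphism fixing the subfield group is a power of the field automorphism. -/
lemma mem_zpowers_of_commute (hn : 2 ≤ n) (n' : MulAut PSLn)
    (hR : ∀ z ∈ (subInn σ : _ →* MulAut PSLn).range, Commute n' z) :
    n' ∈ Subgroup.zpowers (fieldAut σ : MulAut PSLn) := by
  classical
  have hfix : ∀ s, n' (QuotientGroup.mk (subSL σ s)) = QuotientGroup.mk (subSL σ s) := fun s =>
    apply_eq_of_commute hn n' _ (hR _ ⟨s, rfl⟩)
  have hsub : ∀ {i j : Fin n} (hij : i ≠ j) (a : F) (ha : σ a = a),
      ((subSL σ (Matrix.SpecialLinearGroup.transvection hij (⟨a, ha⟩ : fixedField σ)) : SLn) : Mn) =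
        1 + Matrix.single i j a := by
    intro i j hij a ha
    show ((1 + Matrix.single i j (⟨a, ha⟩ : fixedField σ)).map (fixedField σ).subtype : Mn) = _
    rw [Matrix.map_add _ (map_add _), Matrix.map_one _ (map_zero _) (map_one _)]
    congr 1
    ext k l
    simp only [Matrix.map_apply, Matrix.single_apply, apply_ite (fixedField σ).subtype, map_zero]
    rfl
  obtain ⟨g, τ, he | ⟨h3, he⟩⟩ := aut_classification hn n'
  · have key : ∀ {i j : Fin n} (hij : i ≠ j) (a : F), σ a = a →
        (g : Mn) * (1 + Matrix.single i j (τ a)) = (1 + Matrix.single i j a) * (g : Mn) := by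
      intro i j hij a ha
      have h1 := hfix (Matrix.SpecialLinearGroup.transvection hij (⟨a, ha⟩ : fixedField σ))
      rw [he, MulAut.mul_apply, fieldAut_mk, conjAut_mk] at h1
      obtain ⟨c, hc⟩ := exists_smul_of_mk_eq h1.symm
      rw [conjSL_coe, fieldSL_coe, hsub hij a ha, Matrix.map_add _ (map_add τ), Matrix.map_one _ (map_zero τ) (map_one τ)] at hc
      have hm : (Matrix.single i j a).map τ = Matrix.single i j (τ a) := by
        ext k l; simp [Matrix.single_apply, apply_ite τ]
      rw [hm] at hc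
      have hc' : (g : Mn) * (1 + Matrix.single i j (τ a)) = c • ((1 + Matrix.single i j a) * (g : Mn)) := by
        rw [← Matrix.smul_mul, ← hc, Matrix.mul_assoc, Units.inv_mul, Matrix.mul_one]
      have hc1 := scalar_eq_one_of_conj (g := g) (Matrix.single_mul_single_of_ne _ _ _ _ hij.symm _)
        (Matrix.single_mul_single_of_ne _ _ _ _ hij.symm _) (v := Pi.single i 1) (by simp)
        (by funext k; simp [Matrix.single_apply, hij.symm]) hc'
      rw [hc', hc1, one_smul]
    have hoff : ∀ {i j : Fin n}, i ≠ j → (g : Mn) j j = (g : Mn) i i ∧ (g : Mn) j i = 0 := by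
      intro i j hij
      have h := key hij 1 (map_one σ)
      rw [map_one τ, Matrix.mul_add, Matrix.add_mul, Matrix.mul_one, Matrix.one_mul, add_right_inj] at h
      constructor
      · have := congrFun (congrFun h i) j
        simpa using this.symm
      · have := congrFun (congrFun h j) j
        simpa [hij, hij.symm] using this
    let i₀ : Fin n := ⟨0, by omega⟩
    have hg : (g : Mn) = (g : Mn) i₀ i₀ • 1 := by
      ext i j
      rcases eq_or_ne i j with rfl | hij
      · rcases eq_or_ne i₀ i with rfl | h0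
        · simp
        · simp [(hoff h0).1]
      · simp [hij, (hoff hij.symm).2]
    have hg0 : (g : Mn) i₀ i₀ ≠ 0 := fun h0 => by
      haveI : Nonempty (Fin n) := ⟨i₀⟩
      exact g.ne_zero (by rw [hg, h0, zero_smul])
    have hg1 : conjAut g = (1 : MulAut PSLn) := by
      rw [show g = GeneralLinearGroup.scalar (Fin n) (Units.mk0 _ hg0) from Units.ext (hg.trans (by
        simp [Matrix.smul_one_eq_diagonal])), conjAut_scalar hn]
    obtain ⟨k, hk⟩ := mem_zpowers_of_fixes (σ := σ) (τ := τ) fun a ha => by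
      have hij : i₀ ≠ (⟨1, by omega⟩ : Fin n) := by simp [i₀]
      have h := key hij a ha
      rw [hg] at h
      have h' := congrFun (congrFun h i₀) ⟨1, by omega⟩
      simp [Matrix.smul_apply, hij, Matrix.one_apply, smul_eq_mul] at h'
      rcases h' with h' | h'
      · exact h'
      · exact absurd h' hg0
    refine ⟨k, ?_⟩
    rw [he, hg1, one_mul, ← show σ ^ k = τ from hk, map_zpow]
  · exfalso
    have key : ∀ {i j : Fin n}, i ≠ j →
        (g : Mn) * (1 + Matrix.single j i (-1)) = (1 + Matrix.single i j 1) * (g : Mn) := by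
      intro i j hij
      have h1 := hfix (Matrix.SpecialLinearGroup.transvection hij (⟨1, map_one σ⟩ : fixedField σ))
      rw [he, MulAut.mul_apply, iotaAut_mk, MulAut.mul_apply, fieldAut_mk, conjAut_mk] at h1
      obtain ⟨c, hc⟩ := exists_smul_of_mk_eq h1.symm
      have hinv : ((subSL σ (Matrix.SpecialLinearGroup.transvection hij (⟨1, map_one σ⟩ : fixedField σ)))⁻¹ : SLn).1 =
          1 + Matrix.single i j (-1) := by
        rw [← map_inv, Matrix.SpecialLinearGroup.transvection_inv]
        exact hsub hij (-1) (by rw [map_neg, map_one])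
      rw [conjSL_coe, fieldSL_coe, iotaSL_coe, hinv, hsub hij 1 (map_one σ), transpose_add, transpose_one,
        transpose_single, Matrix.map_add _ (map_add τ), Matrix.map_one _ (map_zero τ) (map_one τ)] at hc
      have hm : (Matrix.single j i (-1 : F)).map τ = Matrix.single j i (-1) := by
        ext k l; simp [Matrix.single_apply, apply_ite τ]
      rw [hm] at hc
      have hc' : (g : Mn) * (1 + Matrix.single j i (-1)) = c • ((1 + Matrix.single i j 1) * (g : Mn)) := by
        rw [← Matrix.smul_mul, ← hc, Matrix.mul_assoc, Units.inv_mul, Matrix.mul_one]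
      have hc1 := scalar_eq_one_of_conj (g := g) (Matrix.single_mul_single_of_ne _ _ _ _ hij _)
        (Matrix.single_mul_single_of_ne _ _ _ _ hij.symm _) (v := Pi.single i 1) (by simp)
        (by funext k; simp [Matrix.single_apply, hij.symm]) hc'
      rw [hc', hc1, one_smul]
    have hzero : ∀ (a j : Fin n), (g : Mn) a j = 0 := by
      intro a j
      obtain ⟨i, hia, hij⟩ : ∃ i, i ≠ a ∧ i ≠ j := by
        have : ({a, j} : Finset (Fin n)).card < (Finset.univ : Finset (Fin n)).card := by
          rw [Finset.card_univ, Fintype.card_fin]; exact Finset.card_le_two.trans_lt h3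
        obtain ⟨i, -, hi⟩ := Finset.exists_mem_notMem_of_card_lt_card this
        simp only [Finset.mem_insert, Finset.mem_singleton, not_or] at hi
        exact ⟨i, hi.1, hi.2⟩
      have h := key hij
      rw [Matrix.mul_add, Matrix.add_mul, Matrix.mul_one, Matrix.one_mul, add_right_inj] at h
      have := congrFun (congrFun h a) i
      simpa [hia.symm] using this
    haveI : Nonempty (Fin n) := ⟨⟨0, by omega⟩⟩
    exact g.ne_zero (Matrix.ext hzero)

/-- Normal subgroups of the subfield group of order prime to `p` are trivial when `p` divides its order. -/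
lemma normal_coprime_eq_bot (hn : 2 ≤ n) {p : ℕ} [Fact p.Prime] (hσ : orderOf σ = p) {r : ℕ} [Fact r.Prime]
    [CharP F r] (hpr : p ≠ r) (hdiv : p ∣ Nat.card (subInn σ : _ →* MulAut PSLn).range)
    (M : Subgroup (MulAut PSLn)) (hM : M ≤ (subInn σ : _ →* MulAut PSLn).range)
    (hn' : ∀ r ∈ (subInn σ : _ →* MulAut PSLn).range, ∀ u ∈ M, r * u * r⁻¹ ∈ M) (hcop : (Nat.card M).Coprime p) :
    M = ⊥ := by
  classical
  letI : Fintype (fixedField σ) := Fintype.ofFinite _
  have hp := (Fact.out : p.Prime)
  set K := fixedField σ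
  set f : Matrix.SpecialLinearGroup (Fin n) K →* MulAut PSLn := subInn σ with hf
  set M₀ := M.comap f with hM₀
  haveI : M₀.Normal := ⟨fun u hu g => by
    rw [hM₀, Subgroup.mem_comap] at hu ⊢
    rw [map_mul, map_mul, map_inv]
    exact hn' _ ⟨g, rfl⟩ _ hu⟩
  have hmap : M₀.map f = M := Subgroup.map_comap_eq_self hM
  have hndvd : ¬ p ∣ Nat.card M := fun h => hp.one_lt.ne' (Nat.eq_one_of_dvd_coprimes hcop h dvd_rfl)
  by_cases hcen : M₀ ≤ Subgroup.center _
  · rw [← hmap, eq_bot_iff]
    rintro _ ⟨g, hg, rfl⟩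
    obtain ⟨c, -, hc⟩ := Matrix.SpecialLinearGroup.mem_center_iff.1 (hcen hg)
    refine Subgroup.mem_bot.2 ?_
    rw [hf, subInn_apply]
    have hc0 : c ≠ 0 := fun h0 => by
      have h := g.2
      haveI : Nonempty (Fin n) := ⟨⟨0, by omega⟩⟩
      rw [← hc, h0, map_zero, det_zero] at h
      exact zero_ne_one h
    rw [show Matrix.SpecialLinearGroup.toGL (subSL σ g) = GeneralLinearGroup.scalar (Fin n)
      (Units.mk0 ((c : K) : F) (fun h => hc0 (Subtype.ext h))) from Units.ext (by
        show (g : Matrix (Fin n) (Fin n) K).map K.subtype = _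
        rw [← hc, Matrix.scalar_apply, diagonal_map (map_zero _)]
        simp), conjAut_scalar hn]
  exfalso
  by_cases hbig : 3 ≤ n ∨ (n = 2 ∧ 4 ≤ Fintype.card K)
  · have hq : Cfsg.IsQuasisimple (Matrix.SpecialLinearGroup (Fin n) K) :=
      CfsgLib.Components.SLBlock.isQuasisimple_SL (by simpa using hbig)
    have h1 := (CfsgLib.Cores.normal_eq_top_or_le_center_of_isQuasisimple hq M₀).resolve_right hcen
    refine hndvd (hdiv.trans (dvd_of_eq ?_))
    rw [← hmap, h1, ← MonoidHom.range_eq_map]
  · push Not at hbig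
    obtain rfl : n = 2 := by omega
    have hq4 := hbig.2 rfl
    haveI : MulAction.IsPreprimitive (Matrix.SpecialLinearGroup (Fin 2) K) (ℙ K (Fin 2 → K)) :=
      MulAction.isPreprimitive_of_is_two_pretransitive inferInstance
    have hfix : MulAction.fixedPoints M₀ (ℙ K (Fin 2 → K)) ≠ Set.univ := by
      intro h
      refine hcen fun g hg => ?_
      have hline : ∀ v : Fin 2 → K, ¬ LinearIndependent K ![v, (g : Matrix (Fin 2) (Fin 2) K).mulVecLin v] := by
        intro v
        rcases eq_or_ne v 0 with rfl | hv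
        · intro h'
          exact (h'.ne_zero 0) rfl
        · rw [LinearIndependent.pair_iff' hv]
          push Not
          have h1 := (h ▸ Set.mem_univ (Projectivization.mk K v hv) :
            Projectivization.mk K v hv ∈ MulAction.fixedPoints M₀ _) ⟨g, hg⟩
          change g • Projectivization.mk K v hv = _ at h1
          rw [Projectivization.smul_mk, Projectivization.mk_eq_mk_iff'] at h1
          obtain ⟨a, ha⟩ := h1
          exact ⟨a, ha⟩
      obtain ⟨a, ha⟩ := (g : Matrix (Fin 2) (Fin 2) K).mulVecLin.exists_eq_smul_id_of_forall_notLinearIndependent hline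
      have hga : (g : Matrix (Fin 2) (Fin 2) K) = a • 1 := Matrix.ext_of_mulVec_single fun i => by
        have := LinearMap.congr_fun ha (Pi.single i 1)
        rw [smul_mulVec, one_mulVec]; simpa using this
      refine Subgroup.mem_center_iff.2 fun u => Subtype.ext ?_
      rw [Matrix.SpecialLinearGroup.coe_mul, Matrix.SpecialLinearGroup.coe_mul, hga, Matrix.mul_smul, Matrix.smul_mul,
        Matrix.mul_one, Matrix.one_mul]
    haveI := MulAction.IsQuasiPreprimitive.isPretransitive_of_normal (N := M₀) hfix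
    have hP : Fintype.card K + 1 ∣ Nat.card M₀ := by
      have h1 : Nat.card (ℙ K (Fin 2 → K)) ∣ Nat.card M₀ := by
        rw [← MulAction.index_stabilizer_of_transitive M₀
          (Projectivization.mk K (Pi.single 0 1 : Fin 2 → K) (by simp))]
        exact Subgroup.index_dvd_card _
      rw [Projectivization.card_of_finrank K (Fin 2 → K) (Module.finrank_fin_fun K)] at h1
      simpa [Finset.sum_range_succ, Nat.card_eq_fintype_card, add_comm] using h1
    have hcardM : Nat.card M₀ ∣ Nat.card M * Nat.card f.ker := by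
      have h1 := Subgroup.card_mul_index ((f.comp M₀.subtype).ker)
      rw [Subgroup.index_ker, MonoidHom.range_eq_map, ← Subgroup.map_map, ← MonoidHom.range_eq_map, Subgroup.range_subtype,
        hmap] at h1
      rw [← h1, mul_comm (Nat.card M)]
      exact mul_dvd_mul_right (Subgroup.card_dvd_of_injective
        (α := (f.comp M₀.subtype).ker) (H := f.ker)
        ((M₀.subtype.comp (f.comp M₀.subtype).ker.subtype).codRestrict _ fun x => x.2)
        fun a b e => Subtype.ext (Subtype.ext (congrArg Subtype.val e :))) _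
    have hker : Nat.card f.ker ∣ 2 := by
      have hq1 := Fintype.one_lt_card (α := K)
      have hsub : ∀ g ∈ f.ker, (g : Matrix.SpecialLinearGroup (Fin 2) K) ^ 2 = 1 := fun g hg => by
        obtain ⟨c, hc⟩ := scalar_of_subInn_eq_one σ le_rfl (MonoidHom.mem_ker.1 hg)
        have hd := g.2
        rw [hc, det_smul, det_one, mul_one, Fintype.card_fin] at hd
        refine Subtype.ext ?_
        change (g : Matrix (Fin 2) (Fin 2) K) ^ 2 = 1
        rw [hc, smul_pow, one_pow, hd, one_smul]
      let t : f.ker → K := fun g => (g.1 : Matrix (Fin 2) (Fin 2) K) 0 0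
      have hinj : Function.Injective t := fun g g' e => Subtype.ext (Subtype.ext (by
        obtain ⟨c, hc⟩ := scalar_of_subInn_eq_one σ le_rfl (MonoidHom.mem_ker.1 g.2)
        obtain ⟨c', hc'⟩ := scalar_of_subInn_eq_one σ le_rfl (MonoidHom.mem_ker.1 g'.2)
        have e' : c = c' := by simpa [t, hc, hc'] using e
        rw [hc, hc', e']))
      haveI : Fact (Nat.Prime 2) := ⟨Nat.prime_two⟩
      have hP2 : IsPGroup 2 f.ker := fun g => ⟨1, Subtype.ext (hsub g.1 g.2)⟩
      obtain ⟨k, hk⟩ := IsPGroup.iff_card.1 hP2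
      have hle := Nat.card_le_card_of_injective t hinj
      rw [hk, Nat.card_eq_fintype_card (α := K)] at hle
      rw [hk]
      rcases k with _ | _ | k
      · norm_num
      · norm_num
      · exfalso
        have : 4 ≤ 2 ^ (k + 1 + 1) := by
          calc 4 = 2 ^ 2 := by norm_num
            _ ≤ _ := Nat.pow_le_pow_right (by norm_num) (by omega)
        omega
    have hall : Fintype.card K + 1 ∣ Nat.card M * 2 := hP.trans (hcardM.trans (mul_dvd_mul_left _ hker))
    have hr : r ∣ Fintype.card K := by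
      haveI : CharP K r := K.subtype.charP K.subtype.injective r
      obtain ⟨k, hk0, hk⟩ := FiniteField.card K r
      rw [hk]; exact dvd_pow_self _ k.pos.ne'
    have hq1 := Fintype.one_lt_card (α := K)
    have hSL := hdiv.trans (Subgroup.card_range_dvd f)
    have hcardSL := CfsgLib.Classical.card_SL_mul (F := K) rfl 2 one_le_two
    simp only [Fin.prod_univ_two, Fin.val_zero, Fin.val_one, pow_zero, pow_one] at hcardSL
    rcases (show Fintype.card K = 2 ∨ Fintype.card K = 3 by omega) with hq | hq <;> rw [hq] at hr hall hcardSL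
    · have h6 : Nat.card (Matrix.SpecialLinearGroup (Fin 2) K) = 6 := by omega
      rw [h6] at hSL
      have hr2 : r = 2 := (Nat.prime_dvd_prime_iff_eq (Fact.out : r.Prime) Nat.prime_two).1 hr
      rcases hp.dvd_mul.1 (show p ∣ 2 * 3 from hSL) with h | h
      · exact hpr (((Nat.prime_dvd_prime_iff_eq hp Nat.prime_two).1 h).trans hr2.symm)
      · refine hndvd (h.trans ?_)
        exact (Nat.Coprime.dvd_mul_right (by norm_num)).1 hall
    · have hr3 : r = 3 := (Nat.prime_dvd_prime_iff_eq (Fact.out : r.Prime) Nat.prime_three).1 hr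
      have h24 : Nat.card (Matrix.SpecialLinearGroup (Fin 2) K) = 24 := by omega
      rw [h24] at hSL
      rcases hp.dvd_mul.1 (show p ∣ 2 ^ 3 * 3 from hSL) with h | h
      · refine hndvd ((hp.dvd_of_dvd_pow h).trans ?_)
        exact Nat.dvd_of_mul_dvd_mul_right (by norm_num) (show 2 * 2 ∣ Nat.card M * 2 from hall)
      · exact hpr (((Nat.prime_dvd_prime_iff_eq hp Nat.prime_three).1 h).trans hr3.symm)

/-- The balance criterion for a field automorphism. -/
theorem core_fieldAut_iff (hn : 2 ≤ n) {r : ℕ} [Fact r.Prime] [CharP F r] {p : ℕ} [Fact p.Prime] (hpr : p ≠ r)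
    (hσ : orderOf σ = p) (g : GL (Fin n) F) (A : Subgroup (MulAut PSLn)) (hA : Cfsg.Inn PSLn ≤ A) :
    Cfsg.pPrimeCore p ↥(A ⊓ Subgroup.centralizer {conjAut g * fieldAut σ * (conjAut g)⁻¹}) ≠ ⊥ ↔
      (Nat.card ↥(Cfsg.Inn PSLn ⊓ Subgroup.centralizer {conjAut g * fieldAut σ * (conjAut g)⁻¹})).Coprime p := by
  haveI : Finite (MulAut PSLn) := Finite.of_injective (fun b : MulAut PSLn => (b : PSLn → PSLn)) DFunLike.coe_injective
  rw [Ne, CfsgLib.Balance.core_conj_eq_bot_iff, CfsgLib.Balance.card_inf_centralizer_conj]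
  have hA' : Cfsg.Inn PSLn ≤ A.comap (MulAut.conj (conjAut g : MulAut PSLn)).toMonoidHom := fun z hz =>
    hA ((inferInstance : (Cfsg.Inn PSLn).Normal).conj_mem z hz (conjAut g))
  set A' := A.comap (MulAut.conj (conjAut g : MulAut PSLn)).toMonoidHom
  constructor
  · intro hne
    by_contra hcop
    refine hne (CfsgLib.Balance.core_eq_bot_of_normalized A' _ hA' _ p
      (by rw [← hσ, ← map_pow, pow_orderOf_eq_one, map_one]) _ ((range_subInn_le σ hn hσ).trans inf_le_left)
      ((range_subInn_le σ hn hσ).trans inf_le_right) (fun M hM hnM hc => ?_) (normalizes_subInn σ hn hσ) fun n' _ h => mem_zpowers_of_commute σ hn n' h)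
    refine normal_coprime_eq_bot σ hn hσ hpr (dvd_card_subInn σ hn hσ hpr (Or.inr ?_)) M hM hnM hc
    by_contra h
    exact hcop (((Fact.out : p.Prime).coprime_iff_not_dvd.2 h).symm)
  · intro hcop
    refine CfsgLib.Balance.core_ne_bot A' _ hA' _ p hcop ?_
    have hij : (⟨0, by omega⟩ : Fin n) ≠ ⟨1, by omega⟩ := by simp
    set t := (subInn σ (Matrix.SpecialLinearGroup.transvection hij (1 : fixedField σ)) : MulAut PSLn) with ht
    refine ⟨t, range_subInn_le σ hn hσ ⟨_, rfl⟩, fun e => ?_⟩
    obtain ⟨c, hc⟩ := scalar_of_subInn_eq_one σ hn (ht ▸ e)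
    have := congrFun (congrFun hc ⟨0, by omega⟩) ⟨1, by omega⟩
    simp [Matrix.SpecialLinearGroup.transvection_coe] at this

end CfsgLib.PSLAut
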