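/-
Graph automorphisms of PSL_n: involutions, classes and centralisers in terms of bilinear forms.
-/
import Cfsg.Agent.Lib.KnownSimple.PSLAut.FieldType
import Cfsg.Agent.Lib.KnownSimple.Forms.Congr

set_option autoImplicit false

namespace CfsgLib.PSLAut

open Matrix CfsgLib.Forms

variable {F : Type*} [Field F] [Fintype F] {n : ℕ}

local notation "PSLn" => Matrix.ProjectiveSpecialLinearGroup (Fin n) F

/-- The graph automorphism attached to the bilinear form with matrix `A`. -/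
def gAut (A : GL (Fin n) F) : MulAut PSLn := conjAut A⁻¹ * iotaAut

lemma iotaGL_val (g : GL (Fin n) F) :
    (iotaGL g : Matrix (Fin n) (Fin n) F) = ((g⁻¹ : GL (Fin n) F) : Matrix (Fin n) (Fin n) F)ᵀ := rfl

lemma isGraphAutClassPSL_iff (γ : MulAut PSLn) :
    Cfsg.IsGraphAutClassPSL γ ↔ 3 ≤ n ∧ ∃ A, γ = gAut A := by
  constructor
  · rintro ⟨hn, δ, ι₀, hδ, hι, rfl⟩
    obtain ⟨g, rfl⟩ := (isInnerDiagonalAutPSL_iff δ).1 hδ
    exact ⟨hn, g⁻¹, by rw [gAut, inv_inv, (isInverseTransposeAutPSL_iff ι₀).1 hι]⟩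
  · rintro ⟨hn, A, rfl⟩
    exact ⟨hn, _, _, (isInnerDiagonalAutPSL_iff _).2 ⟨_, rfl⟩, (isInverseTransposeAutPSL_iff _).2 rfl, rfl⟩

lemma conj_gAut (x A : GL (Fin n) F) :
    conjAut x * gAut A * (conjAut x)⁻¹ = gAut (iotaGL x * A * x⁻¹) := by
  rw [gAut, gAut, ← map_inv, mul_assoc, mul_assoc (conjAut A⁻¹), iotaAut_mul_conjAut, ← mul_assoc, ← mul_assoc,
    ← map_mul, ← map_mul, _root_.mul_inv_rev, _root_.mul_inv_rev, inv_inv, ← map_inv iotaGL, mul_assoc x]

lemma gAut_eq_iff (hn : 2 ≤ n) (A B : GL (Fin n) F) :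
    (gAut A : MulAut PSLn) = gAut B ↔ ∃ c : F, c ≠ 0 ∧ (B : Matrix (Fin n) (Fin n) F) = c • (A : Matrix (Fin n) (Fin n) F) := by
  rw [gAut, gAut, mul_left_inj]
  constructor
  · intro h
    obtain ⟨c, hc⟩ := scalar_of_conjAut_eq_one hn (g := B * A⁻¹)
      (by rw [map_mul, h, ← map_mul, mul_inv_cancel, map_one])
    refine ⟨c, c.ne_zero, ?_⟩
    rw [show B = GeneralLinearGroup.scalar (Fin n) c * A by rw [← hc, inv_mul_cancel_right], Units.val_mul]
    simp [Matrix.smul_eq_diagonal_mul]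
  · rintro ⟨c, hc, h⟩
    rw [show B = GeneralLinearGroup.scalar (Fin n) (Units.mk0 c hc) * A from
      Units.ext (by rw [Units.val_mul, h]; simp [Matrix.smul_eq_diagonal_mul]),
      _root_.mul_inv_rev, map_mul, ← map_inv, conjAut_scalar hn, mul_one]

lemma gAut_ne_one (hn : 3 ≤ n) (A : GL (Fin n) F) : (gAut A : MulAut PSLn) ≠ 1 := fun h =>
  iotaAut_ne hn A (RingEquiv.refl F) (by
    rw [show fieldAut (RingEquiv.refl F) = (1 : MulAut PSLn) from map_one fieldAut, mul_one]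
    rw [gAut, map_inv, inv_mul_eq_one] at h
    exact h.symm)

lemma orderOf_gAut_eq_two (hn : 3 ≤ n) (A : GL (Fin n) F) :
    orderOf (gAut A : MulAut PSLn) = 2 ↔
      (A : Matrix (Fin n) (Fin n) F)ᵀ = A ∨ (A : Matrix (Fin n) (Fin n) F)ᵀ = -A := by
  have hsq : (gAut A : MulAut PSLn) ^ 2 = conjAut (A⁻¹ * iotaGL A⁻¹) := by
    rw [sq, gAut, mul_assoc, ← mul_assoc iotaAut, iotaAut_mul_conjAut, mul_assoc, iotaAut_mul_self, mul_one, ← map_mul]
  have key : (gAut A : MulAut PSLn) ^ 2 = 1 ↔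
      ∃ c : F, c ≠ 0 ∧ (A : Matrix (Fin n) (Fin n) F)ᵀ = c • (A : Matrix (Fin n) (Fin n) F) := by
    have hv : ((iotaGL A⁻¹ : GL (Fin n) F) : Matrix (Fin n) (Fin n) F) = (A : Matrix (Fin n) (Fin n) F)ᵀ := by
      rw [iotaGL_val, inv_inv]
    rw [hsq]
    constructor
    · intro h
      obtain ⟨c, hc⟩ := scalar_of_conjAut_eq_one (by omega) h
      refine ⟨c, c.ne_zero, ?_⟩
      rw [← hv, show iotaGL A⁻¹ = A * GeneralLinearGroup.scalar (Fin n) c by rw [← hc, mul_inv_cancel_left],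
        Units.val_mul]
      simp [Matrix.smul_eq_mul_diagonal]
    · rintro ⟨c, hc, h⟩
      rw [show iotaGL A⁻¹ = A * GeneralLinearGroup.scalar (Fin n) (Units.mk0 c hc) from
        Units.ext (by rw [hv, h, Units.val_mul]; simp [Matrix.smul_eq_mul_diagonal]), inv_mul_cancel_left,
        conjAut_scalar (by omega)]
  rw [orderOf_eq_prime_iff, key]
  constructor
  · rintro ⟨⟨c, hc, h⟩, -⟩
    have h2 := congrArg Matrix.transpose h
    rw [transpose_transpose, transpose_smul, h, smul_smul] at h2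
    have hA : (A : Matrix (Fin n) (Fin n) F) ≠ 0 := by
      intro h0
      haveI : Nonempty (Fin n) := ⟨⟨0, by omega⟩⟩
      exact A.ne_zero h0
    have hcc : c * c = 1 := by
      have h3 : ((1 : F) - c * c) • (A : Matrix (Fin n) (Fin n) F) = 0 := by rw [sub_smul, one_smul, ← h2, sub_self]
      exact (sub_eq_zero.1 ((smul_eq_zero.1 h3).resolve_right hA)).symm
    rcases mul_self_eq_one_iff.1 hcc with rfl | rfl
    · left; rw [h, one_smul]
    · right; rw [h, neg_one_smul]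
  · intro h
    refine ⟨?_, gAut_ne_one hn A⟩
    rcases h with h | h
    · exact ⟨1, one_ne_zero, by rw [h, one_smul]⟩
    · exact ⟨-1, by simp, by rw [h, neg_one_smul]⟩

/-- The stabiliser of a graph automorphism is the similitude group of its form. -/
lemma comap_centralizer_gAut (hn : 2 ≤ n) (A : GL (Fin n) F) :
    (Subgroup.centralizer {(gAut A : MulAut PSLn)}).comap conjAut = simBil (A : Matrix (Fin n) (Fin n) F) := by
  ext x
  rw [Subgroup.mem_comap, Subgroup.mem_centralizer_singleton_iff, ← mul_inv_eq_iff_eq_mul, conj_gAut, eq_comm, gAut_eq_iff hn, ← inv_mem_iff, mem_simBil]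
  rw [Units.val_mul, Units.val_mul, iotaGL_val]
  exact ⟨fun ⟨c, hc, h⟩ => ⟨Units.mk0 c hc, h⟩, fun ⟨c, h⟩ => ⟨c, c.ne_zero, h⟩⟩

/-- The centraliser of a graph automorphism in the inner-diagonal group. -/
lemma centralizer_gAut_equiv (hn : 2 ≤ n) (A : GL (Fin n) F) :
    Nonempty (↥(Cfsg.inndiagPSL n F ⊓ Subgroup.centralizer {(gAut A : MulAut PSLn)}) ≃*
      Cfsg.projQuot (simBil (A : Matrix (Fin n) (Fin n) F))) := by
  rw [inndiagPSL_eq]
  set H := simBil (A : Matrix (Fin n) (Fin n) F)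
  have hmem : ∀ u : H, (conjAut (u : GL (Fin n) F) : MulAut PSLn) ∈
      (conjAut : GL (Fin n) F →* MulAut PSLn).range ⊓ Subgroup.centralizer {(gAut A : MulAut PSLn)} := fun u =>
    ⟨⟨_, rfl⟩, Subgroup.mem_comap.1 ((comap_centralizer_gAut hn A).symm ▸ u.2)⟩
  let Φ := (((conjAut : GL (Fin n) F →* MulAut PSLn).comp H.subtype).codRestrict _ hmem)
  have hs : Function.Surjective Φ := by
    rintro ⟨β, ⟨g, rfl⟩, hc⟩
    have hg : g ∈ (Subgroup.centralizer {(gAut A : MulAut PSLn)}).comap conjAut := hc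
    rw [comap_centralizer_gAut hn A] at hg
    exact ⟨⟨g, hg⟩, rfl⟩
  have hk : Φ.ker = (Cfsg.Geo.scalars (Fin n) F).subgroupOf H := by
    ext u
    have hu : u ∈ Φ.ker ↔ (u : GL (Fin n) F) ∈ Subgroup.center (GL (Fin n) F) := by
      rw [← ker_conjAut hn, MonoidHom.mem_ker, MonoidHom.mem_ker]
      exact ⟨fun h => congrArg Subtype.val h, fun h => Subtype.ext h⟩
    rw [hu, GeneralLinearGroup.center_eq_range_scalar, Subgroup.mem_subgroupOf]
    rfl
  exact ⟨((QuotientGroup.quotientMulEquivOfEq hk.symm).trans (QuotientGroup.quotientKerEquivOfSurjective Φ hs)).symm⟩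

/-- Conjugacy of graph automorphisms is equivalence of forms. -/
lemma isConjUnder_gAut_iff (hn : 2 ≤ n) (A B : GL (Fin n) F) :
    Cfsg.IsConjUnder (Cfsg.inndiagPSL n F) (gAut A : MulAut PSLn) (gAut B) ↔
      FormEquiv (A : Matrix (Fin n) (Fin n) F) (B : Matrix (Fin n) (Fin n) F) := by
  rw [inndiagPSL_eq]
  constructor
  · rintro ⟨_, ⟨x, rfl⟩, e⟩
    rw [conj_gAut, eq_comm, gAut_eq_iff hn] at e
    obtain ⟨c, hc, h⟩ := e
    refine ⟨c⁻¹, inv_ne_zero hc, ((x⁻¹ : GL (Fin n) F) : Matrix (Fin n) (Fin n) F), (x : Matrix (Fin n) (Fin n) F),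
      by rw [← Units.val_mul, inv_mul_cancel, Units.val_one], by rw [← Units.val_mul, mul_inv_cancel, Units.val_one], ?_⟩
    rw [h, smul_smul, inv_mul_cancel₀ hc, one_smul, Units.val_mul, Units.val_mul, iotaGL_val]
  · rintro ⟨c, hc, x, y, hxy, hyx, h⟩
    refine ⟨conjAut (⟨y, x, hyx, hxy⟩ : GL (Fin n) F), ⟨_, rfl⟩, ?_⟩
    rw [conj_gAut, eq_comm, gAut_eq_iff hn]
    refine ⟨c⁻¹, inv_ne_zero hc, ?_⟩
    rw [Units.val_mul, Units.val_mul, iotaGL_val]
    show (B : Matrix (Fin n) (Fin n) F) = c⁻¹ • (xᵀ * (A : Matrix (Fin n) (Fin n) F) * x)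
    rw [h, smul_smul, inv_mul_cancel₀ hc, one_smul]

/-- Class splitting of a graph automorphism. -/
lemma splitClassCount_gAut (hn : 2 ≤ n) (A : GL (Fin n) F) :
    Cfsg.splitClassCount (Cfsg.inndiagPSL n F) (Cfsg.Inn PSLn) (gAut A : MulAut PSLn) =
      ((simBil (A : Matrix (Fin n) (Fin n) F)).map GeneralLinearGroup.det).index := by
  rw [inndiagPSL_eq, inn_eq_map, splitClassCount_eq_index, index_sup_ker_det (by omega), comap_centralizer_gAut hn A]

end CfsgLib.PSLAut
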