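/-
Graph and graph-field involutions of PSL: the core of their centralisers.
-/
import Cfsg.Agent.Lib.KnownSimple.PSLAut.Balance
import Cfsg.Agent.Lib.KnownSimple.PSLAut.GraphType
import Cfsg.Agent.Lib.KnownSimple.Forms.Even
import Cfsg.Agent.Lib.KnownSimple.PSLAut.GraphField
import Cfsg.Agent.Lib.KnownSimple.OddNormalAlt
import Cfsg.Agent.Lib.KnownSimple.PSUAut.SemiCommute
import Cfsg.Agent.Lib.Classical.UnitaryPSU

set_option autoImplicit false

namespace CfsgLib.PSLAut

open Matrix CfsgLib.Forms CfsgLib.Classical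

variable {F : Type*} [Field F] [Fintype F] {n : ℕ}

local notation "SLn" => Matrix.SpecialLinearGroup (Fin n) F
local notation "PSLn" => Matrix.ProjectiveSpecialLinearGroup (Fin n) F
local notation "Mn" => Matrix (Fin n) (Fin n) F

/-- The semilinear map of a pair. -/
def semiT (g : GL (Fin n) F) (τ : F ≃+* F) (v : Fin n → F) : Fin n → F := (g : Mn) *ᵥ (τ ∘ v)

omit [Fintype F] in
lemma semiT_add (g : GL (Fin n) F) (τ : F ≃+* F) (a b : Fin n → F) :
    semiT g τ (a + b) = semiT g τ a + semiT g τ b := by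
  rw [semiT, semiT, semiT, ← mulVec_add]; congr 1; funext i; simp

omit [Fintype F] in
lemma semiT_smul (g : GL (Fin n) F) (τ : F ≃+* F) (t : F) (a : Fin n → F) :
    semiT g τ (t • a) = τ t • semiT g τ a := by
  rw [semiT, semiT, ← mulVec_smul]; congr 1; funext i; simp

omit [Fintype F] in
lemma semiT_injective (g : GL (Fin n) F) (τ : F ≃+* F) : Function.Injective (semiT g τ) := by
  intro a b e
  have h := congrArg (fun w => ((g⁻¹ : GL (Fin n) F) : Mn) *ᵥ w) e
  simp only [semiT, mulVec_mulVec, Units.inv_mul, one_mulVec] at h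
  exact funext fun i => τ.injective (congrFun h i)

omit [Fintype F] in
/-- A pair commuting with an inner-diagonal unipotent automorphism commutes with its matrix. -/
lemma semiT_commute_of_conjAut [Fintype F] (hn : 2 ≤ n) {g : GL (Fin n) F} {τ : F ≃+* F} {k : GL (Fin n) F}
    (hk : ((k : Mn) - 1) ^ 3 = 0) {v : Fin n → F} (hv : v ≠ 0) (hkv : (k : Mn) *ᵥ v = v)
    (h : Commute (conjAut g * fieldAut τ : MulAut PSLn) (conjAut k)) (x : Fin n → F) :
    semiT g τ ((k : Mn) *ᵥ x) = (k : Mn) *ᵥ semiT g τ x := by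
  have h1 : (conjAut (g * fieldGL τ k * g⁻¹) : MulAut PSLn) = conjAut k := by
    have e := h.eq
    rw [mul_assoc, fieldAut_mul_conjAut, ← mul_assoc, ← mul_assoc, mul_left_inj] at e
    rw [map_mul, map_mul, map_inv, e, mul_inv_cancel_right]
  obtain ⟨c, hc⟩ := scalar_of_conjAut_eq_one hn (g := g * fieldGL τ k * g⁻¹ * k⁻¹)
    (by rw [map_mul, h1, map_inv, mul_inv_cancel])
  have hc' : (g : Mn) * (k : Mn).map τ = (c : F) • ((k : Mn) * (g : Mn)) := by
    have e : g * fieldGL τ k = GeneralLinearGroup.scalar (Fin n) c * (k * g) := by rw [← hc]; group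
    have e' := congrArg (fun u : GL (Fin n) F => (u : Mn)) e
    simpa [Matrix.smul_eq_diagonal_mul] using e'
  have hc1 : (c : F) = 1 := by
    have h2 : ((c : F) • (k : Mn) - 1) ^ 3 = 0 := by
      have e1 : (c : F) • (k : Mn) - 1 = (g : Mn) * ((k : Mn).map τ - 1) * ((g⁻¹ : GL (Fin n) F) : Mn) := by
        rw [Matrix.mul_sub, Matrix.mul_one, Matrix.sub_mul, Units.mul_inv, hc', Matrix.smul_mul, Matrix.mul_assoc,
          Units.mul_inv, Matrix.mul_one]
      have e2 : ((k : Mn).map τ - 1) ^ 3 = 0 := by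
        have := congrArg (fun M : Mn => τ.toRingHom.mapMatrix M) hk
        simp only [map_pow, map_sub, map_one, map_zero] at this
        exact this
      rw [e1, Units.conj_pow, e2, Matrix.mul_zero, Matrix.zero_mul]
    have hstep : ((c : F) • (k : Mn) - 1) *ᵥ v = ((c : F) - 1) • v := by
      rw [sub_mulVec, smul_mulVec, hkv, one_mulVec, sub_smul, one_smul]
    have h3 := congrArg (fun M : Mn => M *ᵥ v) h2
    simp only [pow_succ, pow_zero, one_mul, ← mulVec_mulVec, hstep, mulVec_smul, smul_smul, zero_mulVec, smul_eq_zero,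
      hv, or_false, mul_eq_zero, or_self] at h3
    exact sub_eq_zero.1 h3
  rw [hc1, one_smul] at hc'
  rw [semiT, semiT, mulVec_mulVec, ← hc', ← mulVec_mulVec]
  congr 1
  exact funext fun i => RingHom.map_mulVec τ.toRingHom (k : Mn) x i

omit [Fintype F] in
lemma det_eq_one_of_conjAut_mem_inn [Fintype F] (k : GL (Fin n) F) (h : (k : Mn).det = 1) :
    (conjAut k : MulAut PSLn) ∈ Cfsg.Inn PSLn := by
  rw [inn_eq_map]
  exact ⟨k, MonoidHom.mem_ker.2 (Units.ext h), rfl⟩

omit [Fintype F] in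
lemma eq_one_of_semiT_scalar [Fintype F] (hn : 2 ≤ n) {g : GL (Fin n) F} {τ : F ≃+* F}
    (h : τ = RingEquiv.refl F ∧ ∃ α : F, ∀ x, semiT g τ x = α • x) : (conjAut g * fieldAut τ : MulAut PSLn) = 1 := by
  obtain ⟨rfl, α, hα⟩ := h
  have hg : (g : Mn) = α • 1 := Matrix.ext_of_mulVec_single fun i => by
    rw [smul_mulVec, one_mulVec]; exact hα _
  have hα0 : α ≠ 0 := fun h0 => by
    haveI : Nonempty (Fin n) := ⟨⟨0, by omega⟩⟩
    exact g.ne_zero (by rw [hg, h0, zero_smul])
  rw [show fieldAut (RingEquiv.refl F) = (1 : MulAut PSLn) from map_one fieldAut, mul_one,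
    show g = GeneralLinearGroup.scalar (Fin n) (Units.mk0 α hα0) from Units.ext (hg.trans (by
      simp [Matrix.smul_one_eq_diagonal])), conjAut_scalar hn]

/-! ### Graph automorphisms -/

/-- The isometries of determinant one. -/
def specialIso (A : GL (Fin n) F) : Subgroup (GL (Fin n) F) :=
  isoBil (A : Mn) ⊓ (GeneralLinearGroup.det : GL (Fin n) F →* Fˣ).ker

omit [Fintype F] in
lemma mem_specialIso {A k : GL (Fin n) F} :
    k ∈ specialIso A ↔ (k : Mn)ᵀ * (A : Mn) * (k : Mn) = A ∧ (k : Mn).det = 1 :=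
  and_congr Iff.rfl (MonoidHom.mem_ker.trans Units.ext_iff)

lemma specialIso_le_centralizer (hn : 2 ≤ n) (A : GL (Fin n) F) :
    (specialIso A).map conjAut ≤ Cfsg.Inn PSLn ⊓ Subgroup.centralizer {(gAut A : MulAut PSLn)} := by
  rintro _ ⟨k, hk, rfl⟩
  refine ⟨det_eq_one_of_conjAut_mem_inn k (mem_specialIso.1 hk).2, Subgroup.mem_comap.1 ?_⟩
  rw [comap_centralizer_gAut hn A, mem_simBil]
  exact ⟨1, by rw [(mem_specialIso.1 hk).1, Units.val_one, one_smul]⟩

lemma normalizes_specialIso (hn : 2 ≤ n) (A : GL (Fin n) F) :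
    ∀ z ∈ Cfsg.Inn PSLn ⊓ Subgroup.centralizer {(gAut A : MulAut PSLn)},
      ∀ r ∈ (specialIso A).map conjAut, z * r * z⁻¹ ∈ (specialIso A).map conjAut := by
  rintro z ⟨hzI, hzc⟩ _ ⟨k, hk, rfl⟩
  obtain ⟨g, rfl⟩ := inn_le_range_conjAut hzI
  have hg : g ∈ simBil (A : Mn) := comap_centralizer_gAut hn A ▸ Subgroup.mem_comap.2 hzc
  obtain ⟨c, hc⟩ := mem_simBil.1 hg
  refine ⟨g * k * g⁻¹, mem_specialIso.2 ⟨?_, ?_⟩, by rw [map_mul, map_mul, map_inv]⟩
  · obtain ⟨c', hc'⟩ := mem_simBil.1 ((simBil (A : Mn)).inv_mem hg)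
    have hcc : (c : F) * c' = 1 := by
      have e : ((g * g⁻¹ : GL (Fin n) F) : Mn)ᵀ * (A : Mn) * ((g * g⁻¹ : GL (Fin n) F) : Mn) = ((c : F) * c') • (A : Mn) := by
        rw [Units.val_mul, transpose_mul]
        calc _ = ((g⁻¹ : GL (Fin n) F) : Mn)ᵀ * ((g : Mn)ᵀ * (A : Mn) * (g : Mn)) * ((g⁻¹ : GL (Fin n) F) : Mn) := by
              simp only [Matrix.mul_assoc]
          _ = _ := by rw [hc, Matrix.mul_smul, Matrix.smul_mul, hc', smul_smul]
      simp only [mul_inv_cancel, Units.val_one, transpose_one, Matrix.one_mul, Matrix.mul_one] at e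
      haveI : Nonempty (Fin n) := ⟨⟨0, by omega⟩⟩
      have h0 := congrArg (fun M : Mn => ((A⁻¹ : GL (Fin n) F) : Mn) * M) e
      simp only [Matrix.mul_smul, Units.inv_mul] at h0
      have h00 := congrFun (congrFun h0 ⟨0, by omega⟩) ⟨0, by omega⟩
      simpa using h00.symm
    rw [Units.val_mul, Units.val_mul, transpose_mul, transpose_mul]
    calc _ = ((g⁻¹ : GL (Fin n) F) : Mn)ᵀ * ((k : Mn)ᵀ * ((g : Mn)ᵀ * (A : Mn) * (g : Mn)) * (k : Mn)) *
          ((g⁻¹ : GL (Fin n) F) : Mn) := by simp only [Matrix.mul_assoc]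
      _ = _ := by
        rw [hc, Matrix.mul_smul, Matrix.smul_mul, (mem_specialIso.1 hk).1, Matrix.mul_smul, Matrix.smul_mul, hc',
          smul_smul, hcc, one_smul]
  · rw [Units.val_mul, Units.val_mul, det_mul, det_mul, mul_comm, ← mul_assoc, ← det_mul, Units.inv_mul, det_one,
      one_mul]
    exact (mem_specialIso.1 hk).2

/-- The quadratic form of a symmetric matrix. -/
noncomputable def formQ (A : Mn) : QuadraticForm F (Fin n → F) :=
  LinearMap.BilinMap.toQuadraticMap (Matrix.toLinearMap₂' F A)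

omit [Fintype F] in
lemma formQ_apply (A : Mn) (v : Fin n → F) : formQ A v = v ⬝ᵥ (A *ᵥ v) := Matrix.toLinearMap₂'_apply' A v v

omit [Fintype F] in
lemma polar_formQ {A : Mn} (hA : Aᵀ = A) (u v : Fin n → F) :
    QuadraticMap.polar (formQ A) u v = 2 * (u ⬝ᵥ (A *ᵥ v)) := by
  simp only [QuadraticMap.polar, formQ_apply, mulVec_add, dotProduct_add, add_dotProduct]
  rw [show v ⬝ᵥ (A *ᵥ u) = u ⬝ᵥ (A *ᵥ v) by rw [dotProduct_mulVec, ← mulVec_transpose, hA, dotProduct_comm]]
  ring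

/-- An Eichler transformation as an element of the special isometry group. -/
lemma exists_eichGL (h2 : (2 : F) ≠ 0) {A : GL (Fin n) F} (hA : (A : Mn)ᵀ = A) (u w : Fin n → F)
    (hu : formQ (A : Mn) u = 0) (hw : QuadraticMap.polar (formQ (A : Mn)) u w = 0) :
    ∃ k : GL (Fin n) F, k ∈ specialIso A ∧ ((k : Mn) - 1) ^ 3 = 0 ∧ (k : Mn) *ᵥ u = u ∧
      ∀ x, (eich (formQ (A : Mn)) u w).1 x = (k : Mn) *ᵥ x := by
  set Q := formQ (A : Mn)
  have hmat : ∀ e : qAut Q, ∃ k : GL (Fin n) F, (k : Mn)ᵀ * (A : Mn) * (k : Mn) = A ∧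
      ∀ x, e.1 x = (k : Mn) *ᵥ x := by
    intro e
    let k : GL (Fin n) F := ⟨LinearMap.toMatrix' e.1.toLinearMap, LinearMap.toMatrix' e.1.symm.toLinearMap,
      by rw [← LinearMap.toMatrix'_comp]; simp, by rw [← LinearMap.toMatrix'_comp]; simp⟩
    have hk : ∀ x, e.1 x = (k : Mn) *ᵥ x := fun x => (LinearMap.toMatrix'_mulVec _ x).symm
    refine ⟨k, ?_, hk⟩
    rw [← form_eq_iff]
    intro a b
    rw [← mulVec_form, ← hk, ← hk]
    have h := qAut_polar e a b
    rw [polar_formQ hA, polar_formQ hA] at h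
    exact mul_left_cancel₀ h2 h
  obtain ⟨k, hk, hkx⟩ := hmat (eich Q u w)
  set w' := (2 : F)⁻¹ • w
  have hw' : QuadraticMap.polar Q u w' = 0 := by rw [QuadraticMap.polar_smul_right, hw, smul_zero]
  obtain ⟨a, ha, hax⟩ := hmat (eich Q u w')
  have hka : k = a * a := by
    refine Units.ext (Matrix.ext_of_mulVec_single fun i => ?_)
    rw [← hkx, Units.val_mul, ← mulVec_mulVec, ← hax, ← hax, ← qAut_mul_apply, eich_mul Q hu hw' hw', ← add_smul,
      show (2 : F)⁻¹ + 2⁻¹ = 1 by field_simp; ring, one_smul]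
  have hdet : (k : Mn).det = 1 := by
    have h := congrArg Matrix.det ha
    rw [det_mul, det_mul, det_transpose] at h
    rw [hka, Units.val_mul, det_mul]
    exact mul_right_cancel₀ (show (A : Mn).det ≠ 0 from GeneralLinearGroup.det_ne_zero A) (by linear_combination h)
  have hfix : (k : Mn) *ᵥ u = u := by rw [← hkx, eich_fix Q hu hw]
  refine ⟨k, mem_specialIso.2 ⟨hk, hdet⟩, ?_, hfix, hkx⟩
  refine Matrix.ext_of_mulVec_single fun i => ?_
  rw [zero_mulVec, pow_succ', pow_succ', pow_one, ← mulVec_mulVec, ← mulVec_mulVec]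
  generalize (Pi.single i 1 : Fin n → F) = y
  have hE : ∀ y, ((k : Mn) - 1) *ᵥ y = QuadraticMap.polar Q y u • w -
      (QuadraticMap.polar Q y w + Q w * QuadraticMap.polar Q y u) • u := fun y => by
    rw [sub_mulVec, one_mulVec, ← hkx, eich_apply Q hu hw]; abel
  have huu : QuadraticMap.polar Q u u = 0 := by rw [quad_polar_self, hu, mul_zero]
  have hwu : QuadraticMap.polar Q w u = 0 := (QuadraticMap.polar_comm Q w u).trans hw
  simp only [hE, QuadraticMap.polar_sub_left, QuadraticMap.polar_smul_left, huu, hw, hwu, smul_zero, sub_zero, mul_zero,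
    add_zero, zero_smul, smul_eq_mul, zero_mul, sub_self, QuadraticMap.polar_zero_left]

omit [Fintype F] in
lemma det_formQ_nondeg (h2 : (2 : F) ≠ 0) {A : GL (Fin n) F} (hA : (A : Mn)ᵀ = A) : PolarNondeg (formQ (A : Mn)) := by
  intro v hv
  have h1 : (A : Mn) *ᵥ v = 0 := by
    funext i
    have := hv (Pi.single i 1)
    rw [QuadraticMap.polar_comm, polar_formQ hA, single_one_dotProduct] at this
    exact (mul_eq_zero.1 this).resolve_left h2
  by_contra hv0
  exact GeneralLinearGroup.det_ne_zero A (Matrix.exists_mulVec_eq_zero_iff.1 ⟨v, hv0, h1⟩)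

/-- A pair centralising the special isometries is trivial. -/
lemma eq_one_of_commute_specialIso (hn : 3 ≤ n) (h2 : (2 : F) ≠ 0) {A : GL (Fin n) F}
    (hA : (A : Mn)ᵀ = A ∨ (A : Mn)ᵀ = -A) {g : GL (Fin n) F} {τ : F ≃+* F}
    (h : ∀ k ∈ specialIso A, Commute (conjAut g * fieldAut τ : MulAut PSLn) (conjAut k)) :
    (conjAut g * fieldAut τ : MulAut PSLn) = 1 := by
  refine eq_one_of_semiT_scalar (by omega) ?_
  rcases hA with hA | hA
  · refine CfsgLib.SemiCommute.scalar_of_commute_eich h2 (det_formQ_nondeg h2 hA)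
      (by rw [Module.finrank_fintype_fun_eq_card, Fintype.card_fin]; exact hn) τ _ (semiT_add g τ) (semiT_smul g τ)
      (semiT_injective g τ) fun u w hu hw x => ?_
    rcases eq_or_ne u 0 with rfl | hu0
    · have hid : (eich (formQ (A : Mn)) (0 : Fin n → F) w).1 = LinearEquiv.refl F _ := by
        refine LinearEquiv.ext fun y => ?_
        rw [eich_apply _ hu hw]; simp
      rw [hid]; rfl
    obtain ⟨k, hk, hk3, hku, hkx⟩ := exists_eichGL h2 hA u w hu hw
    rw [hkx, hkx]
    exact semiT_commute_of_conjAut (by omega) hk3 hu0 hku (h k hk) x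
  · have halt : ∀ v, v ⬝ᵥ ((A : Mn) *ᵥ v) = 0 := (isAltMat_of_skew h2 hA).form_self
    refine CfsgLib.SemiCommute.scalar_of_commute_altT (A := (A : Mn)) (GeneralLinearGroup.det_ne_zero A)
      (by rw [Fintype.card_fin]; omega) τ _ (semiT_add g τ) (semiT_smul g τ) (semiT_injective g τ) fun v x => ?_
    rcases eq_or_ne v 0 with rfl | hv
    · simp [CfsgLib.SemiCommute.altT_mulVec]
    let k : GL (Fin n) F := GeneralLinearGroup.mkOfDetNeZero (CfsgLib.SemiCommute.altT (A : Mn) v 1)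
      (by rw [CfsgLib.SemiCommute.det_altT halt]; exact one_ne_zero)
    have hk : k ∈ specialIso A := mem_specialIso.2 ⟨(form_eq_iff _ _).1 fun a b => by
      rw [← mulVec_form]; exact CfsgLib.SemiCommute.altT_form halt v 1 a b, CfsgLib.SemiCommute.det_altT halt v 1⟩
    have hkv : (k : Mn) *ᵥ v = v := by
      show CfsgLib.SemiCommute.altT (A : Mn) v 1 *ᵥ v = v
      rw [CfsgLib.SemiCommute.altT_mulVec, halt, mul_zero, zero_smul, add_zero]
    have hk3 : ((k : Mn) - 1) ^ 3 = 0 := by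
      refine Matrix.ext_of_mulVec_single fun i => ?_
      rw [zero_mulVec, pow_succ', pow_succ', pow_one, ← mulVec_mulVec, ← mulVec_mulVec]
      generalize (Pi.single i 1 : Fin n → F) = y
      have hy : ∀ y, ((k : Mn) - 1) *ᵥ y = (1 * (y ⬝ᵥ ((A : Mn) *ᵥ v))) • v := fun y => by
        show (CfsgLib.SemiCommute.altT (A : Mn) v 1 - 1) *ᵥ y = _
        rw [sub_mulVec, one_mulVec, CfsgLib.SemiCommute.altT_mulVec, add_sub_cancel_left]
      simp only [hy, smul_dotProduct, halt, smul_eq_mul, mul_zero, zero_smul, zero_dotProduct]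
    exact semiT_commute_of_conjAut (by omega) hk3 hv hkv (h k hk) x

/-- An automorphism centralising the special isometries and the graph automorphism is a power of the latter. -/
lemma mem_zpowers_gAut (hn : 3 ≤ n) (h2 : (2 : F) ≠ 0) {A : GL (Fin n) F}
    (hA : (A : Mn)ᵀ = A ∨ (A : Mn)ᵀ = -A) (n' : MulAut PSLn) (hx : Commute n' (gAut A))
    (h : ∀ r ∈ (specialIso A).map conjAut, Commute n' r) : n' ∈ Subgroup.zpowers (gAut A : MulAut PSLn) := by
  obtain ⟨g, τ, he | ⟨-, he⟩⟩ := aut_classification (by omega : 2 ≤ n) n'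
  · rw [he, eq_one_of_commute_specialIso hn h2 hA fun k hk => he ▸ h _ ⟨k, hk, rfl⟩]
    exact Subgroup.one_mem _
  · have hmul : n' * gAut A = conjAut (g * fieldGL τ (iotaGL A⁻¹)) * fieldAut τ := by
      rw [he, gAut, mul_assoc (conjAut g * fieldAut τ), ← mul_assoc iotaAut (conjAut A⁻¹), iotaAut_mul_conjAut,
        mul_assoc (conjAut (iotaGL A⁻¹)), iotaAut_mul_self, mul_one, mul_assoc (conjAut g), fieldAut_mul_conjAut,
        ← mul_assoc, ← map_mul]
    have h1 : n' * gAut A = 1 := by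
      rw [hmul]
      refine eq_one_of_commute_specialIso hn h2 hA fun k hk => ?_
      rw [← hmul]
      exact (h _ ⟨k, hk, rfl⟩).mul_left
        (Subgroup.mem_centralizer_singleton_iff.1 (specialIso_le_centralizer (by omega) A ⟨k, hk, rfl⟩).2).symm
    exact ⟨-1, by rw [show n' = (gAut A)⁻¹ from eq_inv_of_mul_eq_one_left h1]; simp⟩

/-- The core of the centraliser of a graph involution is trivial. -/
theorem core_gAut_eq_bot (hn : 3 ≤ n) (h2 : (2 : F) ≠ 0) {A : GL (Fin n) F} (hord : orderOf (gAut A : MulAut PSLn) = 2)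
    (B : Subgroup (MulAut PSLn)) (hB : Cfsg.Inn PSLn ≤ B) :
    Cfsg.pPrimeCore 2 ↥(B ⊓ Subgroup.centralizer {(gAut A : MulAut PSLn)}) = ⊥ := by
  haveI : Finite (MulAut PSLn) := Finite.of_injective (fun b : MulAut PSLn => (b : PSLn → PSLn)) DFunLike.coe_injective
  haveI : Fact (Nat.Prime 2) := ⟨Nat.prime_two⟩
  have hA := (orderOf_gAut_eq_two hn A).1 hord
  refine CfsgLib.Balance.core_eq_bot_of_normalized B _ hB _ 2 (by rw [← hord, pow_orderOf_eq_one])
    ((specialIso A).map conjAut) ((specialIso_le_centralizer (by omega) A).trans inf_le_left)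
    ((specialIso_le_centralizer (by omega) A).trans inf_le_right) (fun M hM hn' hcop => ?_)
    (normalizes_specialIso (by omega) A) (mem_zpowers_gAut hn h2 hA)
  set M₀ := specialIso A ⊓ M.comap conjAut
  have hodd : Odd (Nat.card M) := Nat.coprime_two_right.1 hcop
  have hpow : ∀ m ∈ M₀, ∃ c : F, ((m ^ Nat.card M : GL (Fin n) F) : Mn) = c • 1 := by
    intro m hm
    obtain ⟨c, hc⟩ := scalar_of_conjAut_eq_one (by omega : 2 ≤ n) (g := m ^ Nat.card M) (by
      rw [map_pow]
      exact congrArg Subtype.val (pow_card_eq_one' (x := (⟨conjAut m, hm.2⟩ : M))))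
    exact ⟨c, by rw [hc]; simp [Matrix.smul_one_eq_diagonal]⟩
  have hnorm : ∀ k ∈ specialIso A, ∀ m ∈ M₀, k * m * k⁻¹ ∈ M₀ := fun k hk m hm =>
    ⟨(specialIso A).mul_mem ((specialIso A).mul_mem hk hm.1) ((specialIso A).inv_mem hk), by
      show conjAut (k * m * k⁻¹) ∈ M
      rw [map_mul, map_mul, map_inv]
      exact hn' _ ⟨k, hk, rfl⟩ _ hm.2⟩
  rw [eq_bot_iff]
  intro z hz
  obtain ⟨m, hm, rfl⟩ := hM hz
  have hm0 : m ∈ M₀ := ⟨hm, hz⟩
  obtain ⟨c, hc⟩ : ∃ c : F, (m : Mn) = c • 1 := by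
    rcases hA with hA | hA
    · refine CfsgLib.OddNormal.exists_scalar_isoBil h2 hA (GeneralLinearGroup.det_ne_zero A)
        (by rw [Fintype.card_fin]; exact hn) M₀ (fun k hk => hk.1.1) (fun k hk hd u hu => ?_) hodd hpow hm0
      exact hnorm k (mem_specialIso.2 ⟨hk, hd⟩) u hu
    · have halt : ∀ v, v ⬝ᵥ ((A : Mn) *ᵥ v) = 0 := (isAltMat_of_skew h2 hA).form_self
      let MS : Subgroup SLn := M₀.comap Matrix.SpecialLinearGroup.toGL
      let ms : SLn := ⟨(m : Mn), (mem_specialIso.1 hm).2⟩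
      have hms : (Matrix.SpecialLinearGroup.toGL ms : GL (Fin n) F) = m := Units.ext rfl
      obtain ⟨c, hc⟩ := CfsgLib.OddNormalAlt.exists_scalar_alt h2 halt (GeneralLinearGroup.det_ne_zero A) (by omega) MS
        (fun v c u hu => by
          show Matrix.SpecialLinearGroup.toGL (_ * u * _) ∈ M₀
          rw [map_mul, map_mul, map_inv]
          refine hnorm _ (mem_specialIso.2 ⟨(form_eq_iff _ _).1 fun a b => ?_, CfsgLib.SemiCommute.det_altT halt v c⟩) _ hu
          rw [← mulVec_form]; exact CfsgLib.SemiCommute.altT_form halt v c a b)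
        hodd (fun u hu => by
          obtain ⟨d, hd⟩ := hpow _ hu
          exact ⟨d, by rw [← hd, ← map_pow]; rfl⟩)
        (m := ms) (show Matrix.SpecialLinearGroup.toGL ms ∈ M₀ by rw [hms]; exact hm0)
      exact ⟨c, hc⟩
  have hc0 : c ≠ 0 := fun h0 => by
    haveI : Nonempty (Fin n) := ⟨⟨0, by omega⟩⟩
    exact m.ne_zero (by rw [hc, h0, zero_smul])
  rw [Subgroup.mem_bot, show m = GeneralLinearGroup.scalar (Fin n) (Units.mk0 c hc0) from Units.ext (hc.trans (by
    simp [Matrix.smul_one_eq_diagonal])), conjAut_scalar (by omega : 2 ≤ n)]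

/-! ### Graph-field automorphisms -/

/-- The unitary subgroup as automorphisms. -/
noncomputable def unitInn (q : ℕ) : Cfsg.SU n F q →* MulAut PSLn :=
  MulAut.conj.comp ((QuotientGroup.mk' _).comp (Cfsg.SU n F q).subtype)

omit [Fintype F] in
lemma unitInn_apply (q : ℕ) (s : Cfsg.SU n F q) :
    (unitInn q s : MulAut PSLn) = conjAut (Matrix.SpecialLinearGroup.toGL (s : SLn)) := conj_eq_conjAut _

omit [Fintype F] in
lemma toGL_mem_GU (q : ℕ) (s : Cfsg.SU n F q) : Matrix.SpecialLinearGroup.toGL (s : SLn) ∈ Cfsg.GU n F q :=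
  fun u v => s.2 u v

variable {σ : F ≃+* F} (hσ : orderOf σ = 2) {q : ℕ} (hq : ∀ a, σ a = a ^ q)

include hσ in
omit [Fintype F] in
lemma sigma_inv (a : F) : σ (σ a) = a := by
  rw [← RingAut.mul_apply, ← sq, ← hσ, pow_orderOf_eq_one]; rfl

include hσ hq in
lemma range_unitInn_le (hn : 2 ≤ n) :
    (unitInn q : _ →* MulAut PSLn).range ≤ Cfsg.Inn PSLn ⊓ Subgroup.centralizer {fieldAut σ * iotaAut} := by
  rintro _ ⟨s, rfl⟩
  refine ⟨⟨_, rfl⟩, ?_⟩
  rw [unitInn_apply]
  exact Subgroup.mem_comap.1 ((mem_stab_graphField hn hσ _).2 ⟨1, by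
    rw [map_one, one_mul]; exact (twist_eq_iff_mem_GU (sigma_inv hσ) hq _).2 (toGL_mem_GU q s)⟩)

include hσ hq in
lemma normalizes_unitInn (hn : 2 ≤ n) :
    ∀ z ∈ Cfsg.Inn PSLn ⊓ Subgroup.centralizer {fieldAut σ * iotaAut}, ∀ r ∈ (unitInn q : _ →* MulAut PSLn).range,
      z * r * z⁻¹ ∈ (unitInn q : _ →* MulAut PSLn).range := by
  rintro z ⟨hzI, hzc⟩ _ ⟨s, rfl⟩
  obtain ⟨g, rfl⟩ := inn_le_range_conjAut hzI
  obtain ⟨y, hy⟩ := (mem_stab_graphField hn hσ g).1 (Subgroup.mem_comap.2 hzc)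
  set g' := GeneralLinearGroup.scalar (Fin n) y * g
  have hg' : g' ∈ Cfsg.GU n F q := (twist_eq_iff_mem_GU (sigma_inv hσ) hq _).1 hy
  have hmem : g' * Matrix.SpecialLinearGroup.toGL (s : SLn) * g'⁻¹ ∈ Cfsg.GU n F q :=
    (Cfsg.GU n F q).mul_mem ((Cfsg.GU n F q).mul_mem hg' (toGL_mem_GU q s)) ((Cfsg.GU n F q).inv_mem hg')
  have hdet : (g' * Matrix.SpecialLinearGroup.toGL (s : SLn) * g'⁻¹).val.det = 1 := by
    rw [Units.val_mul, Units.val_mul, det_mul, det_mul, mul_comm, ← mul_assoc, ← det_mul, Units.inv_mul, det_one, one_mul]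
    exact (s : SLn).2
  let s' : SLn := ⟨_, hdet⟩
  let t : Cfsg.SU n F q := ⟨s', fun u v => hmem u v⟩
  refine ⟨t, ?_⟩
  rw [unitInn_apply, unitInn_apply, show (conjAut g : MulAut PSLn) = conjAut g' by rw [map_mul, conjAut_scalar hn, one_mul],
    ← map_inv, ← map_mul, ← map_mul]
  congr 1
  exact Units.ext rfl

variable (hF : Fintype.card F = q ^ 2)

include hq hF in
/-- A pair centralising the unitary subgroup is trivial. -/
lemma eq_one_of_commute_unitInn (hn : 3 ≤ n) {g : GL (Fin n) F} {τ : F ≃+* F}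
    (h : ∀ s : Cfsg.SU n F q, Commute (conjAut g * fieldAut τ : MulAut PSLn) (unitInn q s)) :
    (conjAut g * fieldAut τ : MulAut PSLn) = 1 := by
  refine eq_one_of_semiT_scalar (by omega) (CfsgLib.PSUAut.scalar_of_commute_tSU hF hq hn τ _ (semiT_add g τ)
    (semiT_smul g τ) (semiT_injective g τ) fun v hv t ht y => ?_)
  obtain ⟨c, -, hc⟩ := (CfsgLib.PSUAut.mem_tSU_iff hF hq hv t).1 ht
  refine semiT_commute_of_conjAut (by omega) (k := Matrix.SpecialLinearGroup.toGL (t : SLn)) ?_ hv.1 ?_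
    (by rw [← unitInn_apply]; exact h t) y
  · refine Matrix.ext_of_mulVec_single fun i => ?_
    rw [zero_mulVec, pow_succ', pow_succ', pow_one, ← mulVec_mulVec, ← mulVec_mulVec]
    generalize (Pi.single i 1 : Fin n → F) = z
    have hz : ∀ z, ((Matrix.SpecialLinearGroup.toGL (t : SLn) : Mn) - 1) *ᵥ z = (c * Cfsg.hermForm n F q z v) • v := fun z => by
      rw [sub_mulVec, one_mulVec]
      show CfsgLib.PSUAut.act t z - z = _
      rw [hc, add_sub_cancel_left]
    simp only [hz, CfsgLib.PSUAut.hsmul_left hF hq, hv.2, mul_zero, zero_smul]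
    simp [Cfsg.hermForm]
  · show CfsgLib.PSUAut.act t v = v
    rw [hc, hv.2, mul_zero, zero_smul, add_zero]

include hσ hq hF in
lemma mem_zpowers_graphField (hn : 3 ≤ n) (n' : MulAut PSLn)
    (h : ∀ r ∈ (unitInn q : _ →* MulAut PSLn).range, Commute n' r) :
    n' ∈ Subgroup.zpowers (fieldAut σ * iotaAut : MulAut PSLn) := by
  obtain ⟨g, τ, he | ⟨-, he⟩⟩ := aut_classification (by omega : 2 ≤ n) n'
  · rw [he, eq_one_of_commute_unitInn hq hF hn fun s => he ▸ h _ ⟨s, rfl⟩]
    exact Subgroup.one_mem _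
  · have hmul : n' * (fieldAut σ * iotaAut) = conjAut g * fieldAut (τ * σ) := by
      rw [he, map_mul, mul_assoc (conjAut g * fieldAut τ), ← mul_assoc iotaAut (fieldAut σ), iotaAut_mul_fieldAut,
        mul_assoc (fieldAut σ) iotaAut, iotaAut_mul_self, mul_one, mul_assoc]
    have h1 : n' * (fieldAut σ * iotaAut) = 1 := by
      rw [hmul]
      refine eq_one_of_commute_unitInn hq hF hn fun s => ?_
      rw [← hmul]
      exact (h _ ⟨s, rfl⟩).mul_left
        (Subgroup.mem_centralizer_singleton_iff.1 (range_unitInn_le hσ hq (by omega) ⟨s, rfl⟩).2).symm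
    exact ⟨-1, by rw [show n' = (fieldAut σ * iotaAut)⁻¹ from eq_inv_of_mul_eq_one_left h1]; simp⟩

include hσ hq hF in
/-- The core of the centraliser of a graph-field involution is trivial. -/
theorem core_graphField_eq_bot (hn : 3 ≤ n) (h2 : (2 : F) ≠ 0) (B : Subgroup (MulAut PSLn))
    (hB : Cfsg.Inn PSLn ≤ B) :
    Cfsg.pPrimeCore 2 ↥(B ⊓ Subgroup.centralizer {(fieldAut σ * iotaAut : MulAut PSLn)}) = ⊥ := by
  classical
  haveI : Finite (MulAut PSLn) := Finite.of_injective (fun b : MulAut PSLn => (b : PSLn → PSLn)) DFunLike.coe_injective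
  haveI : Fact (Nat.Prime 2) := ⟨Nat.prime_two⟩
  have hx2 : (fieldAut σ * iotaAut : MulAut PSLn) ^ 2 = 1 := by
    rw [(show Commute (fieldAut σ : MulAut PSLn) iotaAut from (iotaAut_mul_fieldAut σ).symm).mul_pow, ← map_pow, ← hσ,
      pow_orderOf_eq_one, map_one, one_mul, hσ, sq, iotaAut_mul_self]
  refine CfsgLib.Balance.core_eq_bot_of_normalized B _ hB _ 2 hx2 (unitInn q : _ →* MulAut PSLn).range
    ((range_unitInn_le hσ hq (by omega)).trans inf_le_left) ((range_unitInn_le hσ hq (by omega)).trans inf_le_right)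
    (fun M hM hn' hcop => ?_) (normalizes_unitInn hσ hq (by omega)) (fun n' _ h => mem_zpowers_graphField hσ hq hF hn n' h)
  set f : Cfsg.SU n F q →* MulAut PSLn := unitInn q with hf
  set M₀ := M.comap f
  haveI : M₀.Normal := ⟨fun u hu g => by
    show f (g * u * g⁻¹) ∈ M
    rw [map_mul, map_mul, map_inv]
    exact hn' _ ⟨g, rfl⟩ _ hu⟩
  have hsimp : IsSimpleGroup (Cfsg.PSU n F q) := CfsgLib.Classical.Unitary.isSimpleGroup_PSU hF hn fun ⟨_, h⟩ => by
    subst h
    refine h2 ?_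
    have h4 := Nat.cast_card_eq_zero (R := F)
    rw [hF] at h4
    push_cast at h4
    exact pow_eq_zero_iff (n := 2) two_ne_zero |>.1 (by norm_num; exact h4)
  rcases hsimp.eq_bot_or_eq_top_of_normal (M₀.map (QuotientGroup.mk' (Subgroup.center (Cfsg.SU n F q))))
    (Subgroup.Normal.map inferInstance _ (QuotientGroup.mk'_surjective _)) with hbot | htop
  · rw [eq_bot_iff]
    intro z hz
    obtain ⟨s, rfl⟩ := hM hz
    have hs : s ∈ Subgroup.center (Cfsg.SU n F q) := by
      rw [← QuotientGroup.eq_one_iff, ← Subgroup.mem_bot, ← hbot]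
      exact ⟨s, hz, rfl⟩
    have hzp : f s ∈ Subgroup.zpowers (fieldAut σ * iotaAut : MulAut PSLn) := by
      refine mem_zpowers_graphField hσ hq hF hn _ ?_
      rintro _ ⟨t, rfl⟩
      exact (show Commute s t from (Subgroup.mem_center_iff.1 hs t).symm).map f
    obtain ⟨k, hk⟩ := hzp
    have h1 : (f s) ^ 2 = 1 := by
      rw [← hk]
      show ((fieldAut σ * iotaAut : MulAut PSLn) ^ k) ^ 2 = 1
      rw [← zpow_natCast, ← _root_.zpow_mul, mul_comm, _root_.zpow_mul, zpow_natCast, hx2, _root_.one_zpow]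
    exact Subgroup.mem_bot.2 (orderOf_eq_one_iff.1 (Nat.eq_one_of_dvd_coprimes hcop
      (Subgroup.orderOf_dvd_natCard M hz) (orderOf_dvd_of_pow_eq_one h1)))
  · exfalso
    have hall : ∀ s, f s ∈ M ∨ False := by
      intro s
      left
      obtain ⟨u, hu, e⟩ : QuotientGroup.mk' _ s ∈ M₀.map (QuotientGroup.mk' (Subgroup.center (Cfsg.SU n F q))) := by
        rw [htop]; trivial
      obtain ⟨z, hz, rfl⟩ := (QuotientGroup.mk'_eq_mk' _).1 e
      have hzp : f z ∈ Subgroup.zpowers (fieldAut σ * iotaAut : MulAut PSLn) := by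
        refine mem_zpowers_graphField hσ hq hF hn _ ?_
        rintro _ ⟨t, rfl⟩
        exact (show Commute z t from (Subgroup.mem_center_iff.1 hz t).symm).map f
      rw [map_mul]
      refine M.mul_mem hu ?_
      obtain ⟨k, hk⟩ := hzp
      rcases Int.even_or_odd k with ⟨l, rfl⟩ | hkodd
      · rw [← hk]
        show (fieldAut σ * iotaAut : MulAut PSLn) ^ (l + l) ∈ M
        rw [← two_mul, _root_.zpow_mul, zpow_two, ← sq, hx2, _root_.one_zpow]
        exact M.one_mem
      · exfalso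
        obtain ⟨l, rfl⟩ := hkodd
        change (fieldAut σ * iotaAut : MulAut PSLn) ^ (2 * l + 1) = f z at hk
        rw [_root_.zpow_add, _root_.zpow_mul, zpow_two, ← sq, hx2, _root_.one_zpow, one_mul, zpow_one, hf, unitInn_apply] at hk
        refine iotaAut_ne hn (fieldGL σ⁻¹ (Matrix.SpecialLinearGroup.toGL (z : SLn))) σ⁻¹ ?_
        rw [← fieldAut_mul_conjAut, ← hk, ← mul_assoc, ← map_mul, inv_mul_cancel, map_one, one_mul]
    let i₀ : Fin n := ⟨0, by omega⟩
    let i₁ : Fin n := ⟨1, by omega⟩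
    let d : Fin n → F := fun i => if i = i₀ ∨ i = i₁ then -1 else 1
    have hd : (Matrix.diagonal d).det = 1 := by
      rw [det_diagonal, Fintype.prod_eq_mul i₀ i₁ (by simp [i₀, i₁]) (fun x hx => by simp [d, hx.1, hx.2])]
      simp [d]
    have hq1 : ∀ i, d i * σ (d i) = 1 := fun i => by
      simp only [d]; split_ifs <;> simp
    let s : Cfsg.SU n F q := ⟨(⟨Matrix.diagonal d, hd⟩ : SLn), fun u v => by
      show Cfsg.hermForm n F q (Matrix.diagonal d *ᵥ u) (Matrix.diagonal d *ᵥ v) = Cfsg.hermForm n F q u v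
      simp only [Cfsg.hermForm, mulVec_diagonal]
      refine Finset.sum_congr rfl fun i _ => ?_
      rw [← hq, ← hq, map_mul]
      linear_combination (u i * σ (v i)) * hq1 i⟩
    have hs1 : f s ≠ 1 := fun e => by
      rw [hf, unitInn_apply] at e
      obtain ⟨c, hc⟩ := scalar_of_conjAut_eq_one (by omega : 2 ≤ n) e
      have e0 := congrArg (fun M : GL (Fin n) F => (M : Mn) i₀ i₀) hc
      have e2 := congrArg (fun M : GL (Fin n) F => (M : Mn) ⟨2, by omega⟩ ⟨2, by omega⟩) hc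
      simp [s, d, i₀, i₁, Fin.ext_iff, Matrix.SpecialLinearGroup.toGL] at e0 e2
      exact h2 (by linear_combination e2 - e0)
    have hs2 : (f s) ^ 2 = 1 := by
      rw [← map_pow, ← map_one f]
      refine congrArg f (Subtype.ext (Subtype.ext ?_))
      show (Matrix.diagonal d) ^ 2 = (1 : Mn)
      rw [diagonal_pow, ← diagonal_one]
      congr 1; funext i; simp only [Pi.pow_apply, d]; split_ifs <;> ring
    exact hs1 (orderOf_eq_one_iff.1 (Nat.eq_one_of_dvd_coprimes hcop
      (Subgroup.orderOf_dvd_natCard M ((hall s).resolve_right id)) (orderOf_dvd_of_pow_eq_one hs2)))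

end CfsgLib.PSLAut
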