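/-
The largest order of an automorphism of PSL_d(q).
-/
import Mathlib
import Cfsg.Agent.Lib.KnownSimple.PSLAut.FieldType
import Cfsg.Agent.Lib.KnownSimple.PSLAut.GraphType

set_option autoImplicit false
set_option linter.style.haveILetI false
set_option linter.unusedSectionVars false

namespace CfsgLib.PSLMaxOrder

open Matrix Polynomial CfsgLib.PSLAut

/-! ### Arithmetic -/

/-- `1 + x + ... + x^(d-1)`. -/
def gsum (d x : ℕ) : ℕ := ∑ i ∈ Finset.range d, x ^ i

lemma gsum_mul (d x : ℕ) (hx : 1 ≤ x) : (x - 1) * gsum d x = x ^ d - 1 := by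
  obtain ⟨y, rfl⟩ : ∃ y, x = y + 1 := ⟨x - 1, by omega⟩
  have h := geom_sum_mul_add y d
  unfold gsum
  rw [Nat.add_sub_cancel, mul_comm]
  omega

lemma gsum_le_two_pow (x : ℕ) (hx : 2 ≤ x) : ∀ d, gsum (d + 1) x ≤ 2 * x ^ d
  | 0 => by simp [gsum]
  | d + 1 => by
    have h := gsum_le_two_pow x hx d
    rw [gsum, Finset.sum_range_succ, ← gsum]
    have : 2 * x ^ d ≤ x ^ (d + 1) := by
      rw [pow_succ']
      exact Nat.mul_le_mul_right _ hx
    omega

lemma mul_gsum_le {d q0 x c : ℕ} (hd : 3 ≤ d) (hq0 : 2 ≤ q0) (hx : q0 ≤ x) (hc : 2 * c * q0 ^ 2 ≤ x ^ 2) :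
    c * gsum d q0 ≤ gsum d x := by
  obtain ⟨e, rfl⟩ : ∃ e, d = e + 2 + 1 := ⟨d - 3, by omega⟩
  calc c * gsum (e + 2 + 1) q0 ≤ c * (2 * q0 ^ (e + 2)) := Nat.mul_le_mul_left _ (gsum_le_two_pow q0 hq0 _)
    _ = q0 ^ e * (2 * c * q0 ^ 2) := by ring
    _ ≤ x ^ e * x ^ 2 := Nat.mul_le_mul (Nat.pow_le_pow_left hx e) hc
    _ = x ^ (e + 2) := by ring
    _ ≤ gsum (e + 2 + 1) x := by
      rw [gsum, Finset.sum_range_succ]
      exact Nat.le_add_left _ _

lemma mul_le_pow (q0 : ℕ) (hq0 : 2 ≤ q0) : ∀ r, 1 ≤ r → r * q0 ≤ q0 ^ r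
  | 0, h => absurd h (by omega)
  | 1, _ => by simp
  | r + 2, _ => by
    have h := mul_le_pow q0 hq0 (r + 1) (by omega)
    have h2 : q0 ≤ q0 ^ (r + 1) := Nat.le_self_pow (by omega) _
    have h3 : 2 * q0 ^ (r + 1) ≤ q0 ^ (r + 2) := by
      rw [pow_succ' q0 (r + 1)]
      exact Nat.mul_le_mul_right _ hq0
    nlinarith

lemma mul_gsum_le_field {d q0 r : ℕ} (hd : 2 ≤ d) (hq0 : 2 ≤ q0) (hr : 1 ≤ r)
    (hex : ¬ (d = 2 ∧ q0 = 2 ∧ r = 2)) : r * gsum d q0 ≤ gsum d (q0 ^ r) := by
  rcases Nat.lt_or_ge r 2 with hr1 | hr2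
  · obtain rfl : r = 1 := by omega
    simp
  rcases Nat.lt_or_ge d 3 with hd2 | hd3
  · obtain rfl : d = 2 := by omega
    simp only [gsum, Finset.sum_range_succ, Finset.sum_range_zero, pow_zero, pow_one, zero_add]
    clear hd2 hd hr
    induction r, hr2 using Nat.le_induction with
    | base =>
      have : 3 ≤ q0 := by
        by_contra h
        exact hex ⟨rfl, by omega, rfl⟩
      nlinarith
    | succ r hr ih =>
      rw [pow_succ']
      rcases eq_or_ne r 2 with rfl | hne
      · nlinarith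
      · have h1 := ih (fun h => hne h.2.2)
        have h2 := mul_le_pow q0 hq0 r (by omega)
        have h3 : 2 * q0 ^ r ≤ q0 * q0 ^ r := Nat.mul_le_mul_right _ hq0
        nlinarith
  · refine mul_gsum_le hd3 hq0 (Nat.le_self_pow (by omega) _) ?_
    have h1 := mul_le_pow q0 hq0 r (by omega)
    have h2 : 2 * q0 ≤ r * q0 := Nat.mul_le_mul_right _ hr2
    nlinarith

lemma bernoulli_strict (m : ℕ) (hm : 2 ≤ m) : 2 * m ^ m < (m + 1) ^ m := by
  have h : ∀ k, 2 ≤ k → m ^ k * (m + k) + 1 ≤ (m + 1) ^ k * m := by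
    intro k hk
    induction k, hk using Nat.le_induction with
    | base => nlinarith
    | succ k _ ih =>
      have := Nat.mul_le_mul_right (m + 1) ih
      have h0 : 0 ≤ m ^ k * k := Nat.zero_le _
      rw [pow_succ, pow_succ]
      nlinarith
  have h1 := h m hm
  by_contra hc
  have h2 : (m + 1) ^ m * m ≤ 2 * m ^ m * m := Nat.mul_le_mul_right _ (not_lt.1 hc)
  nlinarith

lemma le_two_pow_sub_two : ∀ d, 4 ≤ d → d ≤ 2 ^ (d - 2) := by
  intro d hd
  induction d, hd using Nat.le_induction with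
  | base => norm_num
  | succ d hd ih =>
    rw [show d + 1 - 2 = (d - 2) + 1 by omega, pow_succ]
    omega

/-! ### Counting -/

variable {F : Type*} [Field F] [Fintype F] {n : ℕ}

local notation "PSLn" => Matrix.ProjectiveSpecialLinearGroup (Fin n) F
local notation "Mn" => Matrix (Fin n) (Fin n) F

section Units

variable {K : Type*} [CommSemiring K] [Algebra K F]

/-- The invertible matrices lying in a subalgebra. -/
def algUnits (B : Subalgebra K Mn) : Subgroup (GL (Fin n) F) where
  carrier := {x | (x : Mn) ∈ B}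
  one_mem' := B.one_mem
  mul_mem' := fun {a b} ha hb => B.mul_mem ha hb
  inv_mem' := fun {a} ha => by
    show ((a⁻¹ : GL (Fin n) F) : Mn) ∈ B
    haveI : Finite (GL (Fin n) F) := Finite.of_injective (fun x : GL (Fin n) F => (x : Mn)) Units.val_injective
    have h : a ^ (orderOf a - 1) = a⁻¹ := eq_inv_of_mul_eq_one_left (by
      rw [← pow_succ, Nat.sub_add_cancel (orderOf_pos a), pow_orderOf_eq_one])
    rw [← h, Units.val_pow_eq_pow_val]
    exact B.pow_mem ha _

lemma mem_algUnits {B : Subalgebra K Mn} {x : GL (Fin n) F} : x ∈ algUnits B ↔ (x : Mn) ∈ B := Iff.rfl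

lemma card_algUnits_lt [Nonempty (Fin n)] (B : Subalgebra K Mn) : Nat.card (algUnits B) + 1 ≤ Nat.card B := by
  classical
  haveI : Finite (algUnits B) :=
    Finite.of_injective (fun x => ((x : GL (Fin n) F) : Mn)) (Units.val_injective.comp Subtype.val_injective)
  let f : Option (algUnits B) → B := fun o => o.elim 0 fun x => ⟨((x : GL (Fin n) F) : Mn), x.2⟩
  have hf : Function.Injective f := by
    rintro (_ | a) (_ | b) hab
    · rfl
    · exact absurd (congrArg Subtype.val hab).symm b.1.ne_zero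
    · exact absurd (congrArg Subtype.val hab) a.1.ne_zero
    · exact congrArg some (Subtype.ext (Units.ext (congrArg Subtype.val hab :)))
  have := Nat.card_le_card_of_injective f hf
  rwa [Finite.card_option] at this

end Units

/-- The powers of `h` modulo scalars, times scalars. -/
lemma orderOf_mul_card_le (hn : 2 ≤ n) (h : GL (Fin n) F) (U : Subgroup Fˣ) (S : Subgroup (GL (Fin n) F))
    (hh : h ∈ S) (hU : ∀ c ∈ U, GeneralLinearGroup.scalar (Fin n) c ∈ S) :
    orderOf (conjAut h : MulAut PSLn) * Nat.card U ≤ Nat.card S := by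
  haveI : Nonempty (Fin n) := ⟨⟨0, by omega⟩⟩
  haveI : Finite (GL (Fin n) F) := Finite.of_injective (fun x : GL (Fin n) F => (x : Mn)) Units.val_injective
  let f : Fin (orderOf (conjAut h : MulAut PSLn)) × U → S := fun x =>
    ⟨GeneralLinearGroup.scalar (Fin n) x.2.1 * h ^ (x.1 : ℕ), mul_mem (hU _ x.2.2) (pow_mem hh _)⟩
  have hf : Function.Injective f := by
    rintro ⟨k, c⟩ ⟨l, e⟩ he
    have he' : GeneralLinearGroup.scalar (Fin n) c.1 * h ^ (k : ℕ) =
        GeneralLinearGroup.scalar (Fin n) e.1 * h ^ (l : ℕ) := congrArg Subtype.val he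
    have h1 := congrArg (conjAut : GL (Fin n) F →* MulAut PSLn) he'
    rw [map_mul, map_mul, conjAut_scalar hn, conjAut_scalar hn, one_mul, one_mul, map_pow, map_pow] at h1
    obtain rfl : k = l := Fin.ext (pow_injOn_Iio_orderOf k.2 l.2 h1)
    have h2 := mul_right_cancel he'
    obtain rfl : c = e := by
      refine Subtype.ext (Units.ext ?_)
      have h3 := (Matrix.ext_iff.2 (congrArg (fun y : GL (Fin n) F => (y : Mn)) h2)) ⟨0, by omega⟩ ⟨0, by omega⟩
      simpa using h3
    rfl
  have := Nat.card_le_card_of_injective f hf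
  rwa [Nat.card_prod, Nat.card_fin] at this

section Adjoin

variable {K : Type*} [Field K] [Algebra K F]

lemma natCard_adjoin_le (M : Mn) {p : K[X]} (hp : p.Monic) (hroot : aeval M p = 0) :
    Nat.card (Algebra.adjoin K ({M} : Set Mn)) ≤ Nat.card K ^ p.natDegree := by
  haveI : Finite K := Finite.of_injective _ (algebraMap K F).injective
  haveI : Finite (Polynomial.degreeLT K p.natDegree) :=
    Finite.of_equiv _ (Polynomial.degreeLTEquiv K p.natDegree).symm.toEquiv
  let T : Polynomial.degreeLT K p.natDegree → Algebra.adjoin K ({M} : Set Mn) := fun f =>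
    ⟨aeval M f.1, Polynomial.aeval_mem_adjoin_singleton K M⟩
  have hT : Function.Surjective T := by
    rintro ⟨x, hx⟩
    rw [Algebra.adjoin_singleton_eq_range_aeval] at hx
    obtain ⟨f, rfl⟩ := hx
    refine ⟨⟨f %ₘ p, ?_⟩, Subtype.ext (Polynomial.aeval_modByMonic_eq_self_of_root hroot)⟩
    rw [Polynomial.mem_degreeLT, ← Polynomial.degree_eq_natDegree hp.ne_zero]
    exact Polynomial.degree_modByMonic_lt f hp
  refine (Nat.card_le_card_of_surjective T hT).trans_eq ?_
  rw [Nat.card_congr (Polynomial.degreeLTEquiv K p.natDegree).toEquiv, Nat.card_fun, Nat.card_fin]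

/-- If `h` satisfies a polynomial of degree `m` over a subfield `K`, its image has order at most
`(|K|^m - 1)/(|K| - 1)`. -/
lemma orderOf_conjAut_le (hn : 2 ≤ n) (h : GL (Fin n) F) {p : K[X]} (hp : p.Monic)
    (hroot : aeval (h : Mn) p = 0) :
    (Nat.card K - 1) * orderOf (conjAut h : MulAut PSLn) + 1 ≤ Nat.card K ^ p.natDegree := by
  haveI : Nonempty (Fin n) := ⟨⟨0, by omega⟩⟩
  haveI : Finite K := Finite.of_injective _ (algebraMap K F).injective
  have h1 := orderOf_mul_card_le hn h (Units.map (algebraMap K F).toMonoidHom).range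
    (algUnits (Algebra.adjoin K ({(h : Mn)} : Set Mn)))
    (Algebra.subset_adjoin (Set.mem_singleton _)) (by
      rintro _ ⟨c, rfl⟩
      rw [mem_algUnits]
      refine (Eq.subst (motive := fun x : Mn => x ∈ _) ?_ (Subalgebra.algebraMap_mem _ (c : K)))
      ext i j
      rcases eq_or_ne i j with rfl | hne <;> simp [Matrix.algebraMap_matrix_apply, *])
  have hinj : Function.Injective (Units.map (algebraMap K F).toMonoidHom) :=
    Units.map_injective (algebraMap K F).injective
  rw [← Nat.card_congr (MonoidHom.ofInjective hinj).toEquiv, Nat.card_units, mul_comm] at h1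
  have h2 := card_algUnits_lt (Algebra.adjoin K ({(h : Mn)} : Set Mn))
  have h3 := natCard_adjoin_le (h : Mn) hp hroot
  omega

end Adjoin

/-! ### Semilinear automorphisms -/

omit [Fintype F] in
lemma twNorm_succ_right (σ : F ≃+* F) (g : GL (Fin n) F) : ∀ k,
    twNorm σ (k + 1) g = twNorm σ k g * fieldGL (σ ^ k) g
  | 0 => by
    rw [pow_zero, fieldGL_one]
    simp [twNorm]
  | k + 1 => by
    conv_lhs => rw [twNorm, twNorm_succ_right σ g k, map_mul, ← mul_assoc]
    rw [pow_succ', fieldGL_mul]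
    rfl

lemma one_lt_card_fixedField (σ : F ≃+* F) : 2 ≤ Nat.card (fixedField σ) :=
  Finite.one_lt_card

lemma orderOf_semilinear_le (hn : 2 ≤ n) (g : GL (Fin n) F) (σ : F ≃+* F) :
    orderOf (conjAut g * fieldAut σ : MulAut PSLn) ≤ orderOf σ * gsum n (Nat.card (fixedField σ)) := by
  classical
  haveI := finite_ringAut (F := F)
  set r := orderOf σ with hr
  set q0 := Nat.card (fixedField σ) with hq0
  have hq02 : 2 ≤ q0 := one_lt_card_fixedField σ
  set N := twNorm σ r g with hN
  have hcomm : g * fieldGL σ N = N * g := by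
    have h := twNorm_succ_right σ g r
    rw [twNorm, hr, pow_orderOf_eq_one, fieldGL_one] at h
    rw [hN, hr]
    exact h
  have hmap : (N : Mn).charpoly.map (σ : F →+* F) = (N : Mn).charpoly := by
    rw [← Matrix.charpoly_map]
    have h2 : fieldGL σ N = g⁻¹ * N * g := by rw [mul_assoc, ← hcomm, inv_mul_cancel_left]
    have h3 := congrArg (fun x : GL (Fin n) F => (x : Mn).charpoly) h2
    simp only [Units.val_mul, Matrix.coe_units_inv] at h3
    rw [Matrix.charpoly_units_conj'] at h3
    exact h3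
  have hlift : (N : Mn).charpoly ∈ Polynomial.lifts (algebraMap (fixedField σ) F) := by
    rw [Polynomial.lifts_iff_coeff_lifts]
    intro k
    refine ⟨⟨(N : Mn).charpoly.coeff k, ?_⟩, rfl⟩
    rw [mem_fixedField]
    have := congrArg (fun f : F[X] => f.coeff k) hmap
    rwa [Polynomial.coeff_map] at this
  obtain ⟨p, hpmap, hpdeg, hpmon⟩ :=
    Polynomial.lifts_and_degree_eq_and_monic hlift (Matrix.charpoly_monic _)
  have hroot : aeval (N : Mn) p = 0 := by
    rw [← Polynomial.aeval_map_algebraMap F, hpmap, Matrix.aeval_self_charpoly]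
  have hdeg : p.natDegree = n := by
    rw [Polynomial.natDegree_eq_of_degree_eq hpdeg, Matrix.charpoly_natDegree_eq_dim, Fintype.card_fin]
  have h1 := orderOf_conjAut_le hn N hpmon hroot
  rw [hdeg, ← hq0] at h1
  have h4 : (conjAut g * fieldAut σ : MulAut PSLn) ^ (r * orderOf (conjAut N : MulAut PSLn)) = 1 := by
    rw [pow_mul, conjAut_mul_fieldAut_pow, hr, pow_orderOf_eq_one, map_one, mul_one, ← hr, ← hN, pow_orderOf_eq_one]
  have hpos : 0 < orderOf (conjAut N : MulAut PSLn) := orderOf_pos _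
  refine (orderOf_le_of_pow_eq_one (Nat.mul_pos (orderOf_pos σ) hpos) h4).trans (Nat.mul_le_mul_left _ ?_)
  have h5 := gsum_mul n q0 (by omega)
  have : (q0 - 1) * orderOf (conjAut N : MulAut PSLn) ≤ (q0 - 1) * gsum n q0 := by omega
  exact Nat.le_of_mul_le_mul_left this (by omega)

/-! ### Graph-field automorphisms with trivial square on the field -/

/-- The similitudes of the sesquilinear form `A`. -/
def simGroup (σ : F ≃+* F) (A : Mn) (hA : IsUnit A) : Subgroup (GL (Fin n) F) where
  carrier := {x | ∃ a : F, (x : Mn)ᵀ * A * (x : Mn).map σ = a • A}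
  one_mem' := ⟨1, by simp [Matrix.map_one σ (map_zero σ) (map_one σ)]⟩
  mul_mem' := by
    rintro x y ⟨a, ha⟩ ⟨b, hb⟩
    refine ⟨a * b, ?_⟩
    calc ((x * y : GL (Fin n) F) : Mn)ᵀ * A * ((x * y : GL (Fin n) F) : Mn).map σ
        = (y : Mn)ᵀ * ((x : Mn)ᵀ * A * (x : Mn).map σ) * (y : Mn).map σ := by
          rw [Units.val_mul, Matrix.transpose_mul, Matrix.map_mul]
          simp only [Matrix.mul_assoc]
      _ = (a * b) • A := by
          rw [ha, Matrix.mul_smul, Matrix.smul_mul, hb, smul_smul]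
  inv_mem' := by
    rintro x ⟨a, ha⟩
    obtain ⟨u, rfl⟩ := hA
    have h0 : ((x⁻¹ : GL (Fin n) F) : Mn)ᵀ * (x : Mn)ᵀ = 1 := by
      rw [← Matrix.transpose_mul, ← Units.val_mul, mul_inv_cancel, Units.val_one, Matrix.transpose_one]
    have h1 : (x : Mn).map σ * ((x⁻¹ : GL (Fin n) F) : Mn).map σ = 1 := by
      rw [← Matrix.map_mul, ← Units.val_mul, mul_inv_cancel, Units.val_one,
        Matrix.map_one σ (map_zero σ) (map_one σ)]
    have hkey : a • (((x⁻¹ : GL (Fin n) F) : Mn)ᵀ * (u : Mn) * ((x⁻¹ : GL (Fin n) F) : Mn).map σ) = (u : Mn) := by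
      rw [← Matrix.smul_mul, ← Matrix.mul_smul, ← ha]
      simp only [← Matrix.mul_assoc]
      rw [h0, Matrix.one_mul, Matrix.mul_assoc (u : Mn), h1, Matrix.mul_one]
    rcases eq_or_ne a 0 with rfl | ha0
    · rw [zero_smul] at hkey
      exact ⟨0, by rw [← hkey]; simp⟩
    · exact ⟨a⁻¹, by conv_rhs => rw [← hkey, smul_smul, inv_mul_cancel₀ ha0, one_smul]⟩

lemma scalar_mem_simGroup (σ : F ≃+* F) (A : Mn) (hA : IsUnit A) (c : Fˣ) :
    GeneralLinearGroup.scalar (Fin n) c ∈ simGroup σ A hA := by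
  refine ⟨(c : F) * σ c, ?_⟩
  have h : (GeneralLinearGroup.scalar (Fin n) c : Mn) = (c : F) • (1 : Mn) := by
    ext i j
    rcases eq_or_ne i j with rfl | hne <;> simp [*]
  have h2 : ((c : F) • (1 : Mn)).map σ = σ c • (1 : Mn) := by
    ext i j
    rcases eq_or_ne i j with rfl | hne <;> simp [*]
  rw [h, Matrix.transpose_smul, Matrix.transpose_one, h2, Matrix.smul_mul, Matrix.mul_smul, Matrix.one_mul,
    Matrix.mul_one, smul_smul, mul_comm]

omit [Fintype F] in
lemma det_eq_zero_aeval {M : Mn} {a : F} (ha : (M - a • (1 : Mn)).det = 0) {f : F[X]} (hf : f.eval a = 0) :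
    (aeval M f).det = 0 := by
  obtain ⟨f', rfl⟩ := Polynomial.dvd_iff_isRoot.2 hf
  rw [map_mul, Matrix.det_mul, map_sub, aeval_X, aeval_C, Algebra.algebraMap_eq_smul_one, ha, zero_mul]

omit [Fintype F] in
lemma eval_eq_zero_of_root {M : Mn} {a : F} (ha : (M - a • (1 : Mn)).det = 0) {f : F[X]} (hf : aeval M f = 0) :
    f.eval a = 0 := by
  by_contra hne
  have h := det_eq_zero_aeval ha (f := f - C (f.eval a)) (by simp)
  rw [map_sub, hf, aeval_C, Algebra.algebraMap_eq_smul_one, zero_sub, ← neg_smul, Matrix.det_smul,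
    Matrix.det_one, mul_one] at h
  exact hne (neg_eq_zero.1 (pow_eq_zero_iff'.1 h).1)

/-- Counting the invertible elements of `F[M]` when every nonzero scalar is an eigenvalue. -/
lemma card_algUnits_mul_le [DecidableEq F] (M : Mn) (heig : ∀ a : F, a ≠ 0 → (M - a • (1 : Mn)).det = 0)
    {d : ℕ} (hd : (minpoly F M).natDegree = d) :
    Nat.card (algUnits (Algebra.adjoin F ({M} : Set Mn))) * Fintype.card F ^ (Fintype.card F - 1) ≤
      (Fintype.card F - 1) ^ (Fintype.card F - 1) * Fintype.card F ^ d := by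
  classical
  have hint : IsIntegral F M := IsIntegral.of_finite F M
  have hmon := minpoly.monic hint
  have hqd : Fintype.card Fˣ ≤ d := by
    rw [← hd]
    have h := Polynomial.card_le_degree_of_subset_roots (p := minpoly F M)
      (Z := (Finset.univ : Finset Fˣ).image Units.val) (by
      intro a ha
      obtain ⟨u, -, rfl⟩ := Finset.mem_image.1 ha
      rw [Polynomial.mem_roots hmon.ne_zero]
      exact eval_eq_zero_of_root (heig u u.ne_zero) (minpoly.aeval F M))
    rwa [Finset.card_image_of_injective _ Units.val_injective, Finset.card_univ] at h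
  let D := Polynomial.degreeLT F d
  haveI : Finite D := Finite.of_equiv _ (Polynomial.degreeLTEquiv F d).symm.toEquiv
  let E : D →ₗ[F] (Fˣ → F) := LinearMap.pi fun u => (Polynomial.leval (u : F)).comp D.subtype
  have hE : Function.Surjective E := by
    intro y
    refine ⟨⟨Lagrange.interpolate Finset.univ (fun u : Fˣ => (u : F)) y, ?_⟩, funext fun u => ?_⟩
    · rw [Polynomial.mem_degreeLT]
      refine (Lagrange.degree_interpolate_lt _ Units.val_injective.injOn).trans_le ?_
      rw [Finset.card_univ]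
      exact_mod_cast hqd
    · exact Lagrange.eval_interpolate_at_node y Units.val_injective.injOn (Finset.mem_univ u)
  let sec := Function.surjInv hE
  have hsec : ∀ y, E (sec y) = y := Function.surjInv_eq hE
  let e : D ≃ LinearMap.ker E × (Fˣ → F) :=
    { toFun := fun p => (⟨p - sec (E p), by rw [LinearMap.mem_ker, map_sub, hsec, sub_self]⟩, E p)
      invFun := fun x => x.1.1 + sec x.2
      left_inv := fun p => sub_add_cancel _ _
      right_inv := fun x => by
        have h0 : E x.1.1 = 0 := x.1.2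
        refine Prod.ext (Subtype.ext ?_) ?_ <;> simp [h0, hsec] }
  have hcardD : Nat.card (LinearMap.ker E) * Fintype.card F ^ (Fintype.card F - 1) = Fintype.card F ^ d := by
    have h := Nat.card_congr e
    rw [Nat.card_congr (Polynomial.degreeLTEquiv F d).toEquiv, Nat.card_prod, Nat.card_fun, Nat.card_fun,
      Nat.card_units, Nat.card_fin, Nat.card_eq_fintype_card (α := F)] at h
    exact h.symm
  have hsurjD : ∀ x : algUnits (Algebra.adjoin F ({M} : Set Mn)),
      ∃ p : {p : D // ∀ u, E p u ≠ 0}, aeval M p.1.1 = ((x : GL (Fin n) F) : Mn) := by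
    intro x
    have hx : ((x : GL (Fin n) F) : Mn) ∈ Algebra.adjoin F ({M} : Set Mn) := x.2
    obtain ⟨f, hf⟩ := (Algebra.adjoin_singleton_eq_range_aeval F M).le hx
    have hrem : aeval M (f %ₘ minpoly F M) = ((x : GL (Fin n) F) : Mn) := by
      rw [Polynomial.aeval_modByMonic_eq_self_of_root (minpoly.aeval F M)]; exact hf
    refine ⟨⟨⟨f %ₘ minpoly F M, ?_⟩, fun u hu => ?_⟩, hrem⟩
    · rw [Polynomial.mem_degreeLT, ← hd, ← Polynomial.degree_eq_natDegree hmon.ne_zero]
      exact Polynomial.degree_modByMonic_lt f hmon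
    · have h := det_eq_zero_aeval (heig u u.ne_zero) (f := f %ₘ minpoly F M) hu
      rw [hrem] at h
      exact (Matrix.isUnit_iff_isUnit_det _).1 (x : GL (Fin n) F).isUnit |>.ne_zero h
  choose P hP using hsurjD
  have hPinj : Function.Injective P := fun x y hxy => Subtype.ext (Units.ext (by rw [← hP x, ← hP y, hxy]))
  have hle := Nat.card_le_card_of_injective P hPinj
  have hgood : Nat.card {p : D // ∀ u, E p u ≠ 0} =
      Nat.card (LinearMap.ker E) * (Fintype.card F - 1) ^ (Fintype.card F - 1) := by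
    let e1 : {p : D // ∀ u, E p u ≠ 0} ≃ {x : LinearMap.ker E × (Fˣ → F) // ∀ u, x.2 u ≠ 0} :=
      e.subtypeEquiv fun p => Iff.rfl
    let e2 : {x : LinearMap.ker E × (Fˣ → F) // ∀ u, x.2 u ≠ 0} ≃ LinearMap.ker E × (Fˣ → {a : F // a ≠ 0}) :=
      { toFun := fun x => (x.1.1, fun u => ⟨x.1.2 u, x.2 u⟩)
        invFun := fun x => ⟨(x.1, fun u => (x.2 u).1), fun u => (x.2 u).2⟩
        left_inv := fun x => rfl
        right_inv := fun x => rfl }
    rw [Nat.card_congr (e1.trans e2), Nat.card_prod, Nat.card_fun, ← Nat.card_congr unitsEquivNeZero,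
      Nat.card_units, Nat.card_eq_fintype_card (α := F)]
  calc Nat.card (algUnits (Algebra.adjoin F ({M} : Set Mn))) * Fintype.card F ^ (Fintype.card F - 1)
      ≤ Nat.card (LinearMap.ker E) * (Fintype.card F - 1) ^ (Fintype.card F - 1) *
          Fintype.card F ^ (Fintype.card F - 1) := Nat.mul_le_mul_right _ (hgood ▸ hle)
    _ = _ := by rw [← hcardD]; ring

lemma form_identity (σ : F ≃+* F) (hinv : ∀ a, σ (σ a) = a) (g : GL (Fin n) F) :
    ((g * fieldGL σ (iotaGL g) : GL (Fin n) F) : Mn)ᵀ * (iotaGL g : Mn) *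
        ((g * fieldGL σ (iotaGL g) : GL (Fin n) F) : Mn).map σ = (iotaGL g : Mn) := by
  have hσσ : ∀ M : Mn, (M.map σ).map σ = M := fun M => Matrix.ext fun i j => hinv _
  have h1 : (g : Mn)ᵀ * (iotaGL g : Mn) = 1 := by
    rw [iotaGL_val, ← Matrix.transpose_mul, ← Units.val_mul, inv_mul_cancel, Units.val_one, Matrix.transpose_one]
  have h2 : ((g⁻¹ : GL (Fin n) F) : Mn).map σ * (g : Mn).map σ = 1 := by
    rw [← Matrix.map_mul, ← Units.val_mul, inv_mul_cancel, Units.val_one,
      Matrix.map_one σ (map_zero σ) (map_one σ)]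
  rw [Units.val_mul, fieldGL_val, Matrix.transpose_mul, Matrix.map_mul, hσσ, iotaGL_val, ← Matrix.transpose_map,
    Matrix.transpose_transpose, Matrix.mul_assoc (((g⁻¹ : GL (Fin n) F) : Mn).map σ)]
  rw [iotaGL_val] at h1
  rw [h1, Matrix.mul_one, ← Matrix.mul_assoc, h2, Matrix.one_mul]

/-- If all of `1, x, x², ...` up to the dimension are independent, `x + c` is a similitude only for `c = 0`. -/
lemma add_scalar_not_mem_simGroup (σ : F ≃+* F) (hinv : ∀ a, σ (σ a) = a) (A : Mn) (hA : IsUnit A)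
    (h x : GL (Fin n) F) (hid : (h : Mn)ᵀ * A * (h : Mn).map σ = A) (hdeg : 2 < (minpoly F (h : Mn)).natDegree)
    {c : F} (hc : c ≠ 0) (hx : (x : Mn) = (h : Mn) + c • (1 : Mn)) : x ∉ simGroup σ A hA := by
  rintro ⟨a, ha⟩
  set H : Mn := (h : Mn) with hH
  set K : Mn := H.map σ with hK
  have hone : ((c • (1 : Mn)).map σ) = σ c • (1 : Mn) := by
    ext i j
    rcases eq_or_ne i j with rfl | hne <;> simp [*]
  rw [hx, Matrix.transpose_add, Matrix.transpose_smul, Matrix.transpose_one, Matrix.map_add σ (map_add σ), hone,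
    ← hK] at ha
  -- the expanded identity, times `σ h` on the right
  have h1 : A * (c • (K * K) + (1 + c * σ c - a) • K + σ c • (1 : Mn)) = 0 := by
    have h2 : ((Hᵀ + c • 1) * A * (K + σ c • 1) - a • A) * K = 0 := by rw [ha, sub_self, Matrix.zero_mul]
    have hid' : Hᵀ * A * K = A := hid
    rw [← h2]
    simp only [Matrix.mul_add, Matrix.add_mul, Matrix.mul_smul, Matrix.smul_mul, Matrix.mul_one,
      Matrix.one_mul, hid', Matrix.mul_assoc, smul_add, smul_smul, sub_eq_add_neg, add_smul, one_smul, neg_smul,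
      Matrix.neg_mul, Matrix.mul_neg]
    rw [mul_comm (σ c) c]
    abel
  have h3 : c • (K * K) + (1 + c * σ c - a) • K + σ c • (1 : Mn) = 0 :=
    hA.mul_right_eq_zero.1 h1
  have hsm : ∀ (b : F) (M : Mn), (b • M).map σ = σ b • M.map σ := fun b M => by
    ext i j
    simp
  have hKK : K.map σ = H := Matrix.ext fun i j => hinv _
  have h4 : σ c • (H * H) + σ (1 + c * σ c - a) • H + c • (1 : Mn) = 0 := by
    have h5 := congrArg (fun M : Mn => M.map σ) h3
    simp only [Matrix.map_add σ (map_add σ), hsm, Matrix.map_mul, hKK, Matrix.map_zero σ (map_zero σ),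
      Matrix.map_one σ (map_zero σ) (map_one σ), hinv] at h5
    exact h5
  let p : F[X] := C (σ c) * X ^ 2 + C (σ (1 + c * σ c - a)) * X + C c
  have hp : aeval H p = 0 := by
    rw [← h4]
    simp only [p, map_add, map_mul, aeval_C, aeval_X, Algebra.algebraMap_eq_smul_one, Matrix.smul_mul,
      Matrix.one_mul, sq]
  have hp0 : p ≠ 0 := fun h0 => hc (by simpa [p] using congrArg (fun f : F[X] => f.coeff 0) h0)
  have h6 := Polynomial.natDegree_le_natDegree (minpoly.degree_le_of_ne_zero F H hp0 hp)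
  have h7 : p.natDegree ≤ 2 := by
    simp only [p]
    compute_degree
  omega

/-- The bound for `h` attached to a graph automorphism. -/
lemma two_mul_orderOf_graph_le (hn : 3 ≤ n) (h32 : ¬ (n = 3 ∧ Fintype.card F = 2)) (σ : F ≃+* F)
    (hinv : ∀ a, σ (σ a) = a) (A : Mn) (hA : IsUnit A) (h : GL (Fin n) F)
    (hid : (h : Mn)ᵀ * A * (h : Mn).map σ = A) :
    2 * ((Fintype.card F - 1) * orderOf (conjAut h : MulAut PSLn)) ≤ Fintype.card F ^ n - 1 := by
  classical
  haveI : Nonempty (Fin n) := ⟨⟨0, by omega⟩⟩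
  haveI : Finite (GL (Fin n) F) := Finite.of_injective (fun x : GL (Fin n) F => (x : Mn)) Units.val_injective
  set q := Fintype.card F with hq
  have hq2 : 2 ≤ q := Fintype.one_lt_card
  set o := orderOf (conjAut h : MulAut PSLn) with ho
  have hint : IsIntegral F (h : Mn) := IsIntegral.of_finite F _
  have hmn : (minpoly F (h : Mn)).natDegree ≤ n := by
    have := Polynomial.natDegree_le_of_dvd (Matrix.minpoly_dvd_charpoly (h : Mn)) (Matrix.charpoly_monic _).ne_zero
    rwa [Matrix.charpoly_natDegree_eq_dim, Fintype.card_fin] at this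
  rcases Nat.lt_or_ge (minpoly F (h : Mn)).natDegree n with hlt | hge
  · have h1 := orderOf_conjAut_le (by omega) h (minpoly.monic hint) (minpoly.aeval F _)
    rw [Nat.card_eq_fintype_card, ← hq, ← ho] at h1
    have h2 : q ^ (minpoly F (h : Mn)).natDegree ≤ q ^ (n - 1) := Nat.pow_le_pow_right (by omega) (by omega)
    have h3 : 2 * q ^ (n - 1) ≤ q ^ n := by
      conv_rhs => rw [show n = n - 1 + 1 by omega, pow_succ']
      exact Nat.mul_le_mul_right _ hq2
    omega
  have hm : (minpoly F (h : Mn)).natDegree = n := le_antisymm hmn hge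
  set B := Algebra.adjoin F ({(h : Mn)} : Set Mn) with hB
  have hhB : h ∈ algUnits B := Algebra.subset_adjoin (Set.mem_singleton _)
  have hscB : ∀ c : Fˣ, GeneralLinearGroup.scalar (Fin n) c ∈ algUnits B := by
    intro c
    rw [mem_algUnits]
    refine (Eq.subst (motive := fun x : Mn => x ∈ B) ?_ (Subalgebra.algebraMap_mem B (c : F)))
    ext i j
    rcases eq_or_ne i j with rfl | hne <;> simp [Matrix.algebraMap_matrix_apply, *]
  have hS1 := card_algUnits_lt B
  have hS2 : Nat.card B ≤ q ^ n := by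
    have := natCard_adjoin_le (h : Mn) (minpoly.monic hint) (minpoly.aeval F _)
    rwa [Nat.card_eq_fintype_card (α := F), ← hq, hm] at this
  have hUc : Nat.card (⊤ : Subgroup Fˣ) = q - 1 := by
    rw [Subgroup.card_top, Nat.card_units, Nat.card_eq_fintype_card]
  by_cases hx : ∃ c : F, c ≠ 0 ∧ ((h : Mn) + c • (1 : Mn)).det ≠ 0
  · obtain ⟨c, hc, hdet⟩ := hx
    let x : GL (Fin n) F := GeneralLinearGroup.mkOfDetNeZero _ hdet
    have hxB : x ∈ algUnits B := by
      rw [mem_algUnits]
      show (h : Mn) + c • (1 : Mn) ∈ B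
      exact B.add_mem hhB (B.smul_mem B.one_mem c)
    have hxU := add_scalar_not_mem_simGroup σ hinv A hA h x hid (by omega) hc rfl
    set T := algUnits B ⊓ simGroup σ A hA with hT
    have h1 := orderOf_mul_card_le (by omega) h ⊤ T ⟨hhB, 1, by rw [hid, one_smul]⟩
      (fun c _ => ⟨hscB c, scalar_mem_simGroup σ A hA c⟩)
    rw [hUc, ← ho] at h1
    obtain ⟨k, hk⟩ := Subgroup.card_dvd_of_le (inf_le_left : T ≤ algUnits B)
    have hk2 : 2 ≤ k := by
      by_contra hk2
      have hkpos : 0 < Nat.card (algUnits B) := Nat.card_pos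
      have hk1 : k = 1 := by
        rcases Nat.eq_zero_or_pos k with rfl | hkp
        · rw [mul_zero] at hk; omega
        · omega
      rw [hk1, mul_one] at hk
      exact hxU ((Subgroup.eq_of_le_of_card_ge inf_le_left hk.le).ge hxB).2
    have h2 : 2 * Nat.card T ≤ Nat.card (algUnits B) := by
      rw [hk, mul_comm 2]
      exact Nat.mul_le_mul_left _ hk2
    rw [mul_comm o] at h1
    omega
  · push Not at hx
    have heig : ∀ a : F, a ≠ 0 → ((h : Mn) - a • (1 : Mn)).det = 0 := by
      intro a ha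
      have := hx (-a) (neg_ne_zero.2 ha)
      rwa [neg_smul, ← sub_eq_add_neg] at this
    have h0 := card_algUnits_mul_le (h : Mn) heig hm
    rw [← hq, ← hB] at h0
    have h1 := orderOf_mul_card_le (by omega) h ⊤ (algUnits B) hhB fun c _ => hscB c
    rw [hUc, ← ho, mul_comm] at h1
    rcases Nat.lt_or_ge q 3 with hq3 | hq3
    · have hq' : q = 2 := by omega
      rw [hq'] at h0 h1 ⊢
      simp only [Nat.reduceSub, pow_one, one_mul] at h0 h1 ⊢
      have hn4 : 4 ≤ n := by
        by_contra hc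
        exact h32 ⟨by omega, hq'⟩
      have hp1 : 2 ^ n = 2 * 2 ^ (n - 1) := by
        conv_lhs => rw [show n = n - 1 + 1 by omega, pow_succ']
      rcases Nat.lt_or_ge o (2 ^ (n - 1)) with hlt | hge'
      · omega
      exfalso
      have hoB : o = Nat.card (algUnits B) ∧ Nat.card (algUnits B) = 2 ^ (n - 1) := by omega
      haveI : CharP F 2 := charP_of_card_eq_prime hq'
      have hsc : ∀ c : Fˣ, GeneralLinearGroup.scalar (Fin n) c = (1 : GL (Fin n) F) := by
        intro c
        haveI : Subsingleton Fˣ := Finite.card_le_one_iff_subsingleton.1 (by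
          rw [Nat.card_units, Nat.card_eq_fintype_card, ← hq, hq'])
        rw [Subsingleton.elim c 1, map_one]
      have hoh : orderOf h = o := by
        refine (orderOf_eq_orderOf_iff.2 fun k => ⟨fun hk => ?_, fun hk => ?_⟩)
        · rw [← map_pow, hk, map_one]
        · rw [← map_pow] at hk
          obtain ⟨c, hc⟩ := scalar_of_conjAut_eq_one (by omega) hk
          rw [hc, hsc]
      have hpow : h ^ 2 ^ (n - 1) = 1 := by rw [← hoB.2, ← hoB.1, ← hoh, pow_orderOf_eq_one]
      set M : Mn := (h : Mn) - 1 with hM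
      have hM1 : ∀ k, M ^ 2 ^ k = (h : Mn) ^ 2 ^ k - 1 := fun k => by
        rw [hM, sub_pow_char_pow_of_commute _ _ (Commute.one_right _), one_pow]
      have hMnil : IsNilpotent M :=
        ⟨2 ^ (n - 1), by rw [hM1, ← Units.val_pow_eq_pow_val, hpow, Units.val_one, sub_self]⟩
      have hMn : M ^ n = 0 := by
        obtain ⟨N, hN⟩ := hMnil
        have hdv : minpoly F M ∣ X ^ N := minpoly.dvd F M (by rw [map_pow, aeval_X, hN])
        obtain ⟨i, -, hi⟩ := (dvd_prime_pow Polynomial.prime_X _).1 hdv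
        have hi' : minpoly F M = X ^ i :=
          eq_of_monic_of_associated (minpoly.monic (IsIntegral.of_finite F M)) (monic_X_pow i) hi
        have hin : i ≤ n := by
          have h3 := Polynomial.natDegree_le_of_dvd (Matrix.minpoly_dvd_charpoly M) (Matrix.charpoly_monic _).ne_zero
          rwa [Matrix.charpoly_natDegree_eq_dim, Fintype.card_fin, hi', natDegree_X_pow] at h3
        have h4 := minpoly.aeval F M
        rw [hi', map_pow, aeval_X] at h4
        exact pow_eq_zero_of_le hin h4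
      have hlow : h ^ 2 ^ (n - 2) = 1 := by
        refine Units.ext (sub_eq_zero.1 ?_)
        rw [Units.val_pow_eq_pow_val, Units.val_one, ← hM1]
        exact pow_eq_zero_of_le (le_two_pow_sub_two n hn4) hMn
      have hle := orderOf_le_of_pow_eq_one (Nat.two_pow_pos _) hlow
      have hlt' : 2 ^ (n - 2) < 2 ^ (n - 1) := Nat.pow_lt_pow_right (by norm_num) (by omega)
      omega
    · have hb := bernoulli_strict (q - 1) (by omega)
      rw [Nat.sub_add_cancel (by omega : 1 ≤ q)] at hb
      have hpos : 0 < q ^ n := Nat.pow_pos (by omega)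
      have h3 : 2 * Nat.card (algUnits B) * q ^ (q - 1) < q ^ n * q ^ (q - 1) :=
        calc 2 * Nat.card (algUnits B) * q ^ (q - 1) ≤ 2 * (q - 1) ^ (q - 1) * q ^ n := by
              rw [mul_assoc, mul_assoc]; exact Nat.mul_le_mul_left _ h0
          _ < q ^ (q - 1) * q ^ n := Nat.mul_lt_mul_of_pos_right hb hpos
          _ = _ := mul_comm _ _
      have h4 := Nat.lt_of_mul_lt_mul_right h3
      omega

/-! ### The main bound -/

/-- No automorphism of `PSL_n(q)` has order exceeding `(q^n - 1)/(q - 1)`. -/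
theorem orderOf_aut_le (hn : 2 ≤ n) (h24 : ¬ (n = 2 ∧ Fintype.card F = 4))
    (h32 : ¬ (n = 3 ∧ Fintype.card F = 2)) (φ : MulAut PSLn) :
    (Fintype.card F - 1) * orderOf φ ≤ Fintype.card F ^ n - 1 := by
  haveI := finite_ringAut (F := F)
  have hq2 : 2 ≤ Fintype.card F := Fintype.one_lt_card
  suffices h : orderOf φ ≤ gsum n (Fintype.card F) by
    exact (Nat.mul_le_mul_left _ h).trans (gsum_mul n _ (by omega)).le
  obtain ⟨g, σ, rfl | ⟨hn3, rfl⟩⟩ := aut_classification hn φ
  · refine (orderOf_semilinear_le hn g σ).trans ?_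
    rw [card_fixedField σ]
    refine mul_gsum_le_field hn (one_lt_card_fixedField σ) (orderOf_pos σ) ?_
    rintro ⟨hd, hq, hr⟩
    exact h24 ⟨hd, by rw [card_fixedField σ, hq, hr]; norm_num⟩
  have hsq : (conjAut g * fieldAut σ * iotaAut : MulAut PSLn) ^ 2 =
      conjAut (g * fieldGL σ (iotaGL g)) * fieldAut (σ * σ) := by
    rw [mul_assoc, graphField_sq]
  set ψ : MulAut PSLn := conjAut (g * fieldGL σ (iotaGL g)) * fieldAut (σ * σ) with hψ
  have hle2 : orderOf (conjAut g * fieldAut σ * iotaAut : MulAut PSLn) ≤ 2 * orderOf ψ := by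
    refine orderOf_le_of_pow_eq_one (Nat.mul_pos two_pos (orderOf_pos _)) ?_
    rw [pow_mul, hsq, pow_orderOf_eq_one]
  refine hle2.trans ?_
  rcases eq_or_ne (σ * σ) 1 with hss | hss
  · have hinv : ∀ a, σ (σ a) = a := fun a => by rw [← RingAut.mul_apply, hss]; rfl
    have h1 := two_mul_orderOf_graph_le hn3 h32 σ hinv (iotaGL g : Mn) (Units.isUnit _)
      (g * fieldGL σ (iotaGL g)) (form_identity σ hinv g)
    have h2 := gsum_mul n (Fintype.card F) (by omega)
    have hψ' : ψ = conjAut (g * fieldGL σ (iotaGL g)) := by rw [hψ, hss, map_one, mul_one]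
    rw [hψ']
    refine Nat.le_of_mul_le_mul_left ?_ (show 0 < Fintype.card F - 1 by omega)
    rw [h2, mul_left_comm]
    exact h1
  · have h1 := orderOf_semilinear_le hn (g * fieldGL σ (iotaGL g)) (σ * σ)
    rw [← hψ] at h1
    refine (Nat.mul_le_mul_left 2 h1).trans ?_
    rw [card_fixedField (σ * σ), ← mul_assoc]
    set r := orderOf (σ * σ) with hr
    set q0 := Nat.card (fixedField (σ * σ)) with hq0
    have hq02 : 2 ≤ q0 := one_lt_card_fixedField _
    have hr2 : 2 ≤ r := by
      have h0 := orderOf_pos (σ * σ)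
      rw [← hr] at h0
      rcases Nat.lt_or_ge r 2 with h | h
      · exact absurd (orderOf_eq_one_iff.1 (show orderOf (σ * σ) = 1 by omega)) hss
      · exact h
    have hx : 4 * q0 ≤ q0 ^ r := by
      rcases Nat.lt_or_ge r 3 with hr3 | hr3
      · have hr' : r = 2 := by omega
        haveI : Fact (Nat.Prime 2) := ⟨Nat.prime_two⟩
        have h4 : orderOf σ = 2 ^ (1 + 1) := orderOf_eq_prime_pow (by rwa [pow_one, sq]) (by
          rw [show 2 ^ (1 + 1) = 2 * r by rw [hr']; norm_num, pow_mul, sq, hr, pow_orderOf_eq_one])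
        have h5 := card_fixedField (σ * σ)
        rw [← hr, ← hq0, hr', card_fixedField σ, h4] at h5
        have h6 : 2 ≤ Nat.card (fixedField σ) := one_lt_card_fixedField σ
        have h7 : Nat.card (fixedField σ) ^ 2 = q0 :=
          Nat.pow_left_injective (by norm_num : 2 ≠ 0) (by
            show (Nat.card (fixedField σ) ^ 2) ^ 2 = q0 ^ 2
            rw [← pow_mul]; exact h5)
        rw [hr', sq q0]
        refine Nat.mul_le_mul_right _ ?_
        nlinarith
      · calc 4 * q0 ≤ q0 ^ 2 * q0 := Nat.mul_le_mul_right _ (by nlinarith)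
          _ = q0 ^ 3 := by ring
          _ ≤ q0 ^ r := Nat.pow_le_pow_right (by omega) hr3
    refine mul_gsum_le hn3 hq02 (le_trans (by omega) hx) ?_
    calc 2 * (2 * r) * q0 ^ 2 = (4 * q0) * (r * q0) := by ring
      _ ≤ q0 ^ r * q0 ^ r := Nat.mul_le_mul hx (mul_le_pow q0 hq02 r (by omega))
      _ = (q0 ^ r) ^ 2 := (sq _).symm

end CfsgLib.PSLMaxOrder
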